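import Cfsg.Agent.Lib.Invol.Co1.Qt

/-!
# Every involution lies in one of three classes
-/

set_option autoImplicit false
set_option linter.unusedSectionVars false

namespace Cfsg.Agent.Invol.Co1

open Cfsg.Agent.Classical.BinCoc Cfsg.Agent.Invol.Big Cfsg.Agent.Invol.Big.Code

/-- The product of two lines `⟨2, 4⟩`. -/
def lav : List ℕ := lrep.getD 1 []

/-- The vector used for the fixed product. -/
def dvec (e f : Bool) : ℕ := (if e then 128 else 0) ^^^ (if f then 8 else 0)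

/-- The differences moved by an action. -/
def moved (σ : ℕ → ℕ) : List ℕ := imL K8 σ

theorem rank2_ok : ((List.range 256).all fun u =>
    (!(tE 2 u == u) || (!bq K8 1 u && !bq K8 2 u)) && (!(tE 136 u == u ^^^ 1) || (!bq K8 1 u && bq K8 136 u))) = true := by
  decide +kernel

theorem moved_ok : (([0, 1, 2, 3].all fun u => (moved (tE 2)).contains u) &&
    ([0, 1, 136, 137].all fun u => (moved (tE 136)).contains u)) = true := by decide +kernel

theorem za_ok : ((za.all fun p => Wok K8 p.2 && wd K8 p.2 1 == 1 &&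
      bt (fun a => wd K8 p.2 (tE 2 a)) == bt (fun a => tE 2 (wd K8 p.2 a)) &&
      [0, 1, 2, 3].contains (wd K8 p.2 p.1 ^^^ 4)) &&
    (List.range 256).all fun u => K8.q u || bq K8 1 u || bq K8 2 u || [0, 1, 2, 3].contains u ||
      (za.map Prod.fst).contains u) = true := by
  simp only [wok_eq]
  decide +kernel

theorem zc_ok : ((zc.all fun p => Wok K8 p.2 && wd K8 p.2 1 == 1 &&
      bt (fun a => wd K8 p.2 (tE 136 a)) == bt (fun a => tE 136 (wd K8 p.2 a)) &&
      [0, 1, 136, 137].contains (wd K8 p.2 p.1 ^^^ 42)) &&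
    (List.range 256).all fun u => !K8.q u || bq K8 1 u || !bq K8 136 u || (zc.map Prod.fst).contains u) = true := by
  simp only [wok_eq]
  decide +kernel

theorem s_ok : ([c1, c2].all fun k => Wok K8 k && wd K8 k 4 == 1 && [(2, 4), (4, 2)].contains (wd K8 k 1, wd K8 k 2) &&
    bt (fun a => wd K8 k (tE 2 a)) == bt (fun a => wd K8 lav (wd K8 k a)) &&
    bt (fun a => wd K8 k (tE 4 a)) == bt (fun a => tE (wd K8 k 1) (wd K8 k a))) = true := by
  simp only [wok_eq]
  decide +kernel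

theorem c12_ok : (wd K8 c1 1 = 2 ∧ wd K8 c2 1 = 4 ∧ Wok K8 lav = true ∧ wd K8 lav 1 = 1) := by
  simp only [wok_eq]
  decide +kernel

theorem lav_ok : ([2, 4, 8, 128, 136].all fun b => bq K8 2 b == false && bq K8 4 b == false &&
    bt (fun a => wd K8 lav (tE b a)) == bt (fun a => tE b (wd K8 lav a))) = true := by decide +kernel

theorem four_ok : ([(8, 2), (128, 3), (136, 4)].all fun p =>
    bt (wd K8 (sigs.getD p.2 [])) == bt (fun a => wd K8 lav (tE p.1 a)) &&
    decide ((fixL K8 (wd K8 (sigs.getD p.2 []))).length = 16) &&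
    (List.range 256).all fun a =>
      !(wd K8 lav (tE p.1 a) ^^^ a == qn K8 p.1) ||
        (!bq K8 1 a && !bq K8 2 a && !bq K8 4 a && (bq K8 p.1 a == K8.q p.1) && !K8.q a &&
          [(false, false), (false, true), (true, false), (true, true)].all fun c =>
            (xor ((p.1 == 8 || p.1 == 136) && c.1) ((p.1 == 128 || p.1 == 136) && c.2) != K8.q p.1) ||
              (moved (wd K8 (sigs.getD p.2 []))).contains (a ^^^ dvec c.1 c.2))) = true := by
  decide +kernel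

theorem dvec_ok : ([(false, false), (false, true), (true, false), (true, true)].all fun c =>
    decide (dvec c.1 c.2 < 256) && !bq K8 1 (dvec c.1 c.2) && !bq K8 2 (dvec c.1 c.2) && !bq K8 4 (dvec c.1 c.2) &&
      (bq K8 8 (dvec c.1 c.2) == c.1) && (bq K8 128 (dvec c.1 c.2) == c.2)) = true := by decide +kernel

theorem sigs_ok : (sigs.length = 5 ∧ bt (wd K8 (sigs.getD 0 [])) = bt (tE 2) ∧
    bt (wd K8 (sigs.getD 1 [])) = bt (tE 136) ∧ (sp [2, 4, 8, 128]).Nodup ∧ (sp [2, 4, 8, 128]).length = 16) := by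
  decide +kernel

theorem small_ok : (2 ∈ rs ∧ 4 ∈ rs ∧ 8 ∈ rs ∧ 128 ∈ rs ∧ 136 ∈ rs ∧ K8.q 2 = false ∧ K8.q 4 = false ∧ K8.q 6 = false ∧
    K8.q 136 = true ∧ K8.q 42 = true ∧ bq K8 1 4 = false ∧ bq K8 1 42 = false ∧ bq K8 1 64 = false ∧ bq K8 2 64 = false ∧
    bq K8 64 4 = true ∧ bq K8 1 136 = false ∧ bq K8 136 136 = false ∧ bq K8 136 42 = true ∧ bq K8 2 1 = false ∧
    bq K8 4 1 = false ∧ bq K8 4 2 = false ∧ bq K8 2 4 = false ∧ bq K8 2 2 = false ∧ bq K8 1 2 = false ∧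
    bq K8 4 4 = false ∧ bq K8 1 1 = false ∧ K8.q 0 = false) := by decide +kernel

variable {G : Type*} [Group G] [Finite G] {z : G} {Q : Subgroup G} {cd : G → ℕ}

theorem comm_left_conj {a b : G} (h : a * b = b * a) : a * b * a⁻¹ = b := by rw [h, mul_inv_cancel_right]

/-- A common element is killed by conjugation into a shift of codes. -/
theorem shift (h : Code K8 z Q cd) {y : G} {σ : ℕ → ℕ} (hy : h.Acts y σ) (hy2 : y * y = 1) {b : ℕ} (hb : b < 256) :
    ∃ x ∈ Q, cd x = σ b ^^^ b ∧ h.rep b * y * (h.rep b)⁻¹ = y * x := by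
  have hr := h.rep_mem b
  have hyi : y⁻¹ = y := inv_eq_of_mul_eq_one_right hy2
  have hn : y * h.rep b * y⁻¹ ∈ Q := h.ext.norm y hy.1 _ hr
  refine ⟨y * h.rep b * y⁻¹ * (h.rep b)⁻¹, mul_mem hn (inv_mem hr), ?_, ?_⟩
  · rw [h.mul _ hn _ (inv_mem hr), h.cd_inv hr, h.cd_rep (show b < 2 ^ K8.n from hb), ← hy.2 b hb]; rfl
  · calc h.rep b * y * (h.rep b)⁻¹ = (y * y) * h.rep b * y * (h.rep b)⁻¹ := by rw [hy2, one_mul]
      _ = y * (y * h.rep b * y) * (h.rep b)⁻¹ := by group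
      _ = _ := by rw [hyi]; group

/-- Move the part in `Q` to a wanted code. -/
theorem shift_to (h : Code K8 z Q cd) {c x : G} {σ : ℕ → ℕ} (hy : h.Acts (c * x) σ) (hy2 : c * x * (c * x) = 1)
    (hx : x ∈ Q) {d : ℕ} (hd : d < 256) (hm : (moved σ).contains (cd x ^^^ d) = true) :
    IsConj (c * x) (c * h.rep d) ∨ IsConj (c * x) (c * h.rep d * z) := by
  simp only [moved, imL, List.contains_iff_mem, List.mem_map, pts, List.mem_range] at hm
  obtain ⟨b, hb, hbm⟩ := hm
  obtain ⟨x', hx', hc', he⟩ := shift h hy hy2 (b := b) hb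
  have hcd : cd (x * x') = d := by
    rw [h.mul _ hx _ hx', hc', hbm, ← Nat.xor_assoc, Nat.xor_self, Nat.zero_xor]
  have hcon : IsConj (c * x) (c * (x * x')) := isConj_iff.2 ⟨h.rep b, by rw [he, mul_assoc]⟩
  rcases (h.cd_eq_iff (h.rep_mem d) (mul_mem hx hx')).1 (by rw [hcd, h.cd_rep (show d < 2 ^ K8.n from hd)]) with
    e | e <;> rw [e] at hcon
  · exact Or.inl hcon
  · exact Or.inr (by rwa [← mul_assoc] at hcon)

namespace Pr

variable {g : G}

theorem comm_x (P : Pr z Q cd g) {p x : G} {w : ℕ} (hp : InP P.code g p w) (hx : x ∈ Q)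
    (hb : bq K8 1 (cd x) = false) (hbw : bq K8 w (cd x) = false) : p * x = x * p := by
  have e := P.cm_eq hp hx hb
  rw [hbw, if_neg (by simp), cm, inv_mul_eq_one] at e
  exact mul_inv_eq_iff_eq_mul.1 e.symm

theorem conj_x (P : Pr z Q cd g) {p x : G} {w : ℕ} (hp : InP P.code g p w) (hx : x ∈ Q)
    (hb : bq K8 1 (cd x) = false) :
    x * p * x⁻¹ = (if bq K8 w (cd x) then g * z * g⁻¹ * z else 1) * p := by
  obtain ⟨h1, h2⟩ := P.cm_mem hp.1 hp.2.1 hx hb
  have hd2 := P.d_sq h1 h2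
  have hdx : x * cm p x = cm p x * x := P.d_comm h1 h2 (P.code.ext.central x hx) (P.x_t hx hb)
  rw [← P.cm_eq hp hx hb]
  calc x * p * x⁻¹ = (x * (cm p x)⁻¹) * x⁻¹ * p := by rw [cm]; group
    _ = (x * cm p x) * x⁻¹ * p := by rw [inv_eq_of_mul_eq_one_right hd2]
    _ = _ := by rw [hdx, mul_inv_cancel_right]

theorem sq_px (P : Pr z Q cd g) {p x : G} {w : ℕ} (hp : InP P.code g p w) (hx : x ∈ Q)
    (hb : bq K8 1 (cd x) = false) :
    p * x * (p * x) = z ^ qn K8 (cd x) * (if bq K8 w (cd x) then g * z * g⁻¹ * z else 1) * (p * p) := by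
  obtain ⟨h1, h2⟩ := P.cm_mem hp.1 hp.2.1 hx hb
  have hdx : x * cm p x = cm p x * x := P.d_comm h1 h2 (P.code.ext.central x hx) (P.x_t hx hb)
  have hppx : (p * p) * x = x * (p * p) := by
    rcases (P.code.extc g).sq p hp.1 with e | e <;> rw [e]
    · simp
    · exact (P.x_t hx hb).symm
  rw [← P.cm_eq hp hx hb, ← P.code.sq x hx]
  calc p * x * (p * x) = x * cm p x * ((p * p) * x) := by rw [cm]; group
    _ = x * (cm p x * x) * (p * p) := by rw [hppx]; group
    _ = _ := by rw [← hdx]; group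

/-- The involution `r₀`. -/
def IsR (P : Pr z Q cd g) (r : G) : Prop := ∃ p, InP P.code g p 2 ∧ r = p * P.code.rep 4

/-- The involution `p₀`. -/
def IsP (P : Pr z Q cd g) (r : G) : Prop := ∃ p, InP P.code g p 136 ∧ r = p * P.code.rep 42

theorem isR_spec (P : Pr z Q cd g) {r : G} (hr : IsR P r) : r * r = 1 ∧ r * z = z * r ∧ P.code.Acts r (tE 2) := by
  obtain ⟨p, hp, rfl⟩ := hr
  have hs := small_ok
  have h4 : cd (P.code.rep 4) = 4 := P.code.cd_rep (by rw [K8_n]; norm_num)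
  refine ⟨?_, comm_mul hp.2.1 (P.code.ext.central _ (P.code.rep_mem 4)), hp.2.2.2.mul_Q (P.code.rep_mem 4)⟩
  rw [P.sq_px hp (P.code.rep_mem 4) (by rw [h4]; exact hs.2.2.2.2.2.2.2.2.2.2.1), P.sing_sq hp hs.2.2.2.2.2.1, h4]
  simp [qn, show K8.q 4 = false from hs.2.2.2.2.2.2.1, show bq K8 2 4 = false by decide +kernel]

theorem isP_spec (P : Pr z Q cd g) {r : G} (hr : IsP P r) : r * r = 1 ∧ r * z = z * r ∧ P.code.Acts r (tE 136) := by
  obtain ⟨p, hp, rfl⟩ := hr
  have h42 : cd (P.code.rep 42) = 42 := P.code.cd_rep (by rw [K8_n]; norm_num)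
  refine ⟨?_, comm_mul hp.2.1 (P.code.ext.central _ (P.code.rep_mem 42)), hp.2.2.2.mul_Q (P.code.rep_mem 42)⟩
  rw [P.sq_px hp (P.code.rep_mem 42) (by rw [h42]; decide +kernel), P.nonsing_sq hp (by decide +kernel), h42,
    if_pos (by decide +kernel : bq K8 136 42 = true), qn, if_pos (by decide +kernel : K8.q 42 = true), pow_one,
    ← mul_assoc z (g * z * g⁻¹) z, ← P.t_z, mul_assoc (g * z * g⁻¹) z z, P.code.ext.zz, mul_one, P.t_sq]

/-- The three classes. -/
def Good (P : Pr z Q cd g) (y : G) : Prop :=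
  IsConj z y ∨ (∃ r, IsR P r ∧ IsConj r y) ∨ ∃ r, IsP P r ∧ IsConj r y

theorem Good.conj {P : Pr z Q cd g} {y y' : G} (hy : Good P y) (e : IsConj y y') : Good P y' := by
  rcases hy with h | ⟨r, hr, h⟩ | ⟨r, hr, h⟩
  · exact Or.inl (h.trans e)
  · exact Or.inr (Or.inl ⟨r, hr, h.trans e⟩)
  · exact Or.inr (Or.inr ⟨r, hr, h.trans e⟩)

/-- Multiplying the chosen representative by `z` does not leave its class. -/
theorem conj_z (P : Pr z Q cd g) {p : G} {w u b : ℕ} (hp : InP P.code g p w) (hu : u < 256) (hb : b < 256)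
    (hb1 : bq K8 1 b = false) (hwb : bq K8 w b = false) (hub : bq K8 b u = true) :
    IsConj (p * P.code.rep u) (p * P.code.rep u * z) := by
  refine isConj_iff.2 ⟨P.code.rep b, ?_⟩
  have hcb := P.code.cd_rep (show b < 2 ^ K8.n from hb)
  have e1 := (P.comm_x hp (P.code.rep_mem b) (by rw [hcb]; exact hb1) (by rw [hcb]; exact hwb))
  have e2 := P.code.conj_bq (P.code.rep_mem b) (P.code.rep_mem u)
  rw [hcb, P.code.cd_rep (show u < 2 ^ K8.n from hu), bn, if_pos hub, pow_one] at e2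
  rw [← conj_mul, comm_left_conj e1.symm, e2, mul_assoc]

/-- Common part of the two rank-two classifications. -/
theorem rank_two (P : Pr z Q cd g) {p x : G} {w u0 : ℕ} {k : List ℕ} (hp : InP P.code g p w) (hx : x ∈ Q)
    (hy2 : p * x * (p * x) = 1) (hu0 : u0 < 256) (hk : Wok K8 k = true) (hk1 : wd K8 k 1 = 1)
    (hcomm : bt (fun a => wd K8 k (tE w a)) = bt (fun a => tE w (wd K8 k a)))
    (hm0 : (moved (tE w)).contains (wd K8 k (cd x) ^^^ u0) = true)
    (hm1 : (moved (tE w)).contains (wd K8 k (cd x) ^^^ u0 ^^^ 1) = true) :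
    ∃ p', InP P.code g p' w ∧ (IsConj (p * x) (p' * P.code.rep u0) ∨ IsConj (p * x) (p' * P.code.rep u0 * z)) := by
  obtain ⟨c, hc, hct⟩ := P.stab hk hk1
  have hw := rs_lt hp.2.2.1
  have hcomm' : ∀ a < 256, wd K8 k (tE w a) = tE w (wd K8 k a) := fun a ha =>
    lin_ext (Lin.comp (lin_wd P.code hk) (lin_tE P.code hw) fun b hb => tE_lt hw hb)
      (Lin.comp (lin_tE P.code hw) (lin_wd P.code hk) fun b hb => wok_lt hk hb) hcomm ha
  have hp' : InP P.code g (c * p * c⁻¹) w :=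
    ⟨(P.code.extc g).norm c (mul_inv_eq_iff_eq_mul.1 hct) p hp.1, comm_mul (comm_mul hc.1 hp.2.1) (comm_inv hc.1),
      hp.2.2.1, Acts.conj hp.2.2.2 hc fun a ha _ => hcomm' a ha⟩
  have hx' := P.code.ext.norm c hc.1 x hx
  have hy2' : c * p * c⁻¹ * (c * x * c⁻¹) * (c * p * c⁻¹ * (c * x * c⁻¹)) = 1 := by
    rw [show c * p * c⁻¹ * (c * x * c⁻¹) * (c * p * c⁻¹ * (c * x * c⁻¹)) = c * (p * x * (p * x)) * c⁻¹ by group,
      hy2, mul_one, mul_inv_cancel]
  have hcx : cd (c * x * c⁻¹) = wd K8 k (cd x) := by rw [← P.code.act_cd hc.1 hx, hc.2 _ (P.code.lt x hx)]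
  have hcon : IsConj (p * x) (c * p * c⁻¹ * (c * x * c⁻¹)) := isConj_iff.2 ⟨c, by rw [conj_mul]⟩
  exact ⟨_, hp', (shift_to P.code (hp'.2.2.2.mul_Q hx') hy2' hx' hu0 (by rw [hcx]; exact hm0)).imp hcon.trans hcon.trans⟩

theorem a2_class (P : Pr z Q cd g) {y : G} (hyA : P.code.Acts y (tE 2)) (hy2 : y * y = 1) : Good P y := by
  have h := P.code
  obtain ⟨p, hp, -⟩ := P.exists_sing
  have hx : p⁻¹ * y ∈ Q := (h.mem_iff (comm_mul (comm_inv hp.2.1) hyA.1)).2 fun a ha => by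
    rw [h.act_mul (comm_inv hp.2.1) hyA.1 ha, hyA.2 a ha, ← hp.2.2.2.2 a ha, h.act_inv_left hp.2.1 ha]
  set x := p⁻¹ * y
  have hyx : y = p * x := (mul_inv_cancel_left p y).symm
  rw [hyx] at hy2 hyA ⊢
  have hp2 := P.sing_sq hp small_ok.2.2.2.2.2.1
  have hlt := h.lt x hx
  have hcode : tE 2 (cd x) = cd x := by
    rw [← hp.2.2.2.2 _ hlt, h.act_cd hp.2.1 hx]
    have e : p * x * p⁻¹ = x⁻¹ := by
      rw [inv_eq_of_mul_eq_one_right hp2]
      exact eq_inv_of_mul_eq_one_left (by rw [mul_assoc]; exact hy2)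
    rw [e, h.cd_inv hx]
  have hr := rank2_ok
  simp only [Bool.and_eq_true, List.all_eq_true, Bool.or_eq_true, Bool.not_eq_true', List.mem_range,
    beq_eq_false_iff_ne, ne_eq] at hr
  obtain ⟨hb1, hb2⟩ := ((hr (cd x) hlt).1).resolve_left (fun e => e hcode)
  have hq : K8.q (cd x) = false := by
    have e := P.sq_px hp hx hb1
    rw [hb2, if_neg (by simp), hp2, mul_one, mul_one, hy2] at e
    by_contra hc
    rw [Bool.not_eq_false] at hc
    rw [qn, if_pos hc, pow_one] at e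
    exact h.ne e.symm
  have hm := moved_ok
  simp only [Bool.and_eq_true, List.all_eq_true] at hm
  have hzc : ∀ {p' : G}, InP P.code g p' 2 → IsConj z p' ∧ IsConj z (p' * z) := by
    intro p' hp'
    have hz' : z ∈ Qc Q g := h.symm P.big P.hg
    have h2' := P.sing_sq hp' small_ok.2.2.2.2.2.1
    have hne : ∀ e : G, e ∈ Q → InP P.code g e 2 → False := fun e he hew => by
      have := (h.mem_iff hew.2.1).1 he 16 (by rw [K8_n]; norm_num)
      rw [hew.2.2.2.2 16 (by rw [K8_n]; norm_num)] at this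
      exact absurd this (by decide +kernel)
    refine ⟨h.isConj_z_Qc P.pd_ok P.moves hp'.1 h2' (fun e => hne p' (e ▸ one_mem _) hp'),
      h.isConj_z_Qc P.pd_ok P.moves (mul_mem hp'.1 hz') ?_ (fun e => hne p' ?_ hp')⟩
    · calc p' * z * (p' * z) = p' * (z * p') * z := by group
        _ = (p' * p') * (z * z) := by rw [← hp'.2.1]; group
        _ = 1 := by rw [h2', h.ext.zz, one_mul]
    · rw [eq_inv_of_mul_eq_one_left e]; exact inv_mem h.ext.mem
  by_cases hL : [0, 1, 2, 3].contains (cd x) = true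
  · have hm0 : (moved (tE 2)).contains (cd x ^^^ 0) = true := by
      rw [Nat.xor_zero]; exact hm.1 _ (List.contains_iff_mem.1 hL)
    have h0 : P.code.rep 0 = 1 ∨ P.code.rep 0 = z :=
      (h.ker _ (h.rep_mem 0)).1 (h.cd_rep (by rw [K8_n]; norm_num))
    obtain ⟨k1, k2⟩ := hzc hp
    refine Or.inl ?_
    rcases shift_to h hyA hy2 hx (d := 0) (by norm_num) hm0 with e | e <;> rcases h0 with e' | e' <;>
      rw [e'] at e
    · exact k1.trans (by simpa using e.symm)
    · exact k2.trans e.symm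
    · exact k2.trans (by simpa using e.symm)
    · rw [mul_assoc, h.ext.zz, mul_one] at e
      exact k1.trans e.symm
  have hz := za_ok
  simp only [Bool.and_eq_true, List.all_eq_true, List.mem_range, Bool.or_eq_true, beq_iff_eq] at hz
  rcases hz.2 _ hlt with (((e | e) | e) | e) | e
  · rw [hq] at e; exact absurd e (by simp)
  · rw [hb1] at e; exact absurd e (by simp)
  · rw [hb2] at e; exact absurd e (by simp)
  · exact absurd e hL
  obtain ⟨⟨u, k⟩, hk, hku⟩ := List.mem_map.1 (List.contains_iff_mem.1 e)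
  obtain ⟨⟨⟨hkw, hk1⟩, hkc⟩, hk4⟩ := hz.1 _ hk
  dsimp only at hku hkw hk1 hkc hk4
  subst hku
  have hmem : ∀ v, [0, 1, 2, 3].contains v = true → v ∈ [0, 1, 2, 3] ∧ v ^^^ 1 ∈ [0, 1, 2, 3] := by
    intro v hv
    have hv' := List.contains_iff_mem.1 hv
    exact ⟨hv', (show ∀ v ∈ [0, 1, 2, 3], v ^^^ 1 ∈ [0, 1, 2, 3] by decide) v hv'⟩
  obtain ⟨p', hp', hcon⟩ := P.rank_two hp hx hy2 (by norm_num : 4 < 256) hkw hk1 hkc
    (hm.1 _ (hmem _ hk4).1) (hm.1 _ (hmem _ hk4).2)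
  have hz4 := P.conj_z hp' (u := 4) (b := 64) (by norm_num) (by norm_num) (by decide +kernel) (by decide +kernel)
    (by decide +kernel)
  rcases hcon with e | e
  · exact Or.inr (Or.inl ⟨_, ⟨p', hp', rfl⟩, e.symm⟩)
  · exact Or.inr (Or.inl ⟨_, ⟨p', hp', rfl⟩, hz4.trans e.symm⟩)

theorem c2_classP (P : Pr z Q cd g) {y : G} (hyA : P.code.Acts y (tE 136)) (hy2 : y * y = 1) :
    ∃ r, IsP P r ∧ IsConj r y := by
  have h := P.code
  obtain ⟨p, hp⟩ := P.exists_inP small_ok.2.2.2.2.1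
  have hx : p⁻¹ * y ∈ Q := (h.mem_iff (comm_mul (comm_inv hp.2.1) hyA.1)).2 fun a ha => by
    rw [h.act_mul (comm_inv hp.2.1) hyA.1 ha, hyA.2 a ha, ← hp.2.2.2.2 a ha, h.act_inv_left hp.2.1 ha]
  set x := p⁻¹ * y
  have hyx : y = p * x := (mul_inv_cancel_left p y).symm
  rw [hyx] at hy2 hyA ⊢
  have hp2 := P.nonsing_sq hp (by decide +kernel)
  have hlt := h.lt x hx
  have hcode : tE 136 (cd x) = cd x ^^^ 1 := by
    have hpx := h.ext.norm p hp.2.1 x hx
    have e : (p * x * p⁻¹) * (g * z * g⁻¹) * x = 1 := by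
      rw [← hp2]; calc p * x * p⁻¹ * (p * p) * x = p * x * (p * x) := by group
        _ = 1 := hy2
    have e' := congrArg cd e
    rw [h.mul _ (mul_mem hpx P.hg) _ hx, h.mul _ hpx _ P.hg, h.cd_one, ← h.act_cd hp.2.1 hx,
      hp.2.2.2.2 _ hlt, P.hv] at e'
    have e'' := Nat.xor_eq_zero_iff.1 e'
    conv_rhs => rw [← e'', Nat.xor_assoc, Nat.xor_self, Nat.xor_zero]
  have hr := rank2_ok
  simp only [Bool.and_eq_true, List.all_eq_true, Bool.or_eq_true, Bool.not_eq_true', List.mem_range,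
    beq_eq_false_iff_ne, ne_eq] at hr
  obtain ⟨hb1, hb2⟩ := ((hr (cd x) hlt).2).resolve_left (fun e => e hcode)
  have hq : K8.q (cd x) = true := by
    have e := P.sq_px hp hx hb1
    rw [hb2, if_pos rfl, hp2, hy2] at e
    by_contra hc
    rw [Bool.not_eq_true] at hc
    rw [qn, if_neg (by simp [hc]), pow_zero, one_mul, mul_assoc, ← P.t_z, ← mul_assoc, P.t_sq, one_mul] at e
    exact h.ne e.symm
  have hm := moved_ok
  simp only [Bool.and_eq_true, List.all_eq_true] at hm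
  have hz := zc_ok
  simp only [Bool.and_eq_true, List.all_eq_true, List.mem_range, Bool.or_eq_true, beq_iff_eq,
    Bool.not_eq_true'] at hz
  rcases hz.2 _ hlt with ((e | e) | e) | e
  · rw [hq] at e; exact absurd e (by simp)
  · rw [hb1] at e; exact absurd e (by simp)
  · rw [hb2] at e; exact absurd e (by simp)
  obtain ⟨⟨u, k⟩, hk, hku⟩ := List.mem_map.1 (List.contains_iff_mem.1 e)
  obtain ⟨⟨⟨hkw, hk1⟩, hkc⟩, hk4⟩ := hz.1 _ hk
  dsimp only at hku hkw hk1 hkc hk4
  subst hku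
  have hv' := List.contains_iff_mem.1 hk4
  obtain ⟨p', hp', hcon⟩ := P.rank_two hp hx hy2 (by norm_num : 42 < 256) hkw hk1 hkc
    (hm.2 _ hv') (hm.2 _ ((show ∀ v ∈ [0, 1, 136, 137], v ^^^ 1 ∈ [0, 1, 136, 137] by decide) _ hv'))
  have hz4 := P.conj_z hp' (u := 42) (b := 136) (by norm_num) (by norm_num) (by decide +kernel) (by decide +kernel)
    (by decide +kernel)
  rcases hcon with e | e
  · exact ⟨_, ⟨p', hp', rfl⟩, e.symm⟩
  · exact ⟨_, ⟨p', hp', rfl⟩, hz4.trans e.symm⟩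

theorem c2_class (P : Pr z Q cd g) {y : G} (hyA : P.code.Acts y (tE 136)) (hy2 : y * y = 1) : Good P y :=
  Or.inr (Or.inr (P.c2_classP hyA hy2))

/-- A first translation moved to a line missing `1`. -/
theorem exists_s (P : Pr z Q cd g) {k : List ℕ} (hk : k = c1 ∨ k = c2) :
    ∃ s g', g' * z * g'⁻¹ ∈ Q ∧ g' * z * g'⁻¹ ≠ z ∧ cd (g' * z * g'⁻¹) = wd K8 k 1 ∧ s ∈ Qc Q g' ∧
      P.code.Acts s (wd K8 lav) ∧ s * s = 1 ∧
      (∀ x ∈ Q, bq K8 2 (cd x) = false → bq K8 4 (cd x) = false → s * x = x * s) ∧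
      ∀ p, InP P.code g p (wd K8 k 1) → s * p = p * s := by
  have h := P.code
  have hso := s_ok
  simp only [List.all_eq_true, Bool.and_eq_true, beq_iff_eq, List.contains_iff_mem] at hso
  obtain ⟨⟨⟨⟨hkw, hk4⟩, hk12⟩, hks⟩, hk4'⟩ := hso k (by rcases hk with rfl | rfl <;> simp)
  obtain ⟨c, hc, hca⟩ := h.exists_lift hkw
  obtain ⟨p2, hp2, hp22⟩ := P.exists_sing
  have hl1 : (1 : ℕ) < 2 ^ K8.n := by rw [K8_n]; norm_num
  have hl2 : (2 : ℕ) < 2 ^ K8.n := by rw [K8_n]; norm_num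
  have hl4 : (4 : ℕ) < 2 ^ K8.n := by rw [K8_n]; norm_num
  set a := wd K8 k 1 with ha
  set b := wd K8 k 2 with hb
  have hab : (a = 2 ∧ b = 4) ∨ (a = 4 ∧ b = 2) := by simpa using hk12
  have hars : a ∈ rs := by rcases hab with ⟨e, -⟩ | ⟨e, -⟩ <;> rw [e] <;> decide
  have ht' : (c * g) * z * (c * g)⁻¹ = c * (g * z * g⁻¹) * c⁻¹ := by group
  have hQ' : (c * g) * z * (c * g)⁻¹ ∈ Q := by rw [ht']; exact h.ext.norm c hc _ P.hg
  have hcd' : cd ((c * g) * z * (c * g)⁻¹) = a := by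
    rw [ht', ← h.act_cd hc P.hg, hca _ (h.lt _ P.hg), P.hv]
  have hne' : (c * g) * z * (c * g)⁻¹ ≠ z := fun e => by
    rw [e, h.cd_z] at hcd'
    rcases hab with ⟨e', -⟩ | ⟨e', -⟩ <;> omega
  have hkl := fun a ha => lin_ext (Lin.comp (lin_wd h hkw) (lin_tE h (w := 2) (by norm_num))
      fun b hb => tE_lt (w := 2) (by norm_num) hb)
    (Lin.comp (lin_wd h c12_ok.2.2.1) (lin_wd h hkw) fun b hb => wok_lt hkw hb) hks (a := a) ha
  have hsA : h.Acts (c * p2 * c⁻¹) (wd K8 lav) := Acts.conj hp2.2.2.2 ⟨hc, hca⟩ fun a ha _ => hkl a ha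
  have hfix : ∀ x ∈ Q, bq K8 2 (cd x) = false → bq K8 4 (cd x) = false →
      (c * p2 * c⁻¹) * x = x * (c * p2 * c⁻¹) := by
    intro x hx h2 h4
    have hab' : bq K8 a (cd x) = false ∧ bq K8 b (cd x) = false := by
      rcases hab with ⟨e, e'⟩ | ⟨e, e'⟩ <;> rw [e, e'] <;> exact ⟨by assumption, by assumption⟩
    have hxQ : c⁻¹ * x * c ∈ Q := by simpa using h.ext.norm c⁻¹ (comm_inv hc) x hx
    have hcx : h.act c (cd (c⁻¹ * x * c)) = cd x := by rw [h.act_cd hc hxQ]; congr 1; group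
    have e := P.comm_x hp2 hxQ (by
        rw [← h.bq_act hc hl1 (h.lt _ hxQ), hca 1 hl1, hcx]; exact hab'.1) (by
        rw [← h.bq_act hc hl2 (h.lt _ hxQ), hca 2 hl2, hcx]; exact hab'.2)
    calc c * p2 * c⁻¹ * x = c * (p2 * (c⁻¹ * x * c)) * c⁻¹ := by group
      _ = c * ((c⁻¹ * x * c) * p2) * c⁻¹ := by rw [e]
      _ = _ := by group
  refine ⟨c * p2 * c⁻¹, c * g, hQ', hne', hcd', mem_Qc.2 ?_, hsA, sq_conj hp22, hfix, fun p hp => ?_⟩
  · rw [show (c * g)⁻¹ * (c * p2 * c⁻¹) * (c * g) = g⁻¹ * p2 * g by group]; exact mem_Qc.1 hp2.1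
  -- the transported partner
  obtain ⟨p4, hp4⟩ := P.exists_inP small_ok.2.1
  have h24 : p2 * p4 = p4 * p2 := by
    have e := P.inP_mul hp2 hp4
    have e2 := P.sing_sq e (by decide +kernel)
    calc p2 * p4 = (p2 * p4)⁻¹ := eq_inv_of_mul_eq_one_left e2
      _ = _ := by
        rw [mul_inv_rev, inv_eq_of_mul_eq_one_right hp22, inv_eq_of_mul_eq_one_right (P.sing_sq hp4 small_ok.2.2.2.2.2.2.1)]
  set q := c * p4 * c⁻¹ with hq
  have hqz : q * z = z * q := comm_mul (comm_mul hc hp4.2.1) (comm_inv hc)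
  have hkl4 := fun x hx => lin_ext (Lin.comp (lin_wd h hkw) (lin_tE h (w := 4) (by norm_num))
      fun b hb => tE_lt (w := 4) (by norm_num) hb)
    (Lin.comp (lin_tE h (rs_lt hars)) (lin_wd h hkw) fun b hb => wok_lt hkw hb) hk4' (a := x) hx
  have hqA : h.Acts q (tE a) := Acts.conj hp4.2.2.2 ⟨hc, hca⟩ fun x hx _ => hkl4 x hx
  have hd : q⁻¹ * p ∈ Q := (h.mem_iff (comm_mul (comm_inv hqz) hp.2.1)).2 fun x hx => by
    rw [h.act_mul (comm_inv hqz) hp.2.1 hx, hp.2.2.2.2 x hx, ← hqA.2 x hx, h.act_inv_left hqz hx]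
  have hdcomm : ∀ v, (v = 2 ∨ v = 4) → bq K8 v (cd (q⁻¹ * p)) = false := by
    intro v hv
    have hvlt : v < 2 ^ K8.n := by rcases hv with rfl | rfl <;> assumption
    have hcv := h.cd_rep hvlt
    have e1 : p * h.rep v = h.rep v * p := P.comm_x hp (h.rep_mem v)
      (by rw [hcv]; rcases hv with rfl | rfl <;> decide +kernel)
      (by rw [hcv]; rcases hab with ⟨e, -⟩ | ⟨e, -⟩ <;> rcases hv with rfl | rfl <;> rw [e] <;> decide +kernel)
    have hxQ : c⁻¹ * h.rep v * c ∈ Q := by simpa using h.ext.norm c⁻¹ (comm_inv hc) _ (h.rep_mem v)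
    have hcx : h.act c (cd (c⁻¹ * h.rep v * c)) = v := by
      rw [h.act_cd hc hxQ, show c * (c⁻¹ * h.rep v * c) * c⁻¹ = h.rep v by group, hcv]
    have e2 := P.comm_x hp4 hxQ (by
        rw [← h.bq_act hc hl1 (h.lt _ hxQ), hca 1 hl1, hcx]
        rcases hab with ⟨e, -⟩ | ⟨e, -⟩ <;> rcases hv with rfl | rfl <;> rw [← ha, e] <;> decide +kernel) (by
        rw [← h.bq_act hc hl4 (h.lt _ hxQ), hca 4 hl4, hcx, hk4]
        rcases hv with rfl | rfl <;> decide +kernel)
    have e3 : Commute q (h.rep v) := by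
      show q * h.rep v = h.rep v * q
      calc q * h.rep v = c * (p4 * (c⁻¹ * h.rep v * c)) * c⁻¹ := by simp only [hq]; group
        _ = c * ((c⁻¹ * h.rep v * c) * p4) * c⁻¹ := by rw [e2]
        _ = _ := by simp only [hq]; group
    have e4 : Commute (q⁻¹ * p) (h.rep v) := (e3.inv_left).mul_left e1
    have := (h.commute_iff (h.rep_mem v) hd).1 e4.eq.symm
    rwa [hcv] at this
  have e5 := hfix _ hd (hdcomm 2 (Or.inl rfl)) (hdcomm 4 (Or.inr rfl))
  have e6 : Commute (c * p2 * c⁻¹) q := by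
    show c * p2 * c⁻¹ * q = q * (c * p2 * c⁻¹)
    simp only [hq, conj_mul, h24]
  have := (e6.mul_right e5).eq
  rwa [mul_inv_cancel_left] at this

theorem sq_swap (P : Pr z Q cd g) {w u : G} (hw : w ∈ Qc Q g) (hu : u ∈ Qc Q g) :
    w * u * w⁻¹ = u ∨ w * u * w⁻¹ = g * z * g⁻¹ * u := by
  rcases (P.code.extc g).comm w hw u hu with e | e
  · left; rw [commutatorElement_def, mul_inv_eq_one] at e; exact e
  · right; rw [← e, commutatorElement_def]; group

/-- The rank-four actions. -/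
theorem four_class (P : Pr z Q cd g)
    (hcard : Nat.card (Subgroup.centralizer ({z} : Set G)) = 42525 * (2 ^ 12 * Nat.card Q))
    {u i : ℕ} (hui : (u, i) ∈ [(8, 2), (128, 3), (136, 4)]) {y : G} (hyA : P.code.Acts y (wd K8 (sigs.getD i [])))
    (hy2 : y * y = 1) : Good P y := by
  have h := P.code
  have hcl := c12_ok
  obtain ⟨s, g', hg', hgne', hcg', hsg', hsA, hs2, hsfix, hsc⟩ := P.exists_s (Or.inl rfl)
  obtain ⟨s', -, -, -, -, -, hs'A, -, hs'fix, hs'c⟩ := P.exists_s (Or.inr rfl)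
  rw [hcl.1] at hcg' hsc
  rw [hcl.2.1] at hs'c
  -- `s` commutes with the translations by `2` and `4`
  have hs4 : ∀ p, InP P.code g p 4 → s * p = p * s := by
    intro p hp
    have hd : s'⁻¹ * s ∈ Q := (h.mem_iff (comm_mul (comm_inv hs'A.1) hsA.1)).2 fun a ha => by
      rw [h.act_mul (comm_inv hs'A.1) hsA.1 ha, hsA.2 a ha, ← hs'A.2 a ha, h.act_inv_left hs'A.1 ha]
    have hb : ∀ v, (v = 1 ∨ v = 4) → bq K8 v (cd (s'⁻¹ * s)) = false := by
      intro v hv
      have hvlt : v < 2 ^ K8.n := by rcases hv with rfl | rfl <;> (rw [K8_n]; norm_num)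
      have hcv := h.cd_rep hvlt
      have h2 : bq K8 2 (cd (h.rep v)) = false := by rw [hcv]; rcases hv with rfl | rfl <;> decide +kernel
      have h4 : bq K8 4 (cd (h.rep v)) = false := by rw [hcv]; rcases hv with rfl | rfl <;> decide +kernel
      have e1 : Commute s (h.rep v) := hsfix _ (h.rep_mem v) h2 h4
      have e2 : Commute s' (h.rep v) := hs'fix _ (h.rep_mem v) h2 h4
      have := (h.commute_iff (h.rep_mem v) hd).1 (e2.inv_left.mul_left e1).eq.symm
      rwa [hcv] at this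
    have e3 : Commute p (s'⁻¹ * s) := P.comm_x hp hd (hb 1 (Or.inl rfl)) (hb 4 (Or.inr rfl))
    have e4 : Commute p s' := (hs'c p hp).symm
    have := (e4.mul_right e3).eq
    rw [mul_inv_cancel_left] at this
    exact this.symm
  have hst : s * (g * z * g⁻¹) * s⁻¹ = g * z * g⁻¹ :=
    comm_left_conj (hsfix _ P.hg (by rw [P.hv]; decide +kernel) (by rw [P.hv]; decide +kernel))
  -- the other translations are moved at most by `z`
  have hlav := lav_ok
  simp only [List.all_eq_true, Bool.and_eq_true, beq_iff_eq] at hlav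
  have heps : ∀ {p : G} {b : ℕ}, InP P.code g p b → b ∈ [2, 4, 8, 128, 136] →
      s * p * s⁻¹ = p ∨ s * p * s⁻¹ = z * p := by
    intro p b hp hb
    obtain ⟨⟨hb2, -⟩, hcomm⟩ := hlav b hb
    have hsp : s * p * s⁻¹ ∈ Qc Q g := (h.extc g).norm s (mul_inv_eq_iff_eq_mul.1 hst) p hp.1
    have hspz : s * p * s⁻¹ * z = z * (s * p * s⁻¹) := comm_mul (comm_mul hsA.1 hp.2.1) (comm_inv hsA.1)
    have hA : h.Acts (s * p * s⁻¹) (tE b) := Acts.conj hp.2.2.2 hsA fun a ha _ =>
      lin_ext (Lin.comp (lin_wd h hcl.2.2.1) (lin_tE h (rs_lt hp.2.2.1)) fun c hc => tE_lt (rs_lt hp.2.2.1) hc)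
        (Lin.comp (lin_tE h (rs_lt hp.2.2.1)) (lin_wd h hcl.2.2.1) fun c hc => wok_lt hcl.2.2.1 hc) hcomm ha
    have hd : s * p * s⁻¹ * p⁻¹ ∈ Q := (h.mem_iff (comm_mul hspz (comm_inv hp.2.1))).2 fun a ha => by
      have hb' : h.act p⁻¹ a < 256 := h.act_lt (comm_inv hp.2.1) a
      rw [h.act_mul hspz (comm_inv hp.2.1) ha, hA.2 _ hb', ← hp.2.2.2.2 _ hb', h.act_inv_right hp.2.1 ha]
    have hpt : p * (g' * z * g'⁻¹) = g' * z * g'⁻¹ * p :=
      P.comm_x hp hg' (by rw [hcg']; decide +kernel) (by rw [hcg', bq_comm]; exact hb2)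
    have hd' : s * p * s⁻¹ * p⁻¹ ∈ Qc Q g' := by
      rw [show s * p * s⁻¹ * p⁻¹ = s * (p * s⁻¹ * p⁻¹) by group]
      exact mul_mem hsg' ((h.extc g').norm p hpt _ (inv_mem hsg'))
    have h1 := h.dcases P.pd_ok P.hg P.hne hd (mul_mem hsp (inv_mem hp.1))
    have h2 := h.dcases P.pd_ok hg' hgne' hd hd'
    rw [P.hv] at h1; rw [hcg'] at h2
    have h0 : cd (s * p * s⁻¹ * p⁻¹) = 0 := by omega
    rcases (h.ker _ hd).1 h0 with e | e
    · left; exact mul_inv_eq_one.1 e
    · right; exact mul_inv_eq_iff_eq_mul.1 e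
  obtain ⟨p8, hp8⟩ := P.exists_inP small_ok.2.2.1
  obtain ⟨p128, hp128⟩ := P.exists_inP small_ok.2.2.2.1
  let zp : Bool → G := fun e => if e then z else 1
  have hzp : ∀ e, zp e * z = z * zp e := fun e => by cases e <;> simp [zp]
  obtain ⟨e8, he8⟩ : ∃ e, s * p8 * s⁻¹ = zp e * p8 := by
    rcases heps hp8 (by simp) with e | e
    · exact ⟨false, by simpa [zp] using e⟩
    · exact ⟨true, by simpa [zp] using e⟩
  obtain ⟨e128, he128⟩ : ∃ e, s * p128 * s⁻¹ = zp e * p128 := by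
    rcases heps hp128 (by simp) with e | e
    · exact ⟨false, by simpa [zp] using e⟩
    · exact ⟨true, by simpa [zp] using e⟩
  have hp136 := P.inP_mul hp8 hp128
  obtain ⟨pu, eu, hpu, hseu, heu⟩ : ∃ pu eu, InP P.code g pu u ∧ s * pu * s⁻¹ = zp eu * pu ∧
      eu = xor ((u == 8 || u == 136) && e8) ((u == 128 || u == 136) && e128) := by
    have hui' : u = 8 ∨ u = 128 ∨ u = 136 := by simp at hui; omega
    rcases hui' with rfl | rfl | rfl
    · exact ⟨p8, e8, hp8, he8, by simp⟩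
    · exact ⟨p128, e128, hp128, he128, by simp⟩
    · refine ⟨p8 * p128, xor e8 e128, hp136, ?_, by simp⟩
      rw [← conj_mul, he8, he128]
      cases e8 <;> cases e128 <;> simp [zp, mul_assoc]
      · rw [← mul_assoc p8, hp8.2.1, mul_assoc]
      · rw [← mul_assoc p8, hp8.2.1, mul_assoc, ← mul_assoc z, h.ext.zz, one_mul]
  have hfo := four_ok
  simp only [List.all_eq_true, Bool.and_eq_true, beq_iff_eq, decide_eq_true_eq, List.mem_range] at hfo
  obtain ⟨⟨hsig, -⟩, hsol⟩ := hfo _ hui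
  dsimp only at hsig hsol
  have hult := rs_lt hpu.2.2.1
  have hsw : Wok K8 (sigs.getD i []) = true := by
    have := rep_ok
    simp only [Bool.and_eq_true, List.all_eq_true] at this
    rw [List.getD_eq_getElem _ _ (by simp at hui; rcases hui with ⟨-, rfl⟩ | ⟨-, rfl⟩ | ⟨-, rfl⟩ <;> decide)]
    exact this.2 _ (List.getElem_mem _)
  have hσ : ∀ a < 256, wd K8 (sigs.getD i []) a = wd K8 lav (tE u a) := fun a ha =>
    lin_ext (lin_wd h hsw) (Lin.comp (lin_wd h hcl.2.2.1) (lin_tE h hult) fun c hc => tE_lt hult hc) hsig ha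
  have hcA : h.Acts (s * pu) (wd K8 (sigs.getD i [])) := ⟨comm_mul hsA.1 hpu.2.1, fun a ha => by
    rw [h.act_mul hsA.1 hpu.2.1 ha, hpu.2.2.2.2 a ha, hsA.2 _ (tE_lt hult ha)]
    exact (hσ a ha).symm⟩
  have hx : (s * pu)⁻¹ * y ∈ Q := (h.mem_iff (comm_mul (comm_inv hcA.1) hyA.1)).2 fun a ha => by
    rw [h.act_mul (comm_inv hcA.1) hyA.1 ha, hyA.2 a ha, ← hcA.2 a ha, h.act_inv_left hcA.1 ha]
  set x := (s * pu)⁻¹ * y
  have hyx : y = s * pu * x := (mul_inv_cancel_left _ y).symm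
  rw [hyx] at hy2 hyA ⊢
  have hlt := h.lt x hx
  have hsi : s⁻¹ = s := inv_eq_of_mul_eq_one_right hs2
  have hc2 : s * pu * (s * pu) = zp eu * (pu * pu) := by
    rw [show s * pu * (s * pu) = (s * pu * s) * pu by group]
    nth_rw 2 [← hsi]
    rw [hseu, mul_assoc]
  have hcdzp : ∀ e, zp e ∈ Q ∧ cd (zp e) = 0 := fun e => by
    cases e <;> simp [zp, h.ext.mem, h.cd_one, h.cd_z]
  have hpp : pu * pu ∈ Q ∧ cd (pu * pu) = qn K8 u := by
    cases hq : K8.q u
    · rw [P.sing_sq hpu hq, qn, hq]; exact ⟨one_mem _, h.cd_one⟩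
    · rw [P.nonsing_sq hpu hq, qn, hq]; exact ⟨P.hg, P.hv⟩
  have hcode : wd K8 lav (tE u (cd x)) ^^^ cd x = qn K8 u := by
    have hcx := h.ext.norm _ hcA.1 x hx
    have hzm := mul_mem (hcdzp eu).1 hpp.1
    have e : (s * pu * x * (s * pu)⁻¹) * (zp eu * (pu * pu)) * x = 1 := by
      rw [← hc2]; calc (s * pu * x * (s * pu)⁻¹) * (s * pu * (s * pu)) * x = s * pu * x * (s * pu * x) := by group
        _ = 1 := hy2
    have e' := congrArg cd e
    rw [h.mul _ (mul_mem hcx hzm) _ hx, h.mul _ hcx _ hzm, h.cd_one, h.mul _ (hcdzp eu).1 _ hpp.1, (hcdzp eu).2,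
      Nat.zero_xor, hpp.2, ← h.act_cd hcA.1 hx, hcA.2 _ hlt, hσ _ hlt] at e'
    have e'' := Nat.xor_eq_zero_iff.1 e'
    conv_lhs => arg 2; rw [← e'']
    rw [← Nat.xor_assoc, Nat.xor_self, Nat.zero_xor]
  have hs := hsol (cd x) hlt
  simp only [Bool.or_eq_true, Bool.not_eq_true', beq_eq_false_iff_ne, Bool.and_eq_true, List.all_eq_true,
    beq_iff_eq, bne_iff_ne] at hs
  obtain ⟨⟨⟨⟨⟨hb1, hb2⟩, hb4⟩, hbu⟩, hqx⟩, hmv⟩ := hs.resolve_left (fun e => e hcode)
  have heq : eu = K8.q u := by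
    have hxs : s * x = x * s := hsfix x hx hb2 hb4
    have hxi : x * x = 1 := by rw [h.sq x hx, qn, if_neg (by simp [hqx]), pow_zero]
    have e2 : s * pu * x * (s * pu * x) = zp eu * (pu * x * (pu * x)) := by
      calc s * pu * x * (s * pu * x) = s * pu * (x * s) * (pu * x) := by group
        _ = (s * pu * s) * (x * pu * x) := by rw [← hxs]; group
        _ = _ := by
          nth_rw 2 [← hsi]
          rw [hseu]; group
    rw [P.sq_px hpu hx hb1, hbu, qn, if_neg (by simp [hqx]), pow_zero, one_mul, hy2] at e2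
    cases hq : K8.q u
    · rw [hq, if_neg (by simp), one_mul, P.sing_sq hpu hq, mul_one] at e2
      cases eu
      · rfl
      · exact absurd e2.symm h.ne
    · rw [hq, if_pos rfl, P.nonsing_sq hpu hq, mul_assoc (g * z * g⁻¹) z, ← P.t_z, ← mul_assoc (g * z * g⁻¹),
        P.t_sq, one_mul] at e2
      cases eu
      · simp only [zp, Bool.false_eq_true, if_false, one_mul] at e2; exact absurd e2.symm h.ne
      · rfl
  set d := dvec e8 e128 with hd
  have hmem4 : (e8, e128) ∈ [(false, false), (false, true), (true, false), (true, true)] := by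
    cases e8 <;> cases e128 <;> simp
  have hdo := dvec_ok
  simp only [List.all_eq_true, Bool.and_eq_true, decide_eq_true_eq, Bool.not_eq_true', beq_iff_eq] at hdo
  obtain ⟨⟨⟨⟨⟨hdlt, hd1⟩, hd2⟩, hd4⟩, hd8⟩, hd128⟩ := hdo _ hmem4
  have hmvd : (moved (wd K8 (sigs.getD i []))).contains (cd x ^^^ d) = true :=
    (hmv _ hmem4).resolve_left fun e => e (by rw [← heu, heq])
  set x0 := h.rep d
  have hcx0 : cd x0 = d := h.cd_rep hdlt
  have hcon := shift_to h hyA hy2 hx hdlt hmvd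
  -- the chosen representatives seen from `t`
  suffices ∀ m, m ≠ 1 → m * z = z * m → m * m = 1 → (∀ p b, InP P.code g p b → b ∈ [2, 4, 8, 128] →
      ∃ d', (d' = 1 ∨ d' = g * z * g⁻¹) ∧ m * p * m⁻¹ = d' * p) → m * (g * z * g⁻¹) = g * z * g⁻¹ * m → Good P m by
    have hmt : (s * pu * x0) * (g * z * g⁻¹) = g * z * g⁻¹ * (s * pu * x0) :=
      ((Commute.mul_left (mul_inv_eq_iff_eq_mul.1 hst) (P.commute_t hpu.1)).mul_left
        (show Commute x0 _ from P.x_t (h.rep_mem d) (by rw [hcx0]; exact hd1))).eq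
    have hmz : (s * pu * x0) * z = z * (s * pu * x0) := comm_mul hcA.1 (h.ext.central _ (h.rep_mem d))
    have hkey : ∀ p b, InP P.code g p b → b ∈ [2, 4, 8, 128] →
        ∃ d', (d' = 1 ∨ d' = g * z * g⁻¹) ∧ (s * pu * x0) * p * (s * pu * x0)⁻¹ = d' * p := by
      intro p b hp hb
      -- its sign under `s`
      obtain ⟨eb, heb, hbd⟩ : ∃ eb, s * p * s⁻¹ = zp eb * p ∧ bq K8 b (cd x0) = eb := by
        rw [hcx0]
        simp only [List.mem_cons, List.not_mem_nil, or_false] at hb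
        have hsame : ∀ (p0 : G) (b0 : ℕ) (e0 : Bool), InP P.code g p0 b0 → InP P.code g p b0 →
            s * p0 * s⁻¹ = zp e0 * p0 → s * p * s⁻¹ = zp e0 * p := by
          intro p0 b0 e0 h0 h0' he0
          obtain ⟨k1, k2⟩ := P.inP_div h0 h0'
          have hds : s * (p0⁻¹ * p) * s⁻¹ = p0⁻¹ * p := comm_left_conj (P.d_comm k1 k2 hsA.1 (mul_inv_eq_iff_eq_mul.1 hst))
          conv_lhs => rw [← mul_inv_cancel_left p0 p, ← conj_mul, he0, hds]
          group
        rcases hb with rfl | rfl | rfl | rfl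
        · exact ⟨false, by simpa [zp] using comm_left_conj (hsc p hp), by rw [bq_comm]; simpa [bq_comm] using hd2⟩
        · exact ⟨false, by simpa [zp] using comm_left_conj (hs4 p hp), by simpa using hd4⟩
        · exact ⟨e8, hsame p8 8 e8 hp8 hp he8, hd8⟩
        · exact ⟨e128, hsame p128 128 e128 hp128 hp he128, hd128⟩
      have e1 := P.conj_x hp (h.rep_mem d) (by rw [hcx0]; exact hd1)
      rw [hbd] at e1
      have hsz : s * z * s⁻¹ = z := comm_left_conj hsA.1
      have hpuz : pu * z * pu⁻¹ = z := comm_left_conj hpu.2.1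
      have hput : pu * (g * z * g⁻¹) * pu⁻¹ = g * z * g⁻¹ := comm_left_conj (P.commute_t hpu.1)
      have key : ∀ A B : G, x0 * p * x0⁻¹ = A * p → pu * p * pu⁻¹ = B * p →
          (s * pu * x0) * p * (s * pu * x0)⁻¹ =
            (s * (pu * A * pu⁻¹) * s⁻¹) * (s * B * s⁻¹) * zp eb * p := by
        intro A B hA hB
        calc (s * pu * x0) * p * (s * pu * x0)⁻¹ = s * (pu * (x0 * p * x0⁻¹) * pu⁻¹) * s⁻¹ := by group
          _ = s * ((pu * A * pu⁻¹) * (pu * p * pu⁻¹)) * s⁻¹ := by rw [hA]; group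
          _ = (s * (pu * A * pu⁻¹) * s⁻¹) * (s * B * s⁻¹) * (s * p * s⁻¹) := by rw [hB]; group
          _ = _ := by rw [heb]; group
      have hz2 := h.ext.zz
      have hsw' := P.sq_swap hpu.1 hp.1
      cases eb
      · simp only [Bool.false_eq_true, if_false] at e1
        rcases hsw' with e2 | e2
        · exact ⟨1, Or.inl rfl, by rw [key 1 1 e1 (by rw [e2, one_mul])]; simp [zp]⟩
        · exact ⟨_, Or.inr rfl, by rw [key 1 _ e1 e2, hst]; simp [zp]⟩
      · simp only [if_true] at e1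
        have hA : s * (pu * (g * z * g⁻¹ * z) * pu⁻¹) * s⁻¹ = g * z * g⁻¹ * z := by
          rw [show pu * (g * z * g⁻¹ * z) * pu⁻¹ = (pu * (g * z * g⁻¹) * pu⁻¹) * (pu * z * pu⁻¹) by group, hput,
            hpuz, show s * (g * z * g⁻¹ * z) * s⁻¹ = (s * (g * z * g⁻¹) * s⁻¹) * (s * z * s⁻¹) by group, hst, hsz]
        rcases hsw' with e2 | e2
        · refine ⟨_, Or.inr rfl, ?_⟩
          rw [key _ 1 e1 (by rw [e2, one_mul]), hA]
          simp [zp, mul_assoc, hz2]
        · refine ⟨1, Or.inl rfl, ?_⟩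
          rw [key _ _ e1 e2, hA, hst]
          simp only [zp, if_true, one_mul]
          rw [show g * z * g⁻¹ * z * (g * z * g⁻¹) * z = g * z * g⁻¹ * (z * (g * z * g⁻¹)) * z by group, ← P.t_z,
            ← mul_assoc, P.t_sq, one_mul, hz2, one_mul]
    have hgz : ∀ m, m * z = z * m → m * m = 1 → m * z * (m * z) = 1 := fun m h1 h2 => by
      calc m * z * (m * z) = m * (z * m) * z := by group
        _ = (m * m) * (z * z) := by rw [← h1]; group
        _ = 1 := by rw [h2, h.ext.zz, one_mul]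
    have hy1 : s * pu * x ≠ 1 := fun e => by
      have e' := hyA.2 16 (show (16 : ℕ) < 2 ^ K8.n by rw [K8_n]; norm_num)
      rw [e, h.act_one (show (16 : ℕ) < 2 ^ K8.n by rw [K8_n]; norm_num)] at e'
      revert e'
      simp only [List.mem_cons, Prod.mk.injEq, List.not_mem_nil, or_false] at hui
      rcases hui with ⟨-, rfl⟩ | ⟨-, rfl⟩ | ⟨-, rfl⟩ <;> decide +kernel
    have hm1 : ∀ m, IsConj (s * pu * x) m → m ≠ 1 := fun m e e' => hy1 (by obtain ⟨c, hc⟩ := isConj_iff.1 e; exact conj_eq_one_iff.1 (hc.trans e'))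
    rcases hcon with e | e
    · refine (this _ (hm1 _ e) hmz ?_ hkey hmt).conj e.symm
      obtain ⟨c, hc⟩ := isConj_iff.1 e
      rw [← hc]; exact sq_conj hy2
    · refine (this _ (hm1 _ e) (comm_mul hmz rfl) ?_ (fun p b hp hb => ?_)
        ((show Commute _ _ from hmt).mul_left (show Commute z _ from P.t_z.symm)).eq).conj e.symm
      · obtain ⟨c, hc⟩ := isConj_iff.1 e
        rw [← hc]; exact sq_conj hy2
      · obtain ⟨d', hd', he⟩ := hkey p b hp hb
        refine ⟨d', hd', ?_⟩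
        rw [← he, show ∀ m : G, m * z * p * (m * z)⁻¹ = m * (z * p * z⁻¹) * m⁻¹ from fun m => by group,
          comm_left_conj hp.2.1.symm]
  intro m hm1 hmz hm2 hmp hmt
  set w := g⁻¹ * m * g with hwdef
  have hwz : w * z = z * w := by
    calc w * z = g⁻¹ * (m * (g * z * g⁻¹)) * g := by simp only [hwdef]; group
      _ = g⁻¹ * ((g * z * g⁻¹) * m) * g := by rw [hmt]
      _ = _ := by simp only [hwdef]; group
  have hw2 : w * w = 1 := by
    rw [hwdef, show g⁻¹ * m * g * (g⁻¹ * m * g) = g⁻¹ * (m * m) * g by group, hm2]; group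
  have hwconj : IsConj w m := isConj_iff.2 ⟨g, by simp only [hwdef]; group⟩
  refine Good.conj ?_ hwconj
  have hw1 : w ≠ 1 := fun e => hm1 (by rw [show m = g * w * g⁻¹ by simp only [hwdef]; group, e]; group)
  by_cases hwQ : w ∈ Q
  · refine Or.inl ?_
    by_cases hwz' : w = z
    · rw [hwz']
    · exact h.isConj_z P.pd_ok P.moves ⟨hwQ, hw2, hw1, hwz'⟩
  obtain ⟨c, hc, σ, hσm, hσA⟩ := classify h hcard hwz hw2 hwQ
  have hfix : ∀ v ∈ sp [2, 4, 8, 128], ∃ r, InP P.code g r v ∧ ∃ d', (d' = 1 ∨ d' = g * z * g⁻¹) ∧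
      m * r * m⁻¹ = d' * r := by
    refine sp_induct ⟨1, P.inP_one, 1, Or.inl rfl, by simp⟩ (fun b hb => ?_) ?_
    · obtain ⟨r, hr⟩ := P.exists_inP (show b ∈ rs by
        simp only [List.mem_cons, List.not_mem_nil, or_false] at hb; rcases hb with rfl | rfl | rfl | rfl <;> decide)
      exact ⟨r, hr, hmp r b hr hb⟩
    · rintro a b ⟨r, hr, d1, hd1, e1⟩ ⟨r', hr', d2, hd2, e2⟩
      refine ⟨r * r', P.inP_mul hr hr', d1 * d2, ?_, ?_⟩
      · rcases hd1 with rfl | rfl <;> rcases hd2 with rfl | rfl <;> simp [P.t_sq]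
      · rw [← conj_mul, e1, e2]
        rcases hd2 with rfl | rfl
        · group
        · calc d1 * r * (g * z * g⁻¹ * r') = d1 * (r * (g * z * g⁻¹)) * r' := by group
            _ = _ := by rw [P.commute_t hr.1]; group
  choose! r hr dd hdd hrm using hfix
  let el' : ℕ × Bool → G := fun p => g⁻¹ * (r p.1 * (if p.2 then z else 1)) * g
  have helQ : ∀ p : ℕ × Bool, p.1 ∈ sp [2, 4, 8, 128] → el' p ∈ Q ∧ h.act w (cd (el' p)) = cd (el' p) := by
    intro p hp
    have hzg : z ∈ Qc Q g := h.symm P.big P.hg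
    have hQ : el' p ∈ Q := mem_Qc.1 (mul_mem (hr _ hp).1 (by split_ifs; exacts [hzg, one_mem _]))
    refine ⟨hQ, ?_⟩
    rw [h.act_cd hwz hQ]
    have hmz' : m * (if p.2 then z else 1) * m⁻¹ = (if p.2 then z else 1) := by
      split_ifs
      · exact comm_left_conj hmz
      · simp
    have e : w * el' p * w⁻¹ = (g⁻¹ * dd p.1 * g) * el' p := by
      calc w * el' p * w⁻¹ = g⁻¹ * ((m * r p.1 * m⁻¹) * (m * (if p.2 then z else 1) * m⁻¹)) * g := by
            simp only [hwdef, el']; group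
        _ = _ := by rw [hrm _ hp, hmz']; simp only [el']; group
    rw [e]
    rcases hdd _ hp with e' | e' <;> rw [e']
    · rw [show g⁻¹ * 1 * g = (1 : G) by group, one_mul]
    · rw [show g⁻¹ * (g * z * g⁻¹) * g = z by group, h.mul _ h.ext.mem _ hQ, h.cd_z, Nat.zero_xor]
  have hinj : ∀ p q : ℕ × Bool, p.1 ∈ sp [2, 4, 8, 128] → q.1 ∈ sp [2, 4, 8, 128] →
      cd (el' p) = cd (el' q) → p = q := by
    intro p q hp hq e
    have hzz : ∀ (f : Bool), (if f then z else 1) * z = z * (if f then z else 1) := fun f => by cases f <;> simp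
    have hzA : ∀ (f : Bool) a, a < 256 → h.act (if f then z else 1) a = a := fun f a ha => by
      refine (h.mem_iff (hzz f)).1 ?_ a ha
      cases f
      · exact one_mem _
      · exact h.ext.mem
    have htA : ∀ a < 256, h.act (g * z * g⁻¹) a = a := (h.mem_iff P.t_z).1 P.hg
    obtain ⟨k, hk, hke⟩ : ∃ k, (k = 1 ∨ k = g * z * g⁻¹) ∧
        r q.1 * (if q.2 then z else 1) = r p.1 * (if p.2 then z else 1) * k := by
      rcases (h.cd_eq_iff (helQ p hp).1 (helQ q hq).1).1 e with e' | e'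
      · refine ⟨1, Or.inl rfl, ?_⟩
        simp only [el'] at e'
        rw [mul_one]; exact mul_left_cancel (mul_right_cancel e')
      · refine ⟨_, Or.inr rfl, ?_⟩
        simp only [el'] at e'
        calc r q.1 * (if q.2 then z else 1) = g * (g⁻¹ * (r q.1 * (if q.2 then z else 1)) * g) * g⁻¹ := by group
          _ = g * (g⁻¹ * (r p.1 * (if p.2 then z else 1)) * g * z) * g⁻¹ := by rw [e']
          _ = _ := by group
    have hkA : ∀ a < 256, h.act k a = a := fun a ha => by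
      rcases hk with rfl | rfl
      · exact h.act_one ha
      · exact htA a ha
    have hkz : k * z = z * k := by rcases hk with rfl | rfl; exacts [by simp, P.t_z]
    have h16 : (16 : ℕ) < 256 := by norm_num
    have e16 := congrArg (fun y => h.act y 16) hke
    beta_reduce at e16
    rw [h.act_mul (hr _ hq).2.1 (hzz _) h16, hzA _ 16 h16, (hr _ hq).2.2.2.2 16 h16,
      h.act_mul (comm_mul (hr _ hp).2.1 (hzz _)) hkz h16, hkA 16 h16,
      h.act_mul (hr _ hp).2.1 (hzz _) h16, hzA _ 16 h16, (hr _ hp).2.2.2.2 16 h16] at e16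
    have hpq : q.1 = p.1 := List.inj_on_of_nodup_map inj_ok.1 (hr _ hq).2.2.1 (hr _ hp).2.2.1 e16
    rw [hpq, mul_assoc] at hke
    have hff := mul_left_cancel hke
    refine Prod.ext hpq.symm ?_
    rcases p with ⟨p, a⟩
    rcases q with ⟨q, b⟩
    rcases hk with rfl | rfl <;> cases a <;> cases b <;> simp at hff ⊢
    all_goals first
      | exact h.ne hff
      | exact h.ne hff.symm
      | exact h.conj_ne_one g hff.symm
      | exact h.conj_ne_one g hff
      | exact P.hne hff.symm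
      | exact P.hne (mul_left_cancel (a := z) (hff.symm.trans h.ext.zz.symm))
  -- count
  have h32 : 32 ≤ (fixL K8 (h.act w)).length := by
    have hnd : ((sp [2, 4, 8, 128]) ×ˢ [false, true]).Nodup :=
      List.Nodup.product sigs_ok.2.2.2.1 (by decide)
    have hnd' : (((sp [2, 4, 8, 128]) ×ˢ [false, true]).map fun p => cd (el' p)).Nodup :=
      hnd.map_on fun p hp q hq e => hinj p q (List.mem_product.1 hp).1 (List.mem_product.1 hq).1 e
    have := hnd'.length_le_of_subset (l₂ := fixL K8 (h.act w)) fun a ha => by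
      obtain ⟨p, hp, rfl⟩ := List.mem_map.1 ha
      obtain ⟨h1, h2⟩ := helQ p (List.mem_product.1 hp).1
      exact mem_fixL.2 ⟨h.lt _ h1, h2⟩
    rw [List.length_map, List.length_product, sigs_ok.2.2.2.2] at this
    exact this
  have hcnt : 32 ≤ (fixL K8 (wd K8 σ)).length := by
    refine h32.trans ?_
    have hnd : ((fixL K8 (h.act w)).map (h.act c)).Nodup :=
      ((List.nodup_range.filter _)).map_on fun a ha b hb e => by
        rw [← h.act_inv_left hc (List.mem_range.1 (List.mem_of_mem_filter ha)), e,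
          h.act_inv_left hc (List.mem_range.1 (List.mem_of_mem_filter hb))]
    have := hnd.length_le_of_subset (l₂ := fixL K8 (wd K8 σ)) fun a ha => by
      obtain ⟨b, hb, rfl⟩ := List.mem_map.1 ha
      obtain ⟨hb1, hb2⟩ := mem_fixL.1 hb
      refine mem_fixL.2 ⟨h.act_lt hc b, ?_⟩
      rw [← hσA.2 _ (h.act_lt hc b), h.act_mul (comm_mul hc hwz) (comm_inv hc) (h.act_lt hc b),
        h.act_inv_left hc hb1, h.act_mul hc hwz hb1, hb2]
    rwa [List.length_map] at this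
  have hw2' : c * w * c⁻¹ * (c * w * c⁻¹) = 1 := sq_conj hw2
  have hback : IsConj (c * w * c⁻¹) w := (isConj_iff.2 ⟨c, rfl⟩).symm
  obtain ⟨j, hj, hjσ⟩ := List.getElem_of_mem hσm
  rw [sigs_ok.1] at hj
  rw [← hjσ, ← List.getD_eq_getElem _ []] at hcnt hσA
  have hrw := rep_ok
  simp only [Bool.and_eq_true, List.all_eq_true] at hrw
  have hwj : Wok K8 (sigs.getD j []) = true := by
    rw [List.getD_eq_getElem _ _ (by rw [sigs_ok.1]; exact hj)]; exact hrw.2 _ (List.getElem_mem _)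
  interval_cases j
  · exact (P.a2_class ⟨hσA.1, fun a ha => (hσA.2 a ha).trans
      (lin_ext (lin_wd h hwj) (lin_tE h (by norm_num)) sigs_ok.2.1 ha)⟩ hw2').conj hback
  · exact (P.c2_class ⟨hσA.1, fun a ha => (hσA.2 a ha).trans
      (lin_ext (lin_wd h hwj) (lin_tE h (by norm_num)) sigs_ok.2.2.1 ha)⟩ hw2').conj hback
  all_goals
    first
      | (have := (hfo (8, 2) (by simp)).1.2; dsimp only at this; omega)
      | (have := (hfo (128, 3) (by simp)).1.2; dsimp only at this; omega)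
      | (have := (hfo (136, 4) (by simp)).1.2; dsimp only at this; omega)

/-- Every involution lies in one of the classes. -/
theorem all_good (P : Pr z Q cd g)
    (hcard : Nat.card (Subgroup.centralizer ({z} : Set G)) = 42525 * (2 ^ 12 * Nat.card Q))
    {x : G} (hx : x * x = 1) (hx1 : x ≠ 1) : Good P x := by
  have h := P.code
  obtain ⟨H, hH, -⟩ := exists_full h hcard
  obtain ⟨a, ha⟩ := hH.global h hx
  refine Good.conj (y := a * x * a⁻¹) ?_ (isConj_iff.2 ⟨a, rfl⟩).symm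
  set w := a * x * a⁻¹
  have hwz : w * z = z * w := Subgroup.mem_centralizer_singleton_iff.1 (hH.le ha)
  have hw2 : w * w = 1 := sq_conj hx
  have hw1 : w ≠ 1 := fun e => hx1 (conj_eq_one_iff.1 e)
  by_cases hwQ : w ∈ Q
  · refine Or.inl ?_
    by_cases hwz' : w = z
    · rw [hwz']
    · exact h.isConj_z P.pd_ok P.moves ⟨hwQ, hw2, hw1, hwz'⟩
  obtain ⟨c, hc, σ, hσm, hσA⟩ := classify h hcard hwz hw2 hwQ
  refine Good.conj ?_ (isConj_iff.2 ⟨c, rfl⟩ : IsConj w (c * w * c⁻¹)).symm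
  have hw2' : c * w * c⁻¹ * (c * w * c⁻¹) = 1 := sq_conj hw2
  obtain ⟨j, hj, hjσ⟩ := List.getElem_of_mem hσm
  rw [sigs_ok.1] at hj
  rw [← hjσ, ← List.getD_eq_getElem _ []] at hσA
  have hrw := rep_ok
  simp only [Bool.and_eq_true, List.all_eq_true] at hrw
  have hwj : Wok K8 (sigs.getD j []) = true := by
    rw [List.getD_eq_getElem _ _ (by rw [sigs_ok.1]; exact hj)]; exact hrw.2 _ (List.getElem_mem _)
  interval_cases j
  · exact P.a2_class ⟨hσA.1, fun a ha => (hσA.2 a ha).trans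
      (lin_ext (lin_wd h hwj) (lin_tE h (by norm_num)) sigs_ok.2.1 ha)⟩ hw2'
  · exact P.c2_class ⟨hσA.1, fun a ha => (hσA.2 a ha).trans
      (lin_ext (lin_wd h hwj) (lin_tE h (by norm_num)) sigs_ok.2.2.1 ha)⟩ hw2'
  · exact P.four_class hcard (u := 8) (by simp) hσA hw2'
  · exact P.four_class hcard (u := 128) (by simp) hσA hw2'
  · exact P.four_class hcard (u := 136) (by simp) hσA hw2'

end Pr

end Cfsg.Agent.Invol.Co1
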