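import Cfsg.Agent.Lib.Invol.Co1.Classes

/-!
# Finite checks for separating the classes
-/

set_option autoImplicit false
set_option linter.unusedSectionVars false

namespace Cfsg.Agent.Invol.Co1

open Cfsg.Agent.Classical.BinCoc Cfsg.Agent.Invol.Big Cfsg.Agent.Invol.Big.Code

/-- Vectors completing a list to a generating set. -/
def oth (uX : List ℕ) : List ℕ :=
  (greedy (uX ++ (List.range 8).map (2 ^ ·))).filter fun g => !uX.contains g

/-- Generators with candidates for the isometries fixing a list. -/
def gensX (uX : List ℕ) : List (ℕ × List ℕ) :=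
  uX.map (fun g => (g, [g])) ++
    (oth uX).map fun g => (g, (pts K8).filter fun b => K8.q b == K8.q g && uX.all fun u => bq K8 u b == bq K8 u g)

/-- The isometries fixing the list and commuting with the translation by `w`. -/
def cands (w : ℕ) (uX : List ℕ) : List (List ℕ) :=
  (maps K8 (gensX uX)).filter fun T =>
    ((pts K8).all fun a => T.getD (tE w a) 0 == tE w (T.getD a 0)) && uX.all fun u => T.getD u 0 == u

/-- The checks on a representative. -/
def chkX (w u0 b : ℕ) (uX : List ℕ) : Bool :=
  covers K8 ((gensX uX).map Prod.fst) && ((gensX uX).map Prod.fst).all (fun g => decide (g < 256)) &&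
    (uX.all fun u => decide (u < 256) && tE w u == u && !bq K8 1 u && !bq K8 w u && !bq K8 u0 u) &&
      decide ((cands w uX).length < 16) && decide (u0 < 256) && decide (b < 256) && !bq K8 1 b && !bq K8 w b &&
        bq K8 b u0 && tE w b == b && !bq K8 1 u0

theorem chkX_A : chkX 2 4 64 uA = true := by decide +kernel

theorem chkX_C : chkX 136 42 136 uC = true := by decide +kernel

theorem fixany_ok : (rs.all fun w => w == 0 || (List.range 256).all fun u =>
    !(tE w u == u) || (!bq K8 1 u && !bq K8 w u)) = true := by decide +kernel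

theorem fix16_ok : (sigs.all fun σ => decide (16 ≤ (fixL K8 (wd K8 σ)).length)) = true := by decide +kernel

theorem candC_ok : ((cands 136 uC).all fun T =>
    !((pts K8).all fun a => T.getD (T.getD a 0) 0 == a) || ((pts K8).all fun a => T.getD a 0 == a) ||
      (decide (64 ≤ ((pts K8).filter fun a => T.getD a 0 == a).length) &&
        (pts K8).any fun a => K8.q (T.getD a 0 ^^^ a))) = true := by decide +kernel

theorem a2ts_ok : ((List.range 256).all fun a => !K8.q (tE 2 a ^^^ a)) = true := by decide +kernel

theorem c2ts_ok : ((List.range 256).any fun a => K8.q (tE 136 a ^^^ a)) = true := by decide +kernel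

theorem ext_ok : ((List.range 256).all fun a => !(tE 136 a == a) || K8.q a || !(uC.all fun u => !bq K8 u a) ||
    a == 0 || a == 1) = true := by decide +kernel

theorem cent_ok : ((fixL K8 (tE 136)).filter fun a => !bq K8 42 a).length = 32 := by decide +kernel

theorem perp_ok : ((List.range 256).all fun a => !((fixL K8 (tE 2)).all fun u => !bq K8 a u) || decide (a < 4)) = true := by
  decide +kernel

theorem orbit_ok : ((el.all fun l => wd K8 (lw l) 2 == 2) && rs.all fun w => el.all fun l =>
    [4, 5, 6, 7].contains (tE w (wd K8 (lw l) 4)) && [2, 3].contains (tE w 2)) = true := by decide +kernel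

theorem centre_ok : ((el.all fun l => !(rb.all fun b => wd K8 (lw l) b == b) || bt (wd K8 (lw l)) == bt id) &&
    rs.all fun w => w == 0 || w == 2 || el.any fun l => wd K8 (lw l) w != w) = true := by decide +kernel

theorem flip_ok : (Wok K8 kap = true ∧ wd K8 kap 1 = 1 ∧ wd K8 kap 136 = 136 ∧
    [42 ^^^ 136, 42 ^^^ 137].contains (wd K8 kap 42) = true ∧ tE 136 16 ^^^ 16 = 137 ∧
    bt (fun a => wd K8 kap (tE 136 a)) = bt (fun a => tE 136 (wd K8 kap a)) ∧ bq K8 1 16 = true) := by
  simp only [wok_eq]
  decide +kernel

end Cfsg.Agent.Invol.Co1
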