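import Cfsg.Agent.Lib.Invol.Big.Excl
import Cfsg.Agent.Lib.Invol.Big.Sylow

/-!
# Tables for the split orthogonal group in eight variables over two elements
-/

set_option autoImplicit false

namespace Cfsg.Agent.Invol.Co1

open Cfsg.Agent.Invol.Big

/-- The form. -/
def qb (a : ℕ) : Bool := (47759223636507730209801550344371119078934783318887441289834004656231277002752 : ℕ).testBit a

/-- The coded space. -/
def K8 : Classical.BinCoc.Cert := bare 8 qb

/-- The complement of the hyperbolic line of `1` and `16`. -/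
def rs : List ℕ := [0, 2, 4, 6, 8, 10, 12, 14, 32, 34, 36, 38, 40, 42, 44, 46, 64, 66, 68, 70, 72, 74, 76, 78, 96, 98, 100, 102, 104, 106, 108, 110, 128, 130, 132, 134, 136, 138, 140, 142, 160, 162, 164, 166, 168, 170, 172, 174, 192, 194, 196, 198, 200, 202, 204, 206, 224, 226, 228, 230, 232, 234, 236, 238]

/-- Words of the translations. -/
def tW : List (List ℕ) := [[], [68, 69, 70, 71], [34, 35, 38, 39], [98, 99, 100, 101], [34, 35, 42, 43], [68, 69, 78, 79], [34, 35, 46, 47], [98, 99, 108, 109], [68, 69, 100, 101], [34, 35], [70, 71, 98, 99], [38, 39], [68, 69, 108, 109], [42, 43], [70, 71, 106, 107], [46, 47], [34, 35, 98, 99], [38, 39, 100, 101], [68, 69], [70, 71], [34, 35, 106, 107], [38, 39, 108, 109], [76, 77], [78, 79], [38, 39, 70, 71], [98, 99], [100, 101], [34, 35, 68, 69], [38, 39, 78, 79], [106, 107], [108, 109], [34, 35, 76, 77], [34, 35, 162, 163], [42, 43, 168, 169], [34, 35, 166, 167], [42, 43, 172, 173], [136, 137], [138, 139], [140, 141], [142, 143], [42,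 43, 138, 139], [162, 163], [42, 43, 142, 143], [166, 167], [168, 169], [34, 35, 136, 137], [172, 173], [34, 35, 140, 141], [34, 35, 226, 227], [38, 39, 228, 229], [196, 197], [198, 199], [200, 201], [202, 203], [34, 35, 238, 239], [38, 39, 232, 233], [38, 39, 198, 199], [226, 227], [228, 229], [34, 35, 196, 197], [232, 233], [34, 35, 200, 201], [38, 39, 202, 203], [238, 239]]

/-- Generators of a Sylow subgroup of the complement. -/
def lg : List (List ℕ) := [[136, 138, 140, 142], [136, 138, 200, 202], [68, 70, 76, 78], [68, 70, 196, 198], [34, 38, 42, 46], [34, 38, 162, 166]]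

/-- Its elements. -/
def el : List (List ℕ) := [[], [0], [1], [2], [3], [4], [5], [1, 0], [2, 0], [3, 0], [4, 0], [5, 0], [2, 1], [3, 1], [4, 1], [5, 1], [3, 2], [4, 2], [5, 2], [4, 3], [5, 3], [1, 4], [3, 4], [5, 4], [1, 5], [2, 5], [2, 1, 0], [3, 1, 0], [4, 1, 0], [5, 1, 0], [3, 2, 0], [4, 2, 0], [5, 3, 0], [1, 4, 0], [5, 4, 0], [1, 5, 0], [3, 2, 1], [5, 2, 1], [4, 3, 1], [3, 4, 1], [5, 4, 1], [2, 5, 1], [4, 3, 2], [5, 3, 2], [3, 4, 2], [5, 4, 2], [1, 5, 2], [1, 4, 3], [5, 4, 3], [2, 5, 3], [3, 1, 4], [5, 1, 4], [5, 3, 4], [1, 5, 4], [2, 5, 4], [2, 1, 5], [4, 1, 5], [3, 2, 1, 0], [5, 4, 1, 0], [5, 1, 4, 0], [1, 5, 4, 0], [4, 1, 5, 0], [1, 5, 4, 1], [5, 4, 3, 2]]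

/-- Their classes. -/
def lk : List (List ℕ × ℕ) := [([], 0), ([], 1), ([68, 136], 1), ([196, 200], 1), ([76, 200], 1), ([162, 168], 1), ([42, 168], 1), ([42, 228], 2), ([68, 76], 1), ([68, 196], 1), ([34, 42], 1), ([34, 162], 1), ([76, 140], 1), ([76, 136], 1), ([], 9), ([], 9), ([38, 232], 2), ([226, 232], 1), ([], 9), ([], 9), ([106, 232], 1), ([], 9), ([], 9), ([34, 200], 2), ([], 9), ([], 9), ([34, 38, 46, 232], 2), ([34, 38, 76, 232], 2), ([], 9), ([], 9), ([34, 42, 46, 228], 2), ([98, 106], 1), ([98, 226], 1), ([], 9), ([34, 76, 78, 202], 2), ([], 9), ([34, 42, 106, 228], 2), ([], 9), ([], 9), ([], 9), ([], 9), ([], 9), ([], 9), ([], 9), ([], 9), ([], 9), ([], 9), ([], 9), ([], 9), ([], 9), ([], 9), ([], 9), ([], 9), ([], 9), ([], 9), ([], 9), ([], 9), ([68, 140], 1), ([], 9), ([], 9), ([], 9), ([], 9), ([34, 202], 2), ([34, 76, 78, 200], 2)]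

/-- Representatives of involutions of the complement. -/
def lrep : List (List ℕ) := [[], [136, 138, 140, 142], [136, 68]]

/-- Representatives of the involutive actions. -/
def sigs : List (List ℕ) := [[68, 69, 70, 71], [136, 137], [136, 138, 140, 142, 34, 35, 42, 43], [136, 138, 140, 142, 34, 35, 162, 163], [136, 138, 140, 142, 136, 137]]

/-- Conjugating words. -/
def ck : List (List (List ℕ × ℕ)) := [[([], 9), ([], 0), ([98, 100], 0), ([34, 38], 0), ([162, 168], 0), ([34, 42], 0), ([98, 108], 0), ([34, 46], 0), ([34, 68], 0), ([78, 228], 1), ([38, 70], 0), ([76, 226], 1), ([42, 68], 0), ([34, 162], 1), ([46, 70], 0), ([34, 166], 1), ([38, 100], 0), ([34, 98], 0), ([46, 226], 1), ([42, 228], 1), ([38, 108], 0), ([34, 106], 0), ([34, 196], 1), ([34, 198], 1), ([38, 68], 0), ([46, 196], 1), ([42, 198], 1), ([34, 70], 0), ([38, 76], 0), ([34, 226], 1), ([34, 228], 1), ([34, 78], 0), ([42, 168], 0), ([34, 162], 0), ([42, 172], 0), ([34, 166], 0), ([], 1), ([76, 78], 1), ([42, 46],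 1), ([106, 108], 1), ([42, 136], 0), ([34, 42], 1), ([42, 140], 0), ([34, 46], 1), ([76, 108], 1), ([34, 138], 0), ([78, 106], 1), ([34, 142], 0), ([38, 228], 0), ([34, 226], 0), ([34, 76], 1), ([34, 78], 1), ([42, 106], 1), ([46, 108], 1), ([38, 232], 0), ([34, 238], 0), ([38, 196], 0), ([34, 106], 1), ([34, 108], 1), ([34, 198], 0), ([46, 78], 1), ([34, 202], 0), ([38, 200], 0), ([42, 76], 1)], [([81, 84], 0), ([17, 21], 0), ([113, 116], 0), ([49, 53], 0), ([], 2), ([68, 69], 2), ([34, 35], 2), ([98, 99], 2), ([], 9), ([], 9), ([], 9), ([], 9), ([], 9), ([], 9), ([], 9), ([], 9), ([], 9), ([], 9), ([], 9), ([], 9), ([], 9), ([], 9), ([], 9), ([], 9), ([], 9), ([], 9), ([], 9), ([], 9), ([], 9), ([], 9), ([], 9), ([], 9), ([], 3), ([68, 69], 3), ([34, 35], 3), ([98, 99], 3), ([], 4), ([68, 69], 4), ([34, 35], 4), ([98, 99], 4), ([], 9), ([], 9), ([], 9), ([], 9), ([], 9), ([], 9), ([], 9), ([], 9), ([], 9), ([], 9), ([], 9), ([], 9), ([], 9), ([], 9), ([], 9), ([], 9), ([], 9),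 ([], 9), ([], 9), ([], 9), ([], 9), ([], 9), ([], 9), ([], 9)], [([21, 216], 1), ([17, 81, 84, 141], 4), ([], 9), ([], 9), ([], 9), ([], 9), ([], 9), ([], 9), ([17, 39, 223, 251], 4), ([17, 98, 188, 221], 4), ([], 9), ([], 9), ([], 9), ([], 9), ([], 9), ([], 9), ([], 9), ([], 9), ([17, 221], 1), ([17, 68, 156, 221], 4), ([], 9), ([], 9), ([], 9), ([], 9), ([], 9), ([], 9), ([17, 34, 216, 221], 4), ([17, 99, 184, 191], 4), ([], 9), ([], 9), ([], 9), ([], 9), ([], 9), ([], 9), ([], 9), ([], 9), ([29, 209], 1), ([25, 89, 92, 140], 4), ([], 9), ([], 9), ([], 9), ([], 9), ([], 9), ([], 9), ([17, 50, 53, 232], 4), ([17, 113, 114, 173], 4), ([], 9), ([], 9), ([], 9), ([], 9), ([], 9), ([], 9), ([], 9), ([], 9), ([25, 212], 1), ([25, 68, 149, 212], 4), ([], 9), ([], 9), ([], 9), ([], 9), ([], 9), ([], 9), ([17, 50, 53, 233], 4), ([17, 113, 114, 172], 4)]]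

/-- Transitivity on the complement. -/
def tw : List (ℕ × List ℕ) := [(2, []), (4, [98, 100]), (6, [34, 38]), (8, [162, 168]), (10, [34, 42]), (12, [98, 108]), (14, [34, 46]), (32, [34, 68]), (34, [78, 228]), (36, [38, 70]), (38, [76, 226]), (40, [42, 68]), (42, [34, 162]), (44, [46, 70]), (46, [34, 166]), (64, [38, 100]), (66, [34, 98]), (68, [46, 226]), (70, [42, 228]), (72, [38, 108]), (74, [34, 106]), (76, [34, 196]), (78, [34, 198]), (96, [38, 68]), (98, [46, 196]), (100, [42, 198]), (102, [34, 70]), (104, [38, 76]), (106, [34, 226]), (108, [34, 228]), (110, [34, 78]), (128, [42, 168]), (130, [34, 162]), (132, [42, 172]), (134, [34, 166]), (136, []), (138, [76, 78]), (140, [42, 46]), (142, [106, 108]), (160, [42, 136]), (162, [34, 42]), (164, [42, 140]), (166, [34, 46]), (168, [76, 108]), (170, [34, 138]), (172, [78, 106]), (174, [34, 142]), (192, [38, 228]), (194, [34, 226]), (196, [34, 76]), (198, [34, 78]), (200, [42, 106]), (202, [46, 108]), (204, [38, 232]), (206, [34,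 238]), (224, [38, 196]), (226, [34, 106]), (228, [34, 108]), (230, [34, 198]), (232, [46, 78]), (234, [34, 202]), (236, [38, 200]), (238, [42, 76])]

/-- A rotation of three hyperbolic lines. -/
def c1 : List ℕ := [84, 81, 50, 49]

/-- A swap of two hyperbolic lines. -/
def c2 : List ℕ := [84, 81]

/-- Commuting with the first translation. -/
def gam : List (List ℕ) := [[68, 69], [68, 70], [68, 76], [68, 136], [68, 140]]

/-- Moves of the singular fixed vectors. -/
def za : List (ℕ × List ℕ) := [(4, []), (5, []), (6, []), (7, []), (8, [196, 200]), (9, [196, 200]), (10, [196, 200]), (11, [196, 200]), (12, [68, 76]), (13, [68, 76]), (14, [68, 76]), (15, [68, 76]), (64, [68, 136]), (65, [68, 136]), (66, [68, 136]), (67, [68, 136]), (72, [76, 140]), (73, [76, 140]), (74, [76, 140]), (75, [76, 140]), (128, [76, 200]), (129, [76, 200]), (130, [76, 200]), (131, [76, 200]), (132, [68, 196]), (133, [68, 196]), (134, [68, 196]), (135, [68, 196]), (192, [76, 136]), (193, [76, 136]), (194,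 [76, 136]), (195, [76, 136]), (204, [68, 140]), (205, [68, 140]), (206, [68, 140]), (207, [68, 140])]

/-- Moves of the nonsingular vectors. -/
def zc : List (ℕ × List ℕ) := [(42, []), (43, []), (46, [34, 140]), (47, [34, 140]), (76, [34, 238]), (77, [34, 238]), (78, [34, 100]), (79, [34, 100]), (106, [34, 200]), (107, [34, 200]), (108, [34, 70]), (109, [34, 70]), (162, []), (163, []), (166, [34, 140]), (167, [34, 140]), (196, [34, 238]), (197, [34, 238]), (198, [34, 100]), (199, [34, 100]), (226, [34, 200]), (227, [34, 200]), (228, [34, 70]), (229, [34, 70])]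

/-- A flip. -/
def kap : List ℕ := [34, 136]

/-- A basis of a kernel. -/
def uA : List ℕ := [1, 2, 4, 8, 128]

/-- A basis of a kernel. -/
def uC : List ℕ := [1, 4, 34, 64, 138]

/-- The pair data. -/
def pd : PairData where
  v0 := 1
  trs := [(1, []), (2, [49, 50]), (3, [17, 19]), (4, [81, 84]), (5, [17, 21]), (6, [49, 54]), (7, [17, 23]), (8, [145, 152]), (9, [17, 25]), (10, [49, 58]), (11, [17, 27]), (12, [81, 92]), (13, [17, 29]), (14, [49, 62]), (15, [17, 31]), (16, [17, 34]), (18, [19, 35]), (20, [21, 34]), (22, [23, 35]), (24, [25, 34]), (26, [27, 35]), (28, [29, 34]), (30, [31, 35]), (32, [19, 50]), (33, [17, 49]), (36, [19, 54]), (37, [17, 53]), (40, [19, 58]), (41, [17, 57]), (44, [19, 62]), (45, [17, 61]), (48, [19, 34]), (51, [17, 35]), (52, [19, 38]), (55, [17, 39]), (56, [19, 42]), (59, [17, 43]), (60, [19, 46]), (63, [17, 47]), (64, [21, 84]), (65, [17, 81]), (66, [21, 86]), (67, [17, 83]), (72, [21, 92]), (73, [17, 89]), (74, [21, 94]), (75, [17, 91]), (80, [21,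 68]), (82, [21, 70]), (85, [17, 69]), (87, [17, 71]), (88, [21, 76]), (90, [21, 78]), (93, [17, 77]), (95, [17, 79]), (96, [19, 114]), (97, [17, 113]), (102, [19, 116]), (103, [17, 119]), (104, [19, 122]), (105, [17, 121]), (110, [19, 124]), (111, [17, 127]), (112, [19, 98]), (115, [17, 99]), (117, [17, 101]), (118, [19, 100]), (120, [19, 106]), (123, [17, 107]), (125, [17, 109]), (126, [19, 108]), (128, [25, 152]), (129, [17, 145]), (130, [25, 154]), (131, [17, 147]), (132, [25, 156]), (133, [17, 149]), (134, [25, 158]), (135, [17, 151]), (144, [25, 136]), (146, [25, 138]), (148, [25, 140]), (150, [25, 142]), (153, [17, 137]), (155, [17, 139]), (157, [17, 141]), (159, [17, 143]), (160, [19, 178]), (161, [17, 177]), (164, [19, 182]), (165, [17, 181]), (170, [19, 184]), (171, [17, 187]), (174, [19, 188]), (175, [17, 191]), (176, [19, 162]), (179, [17, 163]), (180, [19, 166]), (183, [17, 167]), (185, [17, 169]), (186, [19, 168]), (189, [17, 173]), (190, [19, 172]), (192, [21, 212]),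 (193, [17, 209]), (194, [21, 214]), (195, [17, 211]), (204, [21, 216]), (205, [17, 221]), (206, [21, 218]), (207, [17, 223]), (208, [21, 196]), (210, [21, 198]), (213, [17, 197]), (215, [17, 199]), (217, [17, 201]), (219, [17, 203]), (220, [21, 200]), (222, [21, 202]), (224, [19, 242]), (225, [17, 241]), (230, [19, 244]), (231, [17, 247]), (234, [19, 248]), (235, [17, 251]), (236, [19, 254]), (237, [17, 253]), (240, [19, 226]), (243, [17, 227]), (245, [17, 229]), (246, [19, 228]), (249, [17, 233]), (250, [19, 232]), (252, [19, 238]), (255, [17, 239])]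
  dl := [(2, [34, 68]), (3, [34, 68]), (4, [34, 68]), (5, [34, 68]), (6, [34, 70]), (7, [34, 70]), (8, [34, 136]), (9, [34, 136]), (10, [34, 68]), (11, [34, 68]), (12, [34, 68]), (13, [34, 68]), (14, [34, 70]), (15, [34, 70]), (32, [34, 68]), (33, [34, 68]), (36, [34, 70]), (37, [34, 70]), (40, [34, 68]), (41, [34, 68]), (44, [34, 70]), (45, [34, 70]), (64, [34, 38]), (65, [34, 38]), (66, [34, 38]), (67, [34, 38]), (72, [34, 38]), (73, [34, 38]), (74, [34, 38]), (75, [34, 38]), (96, [34, 38]), (97, [34, 38]), (102, [34, 38]), (103, [34, 38]), (104, [34, 38]), (105, [34, 38]), (110, [34, 38]), (111, [34, 38]), (128, [34, 42]), (129, [34, 42]), (130, [34, 42]), (131, [34, 42]), (132, [34, 42]), (133, [34, 42]), (134, [34, 42]), (135, [34, 42]), (160, [34, 42]), (161, [34, 42]), (164, [34, 42]), (165, [34, 42]), (170, [34, 42]), (171, [34, 42]), (174, [34, 42]), (175, [34, 42]), (192, [34, 38]), (193, [34, 38]), (194, [34, 38]), (195, [34, 38]), (204, [34, 38]), (205, [34, 38]), (206,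 [34, 38]), (207, [34, 38]), (224, [34, 38]), (225, [34, 38]), (230, [34, 38]), (231, [34, 38]), (234, [34, 38]), (235, [34, 38]), (236, [34, 38]), (237, [34, 38])]
  pa := 2
  pb := 32

end Cfsg.Agent.Invol.Co1
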