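import Cfsg.Agent.Lib.Invol.Co1.Data

/-!
# Linear maps on the eight-dimensional space, compared on a basis
-/

set_option autoImplicit false
set_option linter.unusedSectionVars false

namespace Cfsg.Agent.Invol.Co1

open Cfsg.Agent.Classical.BinCoc Cfsg.Agent.Invol.Big Cfsg.Agent.Invol.Big.Code

/-- Additive on the coded space. -/
def Lin (f : ℕ → ℕ) : Prop := ∀ a < 256, ∀ b < 256, f (a ^^^ b) = f a ^^^ f b

/-- The images of the basis. -/
def bt (f : ℕ → ℕ) : List ℕ := (List.range 8).map fun i => f (2 ^ i)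

/-- The translation by `w` at `1`. -/
def tE (w a : ℕ) : ℕ :=
  a ^^^ (if bq K8 a 1 then w else 0) ^^^ (if xor (bq K8 a w) (K8.q w && bq K8 a 1) then 1 else 0)

theorem K8_n : (2 : ℕ) ^ K8.n = 256 := rfl

theorem xor_lt {a b : ℕ} (ha : a < 256) (hb : b < 256) : a ^^^ b < 256 :=
  Nat.xor_lt_two_pow (n := 8) ha hb

theorem lin_ext {f g : ℕ → ℕ} (hf : Lin f) (hg : Lin g) (h : bt f = bt g) {a : ℕ} (ha : a < 256) : f a = g a := by
  have hb : ∀ i < 8, f (2 ^ i) = g (2 ^ i) := by
    simpa [bt, List.map_inj_left] using h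
  have h0 : ∀ {k : ℕ → ℕ}, Lin k → k 0 = 0 := fun {k} hk => by
    have := hk 0 (by norm_num) 0 (by norm_num)
    simpa using this
  induction a using Nat.strong_induction_on with
  | _ a ih =>
    rcases Nat.eq_zero_or_pos a with rfl | hpos
    · rw [h0 hf, h0 hg]
    set i := Nat.log2 a with hi
    have h1 : 2 ^ i ≤ a := Nat.log2_self_le (by omega)
    have h2 : a < 2 ^ (i + 1) := Nat.lt_log2_self
    have hi8 : i < 8 := by
      by_contra hc
      have := Nat.pow_le_pow_right (show 1 ≤ 2 by norm_num) (not_lt.1 hc)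
      omega
    have hp : 2 ^ i < 256 := lt_of_le_of_lt h1 ha
    have hlt : a ^^^ 2 ^ i < 2 ^ i := by
      apply Nat.lt_of_testBit i
      · rw [Nat.testBit_xor, Nat.testBit_two_pow_self]
        have : a.testBit i = true := by
          rw [Nat.testBit_eq_decide_div_mod_eq]
          have hd : a / 2 ^ i = 1 := Nat.div_eq_of_lt_le (by omega) (by rw [pow_succ'] at h2; omega)
          simp [hd]
        simp [this]
      · exact Nat.testBit_two_pow_self
      · intro j hj
        have hlt' : 2 ^ i < 2 ^ j := Nat.pow_lt_pow_right (by norm_num) hj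
        have : a < 2 ^ j := lt_of_lt_of_le h2 (Nat.pow_le_pow_right (by norm_num) hj)
        rw [Nat.testBit_xor, Nat.testBit_lt_two_pow this, Nat.testBit_lt_two_pow hlt']
        rfl
    have e := ih (a ^^^ 2 ^ i) (by omega) (by omega)
    have ea : a = (a ^^^ 2 ^ i) ^^^ 2 ^ i := by rw [Nat.xor_assoc, Nat.xor_self, Nat.xor_zero]
    conv_lhs => rw [ea, hf _ (by omega) _ hp, e, hb i hi8]
    conv_rhs => rw [ea, hg _ (by omega) _ hp]

theorem wd_tr_lt {l : List ℕ} (hl : ∀ x ∈ l, x < 256) {a : ℕ} (ha : a < 256) : wd K8 l a < 256 := by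
  induction l with
  | nil => exact ha
  | cons x w ih =>
    show tr K8 x (wd K8 w a) < _
    have h1 := ih fun y hy => hl y (List.mem_cons_of_mem _ hy)
    unfold tr
    split_ifs
    · exact xor_lt h1 (hl x (List.mem_cons_self ..))
    · exact h1

theorem wok_lt {l : List ℕ} (hl : Wok K8 l = true) {a : ℕ} (ha : a < 256) : wd K8 l a < 256 := by
  refine wd_tr_lt (fun x hx => ?_) ha
  simp only [Wok, Bool.and_eq_true, List.all_eq_true, decide_eq_true_eq] at hl
  exact (hl.1.1 x hx).2

theorem tr_tr (x u : ℕ) : tr K8 x (tr K8 x u) = u := by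
  have hc : u ^^^ x ^^^ x = u := by rw [Nat.xor_assoc, Nat.xor_self, Nat.xor_zero]
  have hb : bq K8 x (u ^^^ x) = bq K8 x u := by
    unfold bq
    rw [show x ^^^ (u ^^^ x) = u by rw [Nat.xor_comm u, ← Nat.xor_assoc, Nat.xor_self, Nat.zero_xor],
      Nat.xor_comm x u]
    cases K8.q u <;> cases K8.q x <;> cases K8.q (u ^^^ x) <;> rfl
  cases e : bq K8 x u
  · simp [tr, e]
  · simp [tr, e, hb, hc]

/-- The cheap form of the word check. -/
def wk (l : List ℕ) : Bool := l.all (fun a => K8.q a && decide (a < 2 ^ K8.n)) && (l.length % 2 == 0)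

theorem wd_rev (l : List ℕ) (a : ℕ) : wd K8 l.reverse (wd K8 l a) = a := by
  induction l generalizing a with
  | nil => rfl
  | cons x w ih =>
    rw [List.reverse_cons, wd_append, show wd K8 [x] (wd K8 (x :: w) a) = tr K8 x (tr K8 x (wd K8 w a)) from rfl,
      tr_tr, ih]

theorem wok_eq : Wok K8 = wk := by
  funext l
  unfold Wok wk
  cases hall : l.all (fun a => K8.q a && decide (a < 2 ^ K8.n))
  · simp
  · cases hlen : (l.length % 2 == 0)
    · simp
    · simp only [Bool.true_and, List.all_eq_true, Bool.and_eq_true, beq_iff_eq, decide_eq_true_eq, pts, List.mem_range]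
      simp only [List.all_eq_true, Bool.and_eq_true, decide_eq_true_eq] at hall
      intro a ha
      refine ⟨⟨wd_rev l a, ?_⟩, wd_tr_lt (fun x hx => (hall x hx).2) ha⟩
      simpa using wd_rev l.reverse a

variable {G : Type*} [Group G] {z : G} {Q : Subgroup G} {cd : G → ℕ}

theorem bq_add (h : Code K8 z Q cd) {a b c : ℕ} (ha : a < 256) (hb : b < 256) (hc : c < 256) :
    bq K8 (a ^^^ b) c = xor (bq K8 a c) (bq K8 b c) := by
  have hx := h.rep_mem a
  have hy := h.rep_mem b
  have hw := h.rep_mem c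
  have e := h.conj_bq (mul_mem hx hy) hw
  have e1 := h.conj_bq hx hw
  have e2 := h.conj_bq hy hw
  rw [h.mul _ hx _ hy, h.cd_rep (a := a) ha, h.cd_rep (a := b) hb, h.cd_rep (a := c) hc] at e
  rw [h.cd_rep (a := a) ha, h.cd_rep (a := c) hc] at e1
  rw [h.cd_rep (a := b) hb, h.cd_rep (a := c) hc] at e2
  rw [show h.rep a * h.rep b * h.rep c * (h.rep a * h.rep b)⁻¹ =
      h.rep a * (h.rep b * h.rep c * (h.rep b)⁻¹) * (h.rep a)⁻¹ by group, e2, ← conj_mul, e1,
    conj_zpow' (h.ext.central _ hx), mul_assoc] at e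
  have e' := (mul_left_cancel e).symm
  revert e'
  unfold bn
  cases bq K8 a c <;> cases bq K8 b c <;> cases bq K8 (a ^^^ b) c <;>
    simp [h.ext.zz, h.ne, Ne.symm h.ne]

theorem bq_comm (a b : ℕ) : bq K8 a b = bq K8 b a := by
  unfold bq
  rw [Nat.xor_comm]
  cases K8.q a <;> cases K8.q b <;> cases K8.q (b ^^^ a) <;> rfl

theorem bq_addr (h : Code K8 z Q cd) {a b c : ℕ} (ha : a < 256) (hb : b < 256) (hc : c < 256) :
    bq K8 c (a ^^^ b) = xor (bq K8 c a) (bq K8 c b) := by
  rw [bq_comm, bq_add h ha hb hc, bq_comm a c, bq_comm b c]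

theorem q_xor (a b : ℕ) : K8.q (a ^^^ b) = xor (xor (K8.q a) (K8.q b)) (bq K8 a b) := by
  unfold bq
  cases K8.q a <;> cases K8.q b <;> cases K8.q (a ^^^ b) <;> rfl

theorem lin_act (h : Code K8 z Q cd) {c : G} (hc : c * z = z * c) : Lin (h.act c) :=
  fun _ ha _ hb => h.act_xor hc ha hb

theorem lin_wd (h : Code K8 z Q cd) {l : List ℕ} (hl : Wok K8 l = true) : Lin (wd K8 l) := by
  obtain ⟨c, hc, hca⟩ := h.exists_lift hl
  intro a ha b hb
  rw [← hca a ha, ← hca b hb, ← hca _ (xor_lt ha hb), h.act_xor hc ha hb]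

theorem Lin.comp {f g : ℕ → ℕ} (hf : Lin f) (hg : Lin g) (hb : ∀ a < 256, g a < 256) : Lin (f ∘ g) :=
  fun a ha b hb' => by
    simp only [Function.comp_apply]
    rw [hg a ha b hb', hf _ (hb a ha) _ (hb b hb')]

theorem lin_id : Lin id := fun _ _ _ _ => rfl

theorem tE_lt {w a : ℕ} (hw : w < 256) (ha : a < 256) : tE w a < 256 := by
  unfold tE
  refine xor_lt (xor_lt ha ?_) ?_ <;> split_ifs <;> first | exact hw | norm_num

theorem lin_tE (h : Code K8 z Q cd) {w : ℕ} (hw : w < 256) : Lin (tE w) := by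
  intro a ha b hb
  have hcan : ∀ x y : ℕ, x ^^^ (x ^^^ y) = y := fun x y => by rw [← Nat.xor_assoc, Nat.xor_self, Nat.zero_xor]
  unfold tE
  rw [bq_add h ha hb (by norm_num), bq_add h ha hb hw]
  cases bq K8 a 1 <;> cases bq K8 b 1 <;> cases bq K8 a w <;> cases bq K8 b w <;> cases K8.q w <;>
    simp <;> grind

/-- Conjugating a translation by an isometry fixing `1`. -/
theorem conj_tE (h : Code K8 z Q cd) {c : G} (hc : c * z = z * c) (h1 : h.act c 1 = 1) {w a : ℕ}
    (hw : w < 256) (ha : a < 256) : h.act c (tE w a) = tE (h.act c w) (h.act c a) := by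
  have h00 : h.act c 0 = 0 := by
    have := h.act_xor hc (a := 0) (b := 0) (by rw [K8_n]; norm_num) (by rw [K8_n]; norm_num)
    simpa using this
  have b1 : bq K8 (h.act c a) 1 = bq K8 a 1 := by
    conv_lhs => rw [← h1]
    exact h.bq_act hc ha (by rw [K8_n]; norm_num)
  have hx : ∀ (p : Bool) (x : ℕ), h.act c (if p then x else 0) = if p then h.act c x else 0 := fun p x => by
    cases p <;> simp [h00]
  unfold tE
  rw [h.act_xor hc (xor_lt ha (by split_ifs <;> first | exact hw | norm_num))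
      (by rw [K8_n]; split_ifs <;> norm_num),
    h.act_xor hc ha (by rw [K8_n]; split_ifs <;> first | exact hw | norm_num),
    hx, hx, h1, b1, h.bq_act hc ha hw, h.act_q hc hw]

theorem act_ext (h : Code K8 z Q cd) {c : G} (hc : c * z = z * c) {f : ℕ → ℕ} (hf : Lin f)
    (e : bt (h.act c) = bt f) : h.Acts c f := ⟨hc, fun _ ha => lin_ext (lin_act h hc) hf e ha⟩

end Cfsg.Agent.Invol.Co1
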