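import Cfsg.Agent.Lib.Invol.Co1.Count

/-!
# The representatives are not conjugate to the centre
-/

set_option autoImplicit false
set_option linter.unusedSectionVars false

namespace Cfsg.Agent.Invol.Co1

open Cfsg.Agent.Classical.BinCoc Cfsg.Agent.Invol.Big Cfsg.Agent.Invol.Big.Code

variable {G : Type*} [Group G] [Finite G] {z : G} {Q : Subgroup G} {cd : G → ℕ}

/-- A lower bound from the number of fixed codes alone. -/
theorem card_cent' (h : Code K8 z Q cd) {σ : ℕ → ℕ} {s : G} (hs : h.Acts s σ)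
    (h16 : 16 ≤ (fixL K8 σ).length) : 16 ≤ Nat.card (Q ⊓ Subgroup.centralizer ({s} : Set G) : Subgroup G) := by
  classical
  set F := fixL K8 σ with hF
  have hFn : F.Nodup := List.nodup_range.filter _
  set U := F.filter fun u => h.afun s u == 0 with hUdef
  have hUn : U.Nodup := hFn.filter _
  have hU8 : 8 ≤ U.length := by
    by_cases hall : ∀ u ∈ F, h.afun s u = 0
    · have : U = F := List.filter_eq_self.2 fun u hu => by simp [hall u hu]
      rw [this]; omega
    · simp only [not_forall] at hall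
      obtain ⟨v, hv, hv1⟩ := hall
      have hle := h.afun_le s v
      have hsub : (F.filter fun u => !(h.afun s u == 0)).map (· ^^^ v) ⊆ U := by
        intro x hx
        obtain ⟨u, hu, rfl⟩ := List.mem_map.1 hx
        obtain ⟨huF, hu1⟩ := List.mem_filter.1 hu
        simp only [Bool.not_eq_true', beq_eq_false_iff_ne] at hu1
        obtain ⟨h1, h2⟩ := h.afun_add hs huF hv
        have := h.afun_le s u
        refine List.mem_filter.2 ⟨h1, ?_⟩
        rw [h2, show h.afun s u = 1 by omega, show h.afun s v = 1 by omega]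
        rfl
      have hnd : ((F.filter fun u => !(h.afun s u == 0)).map (· ^^^ v)).Nodup :=
        (hFn.filter _).map_on fun a _ b _ e => by
          have := congrArg (· ^^^ v) e
          simpa [Nat.xor_assoc] using this
      have h1 := hnd.length_le_of_subset hsub
      rw [List.length_map] at h1
      have h2 := List.length_eq_length_filter_add (l := F) fun u => h.afun s u == 0
      rw [← hUdef] at h2
      omega
  have hU : ∀ u ∈ U, u < 2 ^ K8.n ∧ σ u = u ∧ h.afun s u = 0 := fun u hu => by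
    obtain ⟨h1, h2⟩ := List.mem_filter.1 hu
    exact ⟨(mem_fixL.1 h1).1, (mem_fixL.1 h1).2, by simpa using h2⟩
  let f : {u // u ∈ U.toFinset} × Fin 2 → (Q ⊓ Subgroup.centralizer ({s} : Set G) : Subgroup G) := fun p =>
    ⟨h.rep p.1.1 * z ^ p.2.1, mul_mem (h.rep_mem _) (pow_mem h.ext.mem _), by
      obtain ⟨h1, h3, h4⟩ := hU _ (List.mem_toFinset.1 p.1.2)
      refine Subgroup.mem_centralizer_singleton_iff.2 ?_
      have e := h.afun_spec hs.1 (h.rep_mem p.1.1) (by rw [h.cd_rep h1, hs.2 _ h1, h3])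
      rw [h.cd_rep h1, h4, pow_zero, mul_one, mul_inv_eq_iff_eq_mul] at e
      exact ((Commute.mul_left (show Commute (h.rep p.1.1) s from e.symm)
        ((show Commute z s from hs.1.symm).pow_left p.2.1))).eq⟩
  have hf : Function.Injective f := fun p q e => by
    have e' : h.rep p.1.1 * z ^ p.2.1 = h.rep q.1.1 * z ^ q.2.1 := congrArg Subtype.val e
    have e1 := congrArg cd e'
    rw [h.mul _ (h.rep_mem _) _ (pow_mem h.ext.mem _), h.mul _ (h.rep_mem _) _ (pow_mem h.ext.mem _),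
      h.cd_zpow, h.cd_zpow, Nat.xor_zero, Nat.xor_zero, h.cd_rep (hU _ (List.mem_toFinset.1 p.1.2)).1,
      h.cd_rep (hU _ (List.mem_toFinset.1 q.1.2)).1] at e1
    rw [e1] at e'
    exact Prod.ext (Subtype.ext e1) (Fin.ext (h.pow_inj (by omega) (by omega) (mul_left_cancel e')))
  have := Nat.card_le_card_of_injective f hf
  rw [Nat.card_prod, Nat.card_eq_fintype_card, Fintype.card_coe, List.toFinset_card_of_nodup hUn, Nat.card_fin] at this
  omega

/-- Involutions of the centralizer outside `Q` centralize at least sixteen elements of `Q`. -/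
theorem big_cent (h : Code K8 z Q cd)
    (hcard : Nat.card (Subgroup.centralizer ({z} : Set G)) = 42525 * (2 ^ 12 * Nat.card Q))
    {y : G} (hy : y * z = z * y) (hy2 : y * y = 1) (hyQ : y ∉ Q) :
    16 ≤ Nat.card (Q ⊓ Subgroup.centralizer ({y} : Set G) : Subgroup G) := by
  obtain ⟨c, hc, σ, hσ, hA⟩ := classify h hcard hy hy2 hyQ
  have hf := fix16_ok
  simp only [List.all_eq_true, decide_eq_true_eq] at hf
  refine (card_cent' h hA (hf σ hσ)).trans (Nat.card_le_card_of_injective (fun w => (⟨c⁻¹ * w.1 * c, ?_, ?_⟩ :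
    (Q ⊓ Subgroup.centralizer ({y} : Set G) : Subgroup G))) fun a b e => Subtype.ext ?_)
  · simpa using h.ext.norm c⁻¹ (comm_inv hc) w.1 w.2.1
  · refine Subgroup.mem_centralizer_singleton_iff.2 ?_
    obtain ⟨w, hw⟩ := w
    have := Subgroup.mem_centralizer_singleton_iff.1 hw.2
    calc c⁻¹ * w * c * y = c⁻¹ * (w * (c * y * c⁻¹)) * c := by group
      _ = c⁻¹ * ((c * y * c⁻¹) * w) * c := by rw [this]
      _ = y * (c⁻¹ * w * c) := by group
  · simpa using congrArg Subtype.val e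

namespace Pr

variable {g : G}

/-- A representative `p * x` commutes with the elements of its list. -/
theorem comm_uX (P : Pr z Q cd g) {p : G} {w u0 : ℕ} (hp : InP P.code g p w) (hu0 : u0 < 256) {u : ℕ}
    (hu : u < 256) (h1 : bq K8 1 u = false) (hw : bq K8 w u = false) (h0 : bq K8 u0 u = false) :
    Commute (p * P.code.rep u0) (P.code.rep u) := by
  have hcu := P.code.cd_rep (show u < 2 ^ K8.n from hu)
  refine Commute.mul_left (P.comm_x hp (P.code.rep_mem u) (by rw [hcu]; exact h1) (by rw [hcu]; exact hw)) ?_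
  exact (P.code.commute_iff (P.code.rep_mem u0) (P.code.rep_mem u)).2
    (by rw [P.code.cd_rep (show u0 < 2 ^ K8.n from hu0), hcu]; exact h0)

/-- The action of an element commuting with `y` and fixing the list is a candidate. -/
theorem mem_cands (P : Pr z Q cd g) {y p : G} {w : ℕ} {uX : List ℕ} (hy : P.code.Acts y (tE w))
    (hpz : p * z = z * p) (hpy : p * y = y * p) (hw : w < 256)
    (hcov : covers K8 ((gensX uX).map Prod.fst) = true) (hlt : ∀ g ∈ (gensX uX).map Prod.fst, g < 256)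
    (hfix : ∀ u ∈ uX, P.code.act p u = u) : tab K8 (P.code.act p) ∈ cands w uX := by
  have h := P.code
  have hult : ∀ u ∈ uX, u < 256 := fun u hu => hlt u (by
    simp only [gensX, List.map_append, List.map_map, List.mem_append, List.mem_map, Function.comp_apply]
    exact Or.inl ⟨u, hu, rfl⟩)
  refine List.mem_filter.2 ⟨mem_maps K8 _ _ (fun a b => P.code.act_xor hpz) (fun a => P.code.act_q hpz) hcov
    (fun q hq => hlt q.1 (List.mem_map.2 ⟨q, hq, rfl⟩)) (fun q hq => ?_), ?_⟩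
  · have hq1 : q.1 < 256 := hlt q.1 (List.mem_map.2 ⟨q, hq, rfl⟩)
    rcases List.mem_append.1 hq with hq | hq <;> obtain ⟨b, hb, rfl⟩ := List.mem_map.1 hq
    · rw [List.mem_singleton]; exact hfix b hb
    · simp only [List.mem_filter, pts, List.mem_range, Bool.and_eq_true, beq_iff_eq, List.all_eq_true]
      refine ⟨P.code.act_lt hpz b, P.code.act_q hpz hq1, fun u hu => ?_⟩
      conv_lhs => arg 2; rw [← hfix u hu]
      exact P.code.bq_act hpz (hult u hu) hq1
  · simp only [Bool.and_eq_true, List.all_eq_true, pts, List.mem_range, beq_iff_eq]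
    refine ⟨fun b hb => ?_, fun u hu => ?_⟩
    · rw [tab_getD K8 (tE_lt hw hb), tab_getD K8 hb, ← hy.2 b hb, ← h.act_mul hpz hy.1 hb, hpy,
        h.act_mul hy.1 hpz hb, hy.2 _ (h.act_lt hpz b)]
    · rw [tab_getD K8 (hult u hu)]
      exact hfix u hu

/-- The representatives are not conjugate to `z`. -/
theorem not_conj_z (P : Pr z Q cd g)
    (hcard : Nat.card (Subgroup.centralizer ({z} : Set G)) = 42525 * (2 ^ 12 * Nat.card Q))
    {p : G} {w u0 b : ℕ} {uX : List ℕ} (hp : InP P.code g p w) (hchk : chkX w u0 b uX = true) (hw0 : w ≠ 0)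
    (hy2 : p * P.code.rep u0 * (p * P.code.rep u0) = 1) : ¬ IsConj z (p * P.code.rep u0) := by
  classical
  have h := P.code
  simp only [chkX, Bool.and_eq_true, List.all_eq_true, decide_eq_true_eq, beq_iff_eq, Bool.not_eq_true'] at hchk
  obtain ⟨⟨⟨⟨⟨⟨⟨⟨⟨⟨hcov, hglt⟩, huX⟩, hlen⟩, hu0⟩, hb⟩, hb1⟩, hbw⟩, hbu⟩, hbfix⟩, hu1⟩ := hchk
  set y := p * P.code.rep u0 with hy
  have hyA : P.code.Acts y (tE w) := hp.2.2.2.mul_Q (P.code.rep_mem u0)
  have hyz : y * z = z * y := hyA.1
  have hyQ : y ∉ Q := fun e => hw0 (by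
    have e16 := (h.mem_iff hyz).1 e 16 (by rw [K8_n]; norm_num)
    rw [hyA.2 16 (by rw [K8_n]; norm_num)] at e16
    exact List.inj_on_of_nodup_map inj_ok.1 hp.2.2.1 inj_ok.2.2.2.1 (e16.trans inj_ok.2.2.2.2.1.symm))
  -- the fixed code not centralized by `y`
  have hcb := P.code.cd_rep (show b < 2 ^ K8.n from hb)
  have hyb : y * P.code.rep b * y⁻¹ = P.code.rep b * z := by
    have e1 : p * P.code.rep b * p⁻¹ = P.code.rep b :=
      comm_left_conj (P.comm_x hp (P.code.rep_mem b) (by rw [hcb]; exact hb1) (by rw [hcb]; exact hbw))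
    have e2 := h.conj_bq (P.code.rep_mem u0) (P.code.rep_mem b)
    rw [hcb, h.cd_rep (show u0 < 2 ^ K8.n from hu0), bn, bq_comm, if_pos hbu, pow_one] at e2
    calc y * P.code.rep b * y⁻¹ = p * (P.code.rep u0 * P.code.rep b * (P.code.rep u0)⁻¹) * p⁻¹ := by
          simp only [hy]; group
      _ = (p * P.code.rep b * p⁻¹) * (p * z * p⁻¹) := by rw [e2]; group
      _ = _ := by rw [e1, comm_left_conj hp.2.1]
  intro hconj
  obtain ⟨a, ha⟩ := isConj_iff.1 hconj
  have hzc : z ∉ Qc Q a := h.not_mem_Qc P.big (by rw [ha]; exact hyQ)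
  have hK : ∀ x ∈ Q, x * y = y * x → x ∈ Qc Q a → x = 1 := by
    intro x hx hxy hxc
    have hx2 : x * x = 1 := by
      rcases h.ext.sq x hx with e | e
      · exact e
      · exact absurd (e ▸ mul_mem hxc hxc) hzc
    by_contra hx1
    have hxN : NonCentral z Q x := ⟨hx, hx2, hx1, fun e => hzc (e ▸ hxc)⟩
    obtain ⟨g1, hg1⟩ := isConj_iff.1 (h.isConj_z P.pd_ok P.moves hxN)
    have h1 : (a⁻¹ * g1) * z * (a⁻¹ * g1)⁻¹ ∈ Q := by
      rw [show a⁻¹ * g1 * z * (a⁻¹ * g1)⁻¹ = a⁻¹ * (g1 * z * g1⁻¹) * a by group, hg1]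
      exact mem_Qc.1 hxc
    have hyg : y ∈ Qc Q g1 := by
      have := mem_Qc.1 (h.symm P.big h1)
      refine mem_Qc.2 ?_
      rwa [show (a⁻¹ * g1)⁻¹ * z * (a⁻¹ * g1) = g1⁻¹ * (a * z * a⁻¹) * g1 by group, ha] at this
    obtain ⟨c, hc, hct⟩ := h.trans P.pd_ok hxN (h.nonCentral_conj P.hg P.hne)
    set y' := c * y * c⁻¹
    have hy'g : y' ∈ Qc Q g := by
      refine h.Qc_congr (g := c * g1) ?_ (mem_Qc.2 ?_)
      · rw [show c * g1 * z * (c * g1)⁻¹ = c * (g1 * z * g1⁻¹) * c⁻¹ by group, hg1, hct]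
      · rw [show (c * g1)⁻¹ * (c * y * c⁻¹) * (c * g1) = g1⁻¹ * y * g1 by group]
        exact mem_Qc.1 hyg
    have hy'z : y' * z = z * y' := comm_mul (comm_mul hc hyz) (comm_inv hc)
    obtain ⟨w', hw'⟩ := P.exists_w hy'g hy'z
    have hw'0 : w' ≠ 0 := fun e => hyQ (by
      have hQ : y' ∈ Q := (h.mem_iff hy'z).2 fun u hu => by rw [hw'.2.2.2.2 u hu, e, tE_zero]
      have := h.ext.norm c⁻¹ (comm_inv hc) _ hQ
      rwa [inv_inv, show c⁻¹ * (c * y * c⁻¹) * c = y by group] at this)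
    set x' := c * P.code.rep b * c⁻¹
    have hx'Q : x' ∈ Q := h.ext.norm c hc _ (P.code.rep_mem b)
    have he : y' * x' * y'⁻¹ = x' * z := by
      calc y' * x' * y'⁻¹ = c * (y * P.code.rep b * y⁻¹) * c⁻¹ := by simp only [y', x']; group
        _ = x' * (c * z * c⁻¹) := by rw [hyb]; simp only [x']; group
        _ = _ := by rw [comm_left_conj hc]
    have hfix : tE w' (cd x') = cd x' := by
      rw [← hw'.2.2.2.2 _ (h.lt x' hx'Q), h.act_cd hy'z hx'Q, he, h.mul _ hx'Q _ h.ext.mem, h.cd_z, Nat.xor_zero]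
    have hfa := fixany_ok
    simp only [List.all_eq_true, Bool.or_eq_true, beq_iff_eq, Bool.not_eq_true', beq_eq_false_iff_ne,
      List.mem_range, Bool.and_eq_true] at hfa
    obtain ⟨k1, k2⟩ := ((hfa w' hw'.2.2.1).resolve_left hw'0 (cd x') (h.lt x' hx'Q)).resolve_left fun e => e hfix
    rw [comm_left_conj (P.comm_x hw' hx'Q k1 k2)] at he
    exact h.ne (mul_eq_left.1 he.symm)
  set s' := a⁻¹ * z * a with hs'
  have hs'z : s' * z = z * s' := by
    have := hyz
    rw [← ha] at this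
    calc s' * z = a⁻¹ * (z * (a * z * a⁻¹)) * a := by rw [hs']; group
      _ = a⁻¹ * ((a * z * a⁻¹) * z) * a := by rw [this]
      _ = _ := by rw [hs']; group
  have hs'2 : s' * s' = 1 := by
    rw [hs', show a⁻¹ * z * a * (a⁻¹ * z * a) = a⁻¹ * (z * z) * a by group, h.ext.zz]; group
  have h16 := big_cent h hcard hs'z hs'2 fun e => hzc (mem_Qc.2 e)
  have hpy : ∀ q, q ∈ Qc Q a → q * y = y * q := fun q hq => by
    have := (h.extc a).central q hq
    rwa [ha] at this
  have hfixU : ∀ q, q ∈ Qc Q a → q * z = z * q → ∀ u ∈ uX, P.code.act q u = u := by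
    intro q hq hqz u hu
    obtain ⟨⟨⟨⟨hult, -⟩, k1⟩, k2⟩, k3⟩ := huX u hu
    set x := P.code.rep u
    have hxQ : x ∈ Q := P.code.rep_mem u
    have hxy : Commute y x := P.comm_uX hp hu0 hult k1 k2 k3
    have hcom : q * x * q⁻¹ * x⁻¹ = 1 := by
      refine hK _ (mul_mem (h.ext.norm q hqz x hxQ) (inv_mem hxQ)) ?_ ?_
      · exact (((show Commute q y from hpy q hq).mul_left hxy.symm).mul_left
          (Commute.inv_left (show Commute q y from hpy q hq))).mul_left (Commute.inv_left hxy.symm)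
      · rw [show q * x * q⁻¹ * x⁻¹ = q * (x * q⁻¹ * x⁻¹) by group]
        exact mul_mem hq ((h.extc a).norm x (by rw [ha]; exact hxy.symm.eq) _ (inv_mem hq))
    rw [mul_inv_eq_one] at hcom
    show cd (q * x * q⁻¹) = u
    rw [hcom, h.cd_rep (show u < 2 ^ K8.n from hult)]
  have hinP : ∀ x : (Q ⊓ Subgroup.centralizer ({s'} : Set G) : Subgroup G),
      a * x.1 * a⁻¹ ∈ Qc Q a ∧ a * x.1 * a⁻¹ * z = z * (a * x.1 * a⁻¹) := fun x => by
    refine ⟨⟨x.1, x.2.1, rfl⟩, ?_⟩
    have := Subgroup.mem_centralizer_singleton_iff.1 x.2.2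
    generalize (x : G) = v at this ⊢
    rw [hs'] at this
    calc a * v * a⁻¹ * z = a * (v * (a⁻¹ * z * a)) * a⁻¹ := by group
      _ = a * ((a⁻¹ * z * a) * v) * a⁻¹ := by rw [this]
      _ = _ := by group
  let f : (Q ⊓ Subgroup.centralizer ({s'} : Set G) : Subgroup G) → {T' // T' ∈ (cands w uX).toFinset} := fun x =>
    ⟨tab K8 (P.code.act (a * x.1 * a⁻¹)), List.mem_toFinset.2 (P.mem_cands hyA (hinP x).2 (hpy _ (hinP x).1)
      (rs_lt hp.2.2.1) hcov hglt (hfixU _ (hinP x).1 (hinP x).2))⟩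
  have hf : Function.Injective f := fun x x' e => by
    have e' := (tab_eq_iff K8).1 (congrArg Subtype.val e)
    obtain ⟨hx1, hx2⟩ := hinP x
    obtain ⟨hy1, hy2'⟩ := hinP x'
    set q := a * x.1 * a⁻¹
    set q' := a * x'.1 * a⁻¹
    have hd : q⁻¹ * q' ∈ Q := (h.mem_iff (comm_mul (comm_inv hx2) hy2')).2 fun u hu => by
      rw [h.act_mul (comm_inv hx2) hy2' hu, ← e' u hu, h.act_inv_left hx2 hu]
    have hdc : q⁻¹ * q' ∈ Qc Q a := mul_mem (inv_mem hx1) hy1
    have := hK _ hd (hpy _ hdc) hdc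
    rw [inv_mul_eq_one] at this
    exact Subtype.ext (mul_left_cancel (mul_right_cancel this))
  have := Nat.card_le_card_of_injective f hf
  rw [Nat.card_eq_fintype_card (α := {T' // T' ∈ (cands w uX).toFinset}), Fintype.card_coe] at this
  have := List.toFinset_card_le (cands w uX)
  omega

theorem not_conj_z_R (P : Pr z Q cd g)
    (hcard : Nat.card (Subgroup.centralizer ({z} : Set G)) = 42525 * (2 ^ 12 * Nat.card Q))
    {r : G} (hr : IsR P r) : ¬ IsConj z r := by
  obtain ⟨p, hp, rfl⟩ := hr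
  exact P.not_conj_z hcard hp chkX_A (by norm_num) (P.isR_spec ⟨p, hp, rfl⟩).1

theorem not_conj_z_P (P : Pr z Q cd g)
    (hcard : Nat.card (Subgroup.centralizer ({z} : Set G)) = 42525 * (2 ^ 12 * Nat.card Q))
    {r : G} (hr : IsP P r) : ¬ IsConj z r := by
  obtain ⟨p, hp, rfl⟩ := hr
  exact P.not_conj_z hcard hp chkX_C (by norm_num) (P.isP_spec ⟨p, hp, rfl⟩).1

end Pr

end Cfsg.Agent.Invol.Co1
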