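import Cfsg.Agent.Lib.Invol.Co1.Tables

/-!
# The conjugates of the centre inside `Q`, and the commutators between the two extraspecial groups
-/

set_option autoImplicit false
set_option linter.unusedSectionVars false

namespace Cfsg.Agent.Invol.Co1

open Cfsg.Agent.Classical.BinCoc Cfsg.Agent.Invol.Big Cfsg.Agent.Invol.Big.Code

/-- A basis of nonsingular vectors with nonsingular sums. -/
def nsb : List ℕ :=
  ((List.range 64).map fun j => rs.getD j 0).foldl
    (fun b v => if K8.q v && b.all (fun x => bq K8 x v) && !((sp b).contains v) then b ++ [v] else b) []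

/-- Generators of the fixed vectors of the first translation by moved differences. -/
def gsp : List ℕ := greedy (gam.flatMap fun k => (fixL K8 (tE 2)).map fun u => wd K8 k u ^^^ u)

theorem img_ok : ((List.range 256).all fun b => K8.q b || !bq K8 b 1 ||
    rs.contains ((b ^^^ 16) &&& 238) && tE ((b ^^^ 16) &&& 238) 16 == b && tE ((b ^^^ 16) &&& 238) 1 == 1 &&
      (rb.all fun u => tE ((b ^^^ 16) &&& 238) u == if bq K8 b u then u ^^^ 1 else u) &&
      ((b == 16) || rb.any fun u => bq K8 b u)) = true := by decide +kernel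

theorem rb_ok : ((rb.all fun u => decide (u < 256) && !bq K8 1 u && !bq K8 16 u && !K8.q u && rs.contains u) &&
    rs.all fun w => !bq K8 1 w && (sp rb).contains w) = true := by decide +kernel

theorem tw_ok : ((rs.all fun w => w == 0 || (tw.map Prod.fst).contains w) &&
    tw.all fun p => Wok K8 p.2 && wd K8 p.2 1 == 1 && rs.contains p.1 &&
      wd K8 p.2 p.1 == if K8.q p.1 then 136 else 2) = true := by
  simp only [wok_eq]
  decide +kernel

theorem split_ok : ((rs.all fun w => (rs.any fun a => a != 0 && !K8.q a && rs.contains (w ^^^ a) && !K8.q (w ^^^ a)) &&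
      rs.any fun a => K8.q a && K8.q (w ^^^ a) && rs.contains (w ^^^ a)) &&
    (nsb.all fun a => rs.contains a && K8.q a && nsb.all fun b => a == b || K8.q (a ^^^ b)) &&
    rs.all fun w => (sp nsb).contains w) = true := by decide +kernel

theorem gam_ok : ((gam.all fun k => Wok K8 k && wd K8 k 1 == 1 && wd K8 k 2 == 2) &&
    (fixL K8 (tE 2)).all fun u => (sp gsp).contains u) = true := by
  simp only [wok_eq]
  decide +kernel

theorem gsp_ok : (gsp.all fun x => gam.any fun k => (fixL K8 (tE 2)).any fun u =>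
    wd K8 k u ^^^ u == x) = true := by decide +kernel

theorem fix2_ok : ((List.range 256).all fun u => ((fixL K8 (tE 2)).contains u == (!bq K8 1 u && !bq K8 2 u))) = true := by
  decide +kernel

/-- Induction along a span. -/
theorem sp_induct {l : List ℕ} {P : ℕ → Prop} (h0 : P 0) (hl : ∀ b ∈ l, P b)
    (hadd : ∀ a b, P a → P b → P (a ^^^ b)) : ∀ x ∈ sp l, P x := by
  suffices ∀ (l : List ℕ) (s : List ℕ), (∀ x ∈ s, P x) → (∀ b ∈ l, P b) →
      ∀ x ∈ l.foldl (fun s p => s ++ s.map (fun x => x ^^^ p)) s, P x from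
    this l _ (fun x hx => by rw [List.mem_singleton.1 hx]; exact h0) hl
  intro l
  induction l with
  | nil => exact fun s hs _ => hs
  | cons a l ih =>
    intro s hs hl
    refine ih _ (fun x hx => ?_) fun b hb => hl b (List.mem_cons_of_mem _ hb)
    rcases List.mem_append.1 hx with hx | hx
    · exact hs x hx
    · obtain ⟨y, hy, rfl⟩ := List.mem_map.1 hx
      exact hadd _ _ (hs y hy) (hl a (List.mem_cons_self ..))

variable {G : Type*} [Group G] [Finite G] {z : G} {Q : Subgroup G} {cd : G → ℕ}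

/-- The standing data. -/
structure Std (z : G) (Q : Subgroup G) (cd : G → ℕ) : Prop where
  code : Code K8 z Q cd
  big : 8 < Nat.card Q
  pd_ok : chkPair K8 pd = true
  moves : Moves z Q

/-- A conjugate of the centre in `Q` with code `1`. -/
structure Pr (z : G) (Q : Subgroup G) (cd : G → ℕ) (g : G) : Prop extends Std z Q cd where
  hg : g * z * g⁻¹ ∈ Q
  hne : g * z * g⁻¹ ≠ z
  hv : cd (g * z * g⁻¹) = 1

/-- A member of `Qc Q g` centralizing `z`, acting as the translation by `w`. -/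
def InP (h : Code K8 z Q cd) (g p : G) (w : ℕ) : Prop :=
  p ∈ Qc Q g ∧ p * z = z * p ∧ w ∈ rs ∧ h.Acts p (tE w)

theorem exists_pr (S : Std z Q cd) : ∃ g, Pr z Q cd g := by
  have h1 : (1 : ℕ) < 2 ^ K8.n := by rw [K8_n]; norm_num
  have hx : NonCentral z Q (S.code.rep 1) := nonCentral_of S.code (S.code.rep_mem 1)
    (by rw [S.code.cd_rep h1]; norm_num) (by rw [S.code.cd_rep h1]; decide +kernel)
  obtain ⟨g, hg⟩ := isConj_iff.1 (S.code.isConj_z S.pd_ok S.moves hx)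
  exact ⟨g, S, by rw [hg]; exact hx.1, by rw [hg]; exact hx.2.2.2, by rw [hg, S.code.cd_rep h1]⟩

/-- An isometry moving `v⊥` only along `v` is a translation. -/
theorem act_tE (h : Code K8 z Q cd) {p : G} (hp : p * z = z * p) (h1 : h.act p 1 = 1)
    (hr : ∀ u ∈ rb, h.act p u = u ∨ h.act p u = u ^^^ 1) :
    ∃ w ∈ rs, h.Acts p (tE w) ∧ ((∀ u ∈ rb, h.act p u = u) → w = 0) := by
  have hrb := rb_ok
  have himg := img_ok
  simp only [Bool.and_eq_true, List.all_eq_true, Bool.or_eq_true, Bool.not_eq_true', beq_iff_eq, List.mem_range,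
    decide_eq_true_eq, List.contains_iff_mem, List.any_eq_true] at hrb himg
  set b := h.act p 16 with hb
  have h16 : (16 : ℕ) < 2 ^ K8.n := by rw [K8_n]; norm_num
  have h1' : (1 : ℕ) < 2 ^ K8.n := by rw [K8_n]; norm_num
  have hblt : b < 256 := h.act_lt hp 16
  have hbq : K8.q b = false := by rw [hb, h.act_q hp h16]; decide +kernel
  have hb1 : bq K8 b 1 = true := by
    conv_lhs => rw [hb, ← h1]
    rw [h.bq_act hp h16 h1']; decide +kernel
  rcases himg b hblt with (e | e) | ⟨⟨⟨⟨hw, h16'⟩, hw1⟩, hwu⟩, hw0⟩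
  · rw [hbq] at e; exact absurd e (by simp)
  · rw [hb1] at e; exact absurd e (by simp)
  have hu : ∀ u ∈ rb, h.act p u = if bq K8 b u then u ^^^ 1 else u := by
    intro u huR
    obtain ⟨⟨⟨⟨hlt, -⟩, hu16⟩, -⟩, -⟩ := hrb.1 u huR
    have e := h.bq_act hp h16 (show u < 2 ^ K8.n from hlt)
    rcases hr u huR with e' | e'
    · rw [e', ← hb, hu16] at e; rw [e', e]; rfl
    · rw [e', ← hb, hu16, bq_addr h hlt (by norm_num) hblt, hb1] at e
      simp only [Bool.xor_true, Bool.not_eq_false'] at e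
      rw [e', e]; rfl
  refine ⟨_, hw, act_ext h hp (lin_tE h (rs_lt hw)) ?_, fun hall => ?_⟩
  · simp only [bt, List.map_inj_left, List.mem_range]
    intro i hi
    have hrbmem : ∀ u ∈ rb, h.act p u = tE ((b ^^^ 16) &&& 238) u := fun u hu' => by rw [hu u hu', hwu u hu']
    interval_cases i
    · show h.act p 1 = tE _ 1
      rw [h1, hw1]
    · exact hrbmem 2 (by decide)
    · exact hrbmem 4 (by decide)
    · exact hrbmem 8 (by decide)
    · show h.act p 16 = tE _ 16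
      rw [h16', hb]
    · exact hrbmem 32 (by decide)
    · exact hrbmem 64 (by decide)
    · exact hrbmem 128 (by decide)
  · rcases hw0 with e | ⟨u, huR, e⟩
    · rw [e]; decide +kernel
    · exfalso
      have := hu u huR
      rw [hall u huR, if_pos e] at this
      have h2 := congrArg (u ^^^ ·) this
      simp only [Nat.xor_self, ← Nat.xor_assoc, Nat.zero_xor] at h2
      exact absurd h2 (by norm_num)

namespace Pr

variable {g : G}

theorem t_sq (P : Pr z Q cd g) : g * z * g⁻¹ * (g * z * g⁻¹) = 1 := (P.code.extc g).zz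

theorem t_z (P : Pr z Q cd g) : g * z * g⁻¹ * z = z * (g * z * g⁻¹) := P.code.ext.central _ P.hg

theorem t_mem (P : Pr z Q cd g) : g * z * g⁻¹ ∈ Qc Q g := (P.code.extc g).mem

theorem commute_t (P : Pr z Q cd g) {p : G} (hp : p ∈ Qc Q g) : p * (g * z * g⁻¹) = g * z * g⁻¹ * p :=
  (P.code.extc g).central p hp

theorem x_t (P : Pr z Q cd g) {x : G} (hx : x ∈ Q) (hb : bq K8 1 (cd x) = false) :
    x * (g * z * g⁻¹) = g * z * g⁻¹ * x :=
  ((P.code.commute_iff P.hg hx).2 (by rw [P.hv]; exact hb)).symm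

/-- The four common elements. -/
theorem dmem (P : Pr z Q cd g) {d : G} (hd : d ∈ Q) (hd' : d ∈ Qc Q g) :
    (d = 1 ∨ d = z) ∨ d = g * z * g⁻¹ ∨ d = g * z * g⁻¹ * z := by
  rcases P.code.dcases P.pd_ok P.hg P.hne hd hd' with e | e
  · exact Or.inl ((P.code.ker d hd).1 e)
  · exact Or.inr ((P.code.cd_eq_iff P.hg hd).1 e.symm)

theorem d_comm (P : Pr z Q cd g) {d p : G} (hd : d ∈ Q) (hd' : d ∈ Qc Q g) (hpz : p * z = z * p)
    (hpt : p * (g * z * g⁻¹) = g * z * g⁻¹ * p) : p * d = d * p := by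
  rcases P.dmem hd hd' with (rfl | rfl) | rfl | rfl
  · simp
  · exact hpz
  · exact hpt
  · exact (Commute.mul_right (show Commute p _ from hpt) (show Commute p _ from hpz)).eq

theorem d_sq (P : Pr z Q cd g) {d : G} (hd : d ∈ Q) (hd' : d ∈ Qc Q g) : d * d = 1 := by
  rcases P.dmem hd hd' with (rfl | rfl) | rfl | rfl
  · simp
  · exact P.code.ext.zz
  · exact P.t_sq
  · rw [mul_assoc, ← mul_assoc z, ← P.t_z, mul_assoc (g * z * g⁻¹) z z, P.code.ext.zz, mul_one, P.t_sq]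

theorem hprop (P : Pr z Q cd g) {p : G} (hp : p ∈ Qc Q g) (hpz : p * z = z * p) {u : ℕ} (hu : u < 256)
    (hb : bq K8 1 u = false) : P.code.act p u = u ∨ P.code.act p u = u ^^^ 1 := by
  have h := P.code
  set x := P.code.rep u
  have hxQ : x ∈ Q := P.code.rep_mem u
  have hcdx : cd x = u := P.code.cd_rep hu
  have hxt := P.x_t hxQ (by rw [hcdx]; exact hb)
  have he1 : p * x * p⁻¹ * x⁻¹ ∈ Q := mul_mem (h.ext.norm p hpz x hxQ) (inv_mem hxQ)
  have he2 : p * x * p⁻¹ * x⁻¹ ∈ Qc Q g := by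
    rw [show p * x * p⁻¹ * x⁻¹ = p * (x * p⁻¹ * x⁻¹) by group]
    exact mul_mem hp ((h.extc g).norm x hxt _ (inv_mem hp))
  have hcd : cd (p * x * p⁻¹ * x⁻¹) = P.code.act p u ^^^ u := by
    rw [h.mul _ (h.ext.norm p hpz x hxQ) _ (inv_mem hxQ), h.cd_inv hxQ, hcdx]; rfl
  rcases h.dcases P.pd_ok P.hg P.hne he1 he2 with e | e
  · left; rw [hcd, Nat.xor_eq_zero_iff] at e; exact e
  · right
    rw [hcd, P.hv] at e
    rw [← e, ← Nat.xor_assoc, Nat.xor_comm u, Nat.xor_assoc, Nat.xor_self, Nat.xor_zero]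

theorem exists_w (P : Pr z Q cd g) {p : G} (hp : p ∈ Qc Q g) (hpz : p * z = z * p) :
    ∃ w, InP P.code g p w := by
  have hrb := rb_ok
  simp only [Bool.and_eq_true, List.all_eq_true, Bool.not_eq_true', decide_eq_true_eq] at hrb
  have h1 : P.code.act p 1 = 1 := by
    rw [← P.hv, P.code.act_cd hpz P.hg, P.commute_t hp, mul_inv_cancel_right]
  obtain ⟨w, hw, hA, -⟩ := act_tE P.code hpz h1 fun u hu =>
    P.hprop hp hpz (hrb.1 u hu).1.1.1.1 (hrb.1 u hu).1.1.1.2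
  exact ⟨w, hp, hpz, hw, hA⟩

theorem inP_mul (P : Pr z Q cd g) {p p' : G} {w w' : ℕ} (hp : InP P.code g p w) (hp' : InP P.code g p' w') :
    InP P.code g (p * p') (w ^^^ w') :=
  ⟨mul_mem hp.1 hp'.1, comm_mul hp.2.1 hp'.2.1, (add_eq P.code hp.2.2.1 hp'.2.2.1 (a := 0) (by norm_num)).1,
    comm_mul hp.2.1 hp'.2.1, fun a ha => by
      rw [P.code.act_mul hp.2.1 hp'.2.1 ha, hp'.2.2.2.2 a ha, hp.2.2.2.2 _ (tE_lt (rs_lt hp'.2.2.1) ha)]
      exact (add_eq P.code hp.2.2.1 hp'.2.2.1 ha).2⟩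

theorem inP_one (P : Pr z Q cd g) : InP P.code g 1 0 :=
  ⟨one_mem _, by simp, by decide +kernel, by simp, fun a ha => by rw [P.code.act_one ha, tE_zero]⟩

/-- Two members with the same action differ by a common element. -/
theorem inP_div (P : Pr z Q cd g) {p p' : G} {w : ℕ} (hp : InP P.code g p w) (hp' : InP P.code g p' w) :
    p⁻¹ * p' ∈ Q ∧ p⁻¹ * p' ∈ Qc Q g := by
  refine ⟨(P.code.mem_iff (comm_mul (comm_inv hp.2.1) hp'.2.1)).2 fun a ha => ?_, mul_mem (inv_mem hp.1) hp'.1⟩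
  rw [P.code.act_mul (comm_inv hp.2.1) hp'.2.1 ha, hp'.2.2.2.2 a ha, ← hp.2.2.2.2 a ha,
    P.code.act_inv_left hp.2.1 ha]

theorem sq_eq (P : Pr z Q cd g) {p p' : G} {w : ℕ} (hp : InP P.code g p w) (hp' : InP P.code g p' w) :
    p' * p' = p * p := by
  obtain ⟨h1, h2⟩ := P.inP_div hp hp'
  have hc := P.d_comm h1 h2 hp.2.1 (P.commute_t hp.1)
  set d := p⁻¹ * p' with hd
  rw [show p' = p * d by rw [hd, mul_inv_cancel_left]]
  calc p * d * (p * d) = p * (d * p) * d := by group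
    _ = p * p * (d * d) := by rw [← hc]; group
    _ = p * p := by rw [P.d_sq h1 h2, mul_one]

/-- Conjugation by an element fixing both centres. -/
theorem inP_conj (P : Pr z Q cd g) {p c : G} {w : ℕ} (hp : InP P.code g p w) (hc : c * z = z * c)
    (hct : c * (g * z * g⁻¹) * c⁻¹ = g * z * g⁻¹) (hw : P.code.act c w ∈ rs) :
    InP P.code g (c * p * c⁻¹) (P.code.act c w) := by
  refine ⟨(P.code.extc g).norm c (mul_inv_eq_iff_eq_mul.1 hct) p hp.1,
    comm_mul (comm_mul hc hp.2.1) (comm_inv hc), hw, ?_⟩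
  refine Acts.conj hp.2.2.2 ⟨hc, fun _ _ => rfl⟩ fun a ha _ => ?_
  refine conj_tE P.code hc ?_ (rs_lt hp.2.2.1) ha
  rw [← P.hv, P.code.act_cd hc P.hg, hct]

theorem stab (P : Pr z Q cd g) {k : List ℕ} (hk : Wok K8 k = true) (h1 : wd K8 k 1 = 1) :
    ∃ c, P.code.Acts c (wd K8 k) ∧ c * (g * z * g⁻¹) * c⁻¹ = g * z * g⁻¹ :=
  P.code.stab_lift P.pd_ok (P.code.nonCentral_conj P.hg P.hne) hk (by rw [P.hv]; exact h1)

/-- Properties of a class of translations propagate. -/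
theorem propagate (P : Pr z Q cd g) (R : G → Prop)
    (hR : ∀ p c, c * z = z * c → c * (g * z * g⁻¹) * c⁻¹ = g * z * g⁻¹ → R p → R (c * p * c⁻¹))
    {p : G} {w : ℕ} (hp : InP P.code g p w) (hw : w ≠ 0) (hRp : R p) {w' : ℕ} (hw' : w' ∈ rs) (h0 : w' ≠ 0)
    (hq : K8.q w' = K8.q w) : ∃ p', InP P.code g p' w' ∧ R p' := by
  have htw := tw_ok
  simp only [Bool.and_eq_true, List.all_eq_true, Bool.or_eq_true, beq_iff_eq, List.contains_iff_mem,
    List.mem_map] at htw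
  obtain ⟨⟨v, k⟩, hk, rfl⟩ := (htw.1 w hp.2.2.1).resolve_left hw
  obtain ⟨⟨v', k'⟩, hk', rfl⟩ := (htw.1 w' hw').resolve_left h0
  obtain ⟨⟨⟨hkw, hk1⟩, hv⟩, hkv⟩ := htw.2 _ hk
  obtain ⟨⟨⟨hkw', hk1'⟩, hv'⟩, hkv'⟩ := htw.2 _ hk'
  obtain ⟨c, hc, hct⟩ := P.stab hkw hk1
  obtain ⟨c', hc', hct'⟩ := P.stab hkw' hk1'
  have hvlt := rs_lt hv
  have hvlt' := rs_lt hv'
  have e : P.code.act (c'⁻¹ * c) v = v' := by
    rw [P.code.act_mul (comm_inv hc'.1) hc.1 hvlt, hc.2 v hvlt, hkv]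
    dsimp only at hq ⊢
    rw [← hq, ← hkv', ← hc'.2 v' hvlt', P.code.act_inv_left hc'.1 hvlt']
  have hcc : (c'⁻¹ * c) * (g * z * g⁻¹) * (c'⁻¹ * c)⁻¹ = g * z * g⁻¹ := by
    calc (c'⁻¹ * c) * (g * z * g⁻¹) * (c'⁻¹ * c)⁻¹ = c'⁻¹ * (c * (g * z * g⁻¹) * c⁻¹) * c' := by group
      _ = c'⁻¹ * (c' * (g * z * g⁻¹) * c'⁻¹) * c' := by rw [hct, hct']
      _ = _ := by group
  have hzc := comm_mul (comm_inv hc'.1) hc.1
  have := P.inP_conj hp hzc hcc (by rw [e]; exact hv')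
  rw [e] at this
  exact ⟨_, this, hR p _ hzc hcc hRp⟩

theorem sq_conj {p c : G} (hp : p * p = 1) : c * p * c⁻¹ * (c * p * c⁻¹) = 1 := by
  rw [conj_mul, hp, mul_one, mul_inv_cancel]

theorem nonsing_sq (P : Pr z Q cd g) {p : G} {w : ℕ} (hp : InP P.code g p w) (hq : K8.q w = true) :
    p * p = g * z * g⁻¹ := by
  refine ((P.code.extc g).sq p hp.1).resolve_left fun hp1 => ?_
  have hw0 : w ≠ 0 := fun e => by rw [e] at hq; exact absurd hq (by decide +kernel)
  have hall : ∀ p' w', InP P.code g p' w' → K8.q w' = true → p' * p' = 1 := by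
    intro p' w' hp' hq'
    obtain ⟨p'', hp'', hs⟩ := P.propagate (fun p => p * p = 1) (fun p c _ _ e => sq_conj e) hp hw0 hp1 hp'.2.2.1
      (fun e => by rw [e] at hq'; exact absurd hq' (by decide +kernel)) (hq'.trans hq.symm)
    rw [P.sq_eq hp'' hp', hs]
  have hall' : ∀ w' ∈ rs, K8.q w' = true → ∃ p', InP P.code g p' w' := fun w' hw' hq' => by
    obtain ⟨p'', hp'', -⟩ := P.propagate (fun _ => True) (fun _ _ _ _ _ => trivial) hp hw0 trivial hw'
      (fun e => by rw [e] at hq'; exact absurd hq' (by decide +kernel)) (hq'.trans hq.symm)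
    exact ⟨p'', hp''⟩
  have hsp := split_ok
  simp only [Bool.and_eq_true, List.all_eq_true, Bool.or_eq_true, beq_iff_eq, List.contains_iff_mem] at hsp
  obtain ⟨⟨-, hns⟩, hspan⟩ := hsp
  choose! r hr using fun a (ha : a ∈ nsb) => hall' a (hns a ha).1.1 (hns a ha).1.2
  set S : Set G := (r '' {a | a ∈ nsb}) ∪ {z, g * z * g⁻¹}
  have hSmem : ∀ x ∈ S, x * z = z * x ∧ x * (g * z * g⁻¹) = g * z * g⁻¹ * x := by
    rintro x (⟨a, ha, rfl⟩ | rfl | rfl)
    · exact ⟨(hr a ha).2.1, P.commute_t (hr a ha).1⟩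
    · exact ⟨rfl, P.t_z.symm⟩
    · exact ⟨P.t_z, rfl⟩
  have hcS : ∀ x ∈ S, ∀ y ∈ S, x * y = y * x := by
    intro x hx y hy
    obtain ⟨hxz, hxt⟩ := hSmem x hx
    obtain ⟨hyz, hyt⟩ := hSmem y hy
    rcases hy with ⟨b, hb, rfl⟩ | rfl | rfl
    · rcases hx with ⟨a, ha, rfl⟩ | rfl | rfl
      · by_cases hab : a = b
        · rw [hab]
        · have h3 := hall _ _ (P.inP_mul (hr a ha) (hr b hb)) (((hns a ha).2 b hb).resolve_left hab)
          have ha2 := hall _ _ (hr a ha) (hns a ha).1.2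
          have hb2 := hall _ _ (hr b hb) (hns b hb).1.2
          calc r a * r b = (r a * r b)⁻¹ := eq_inv_of_mul_eq_one_left h3
            _ = r b * r a := by
              rw [mul_inv_rev, inv_eq_of_mul_eq_one_right ha2, inv_eq_of_mul_eq_one_right hb2]
      · exact hyz.symm
      · exact hyt.symm
    · exact hxz
    · exact hxt
  have hcl : ∀ a ∈ Subgroup.closure S, ∀ b ∈ Subgroup.closure S, a * b = b * a := by
    have h1 : Subgroup.closure S ≤ Subgroup.centralizer S := (Subgroup.closure_le _).2 fun x hx =>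
      Subgroup.mem_centralizer_iff.2 fun y hy => hcS y hy x hx
    have h2 : Subgroup.closure S ≤ Subgroup.centralizer (Subgroup.closure S : Set G) := by
      refine (Subgroup.closure_le _).2 fun x hx => Subgroup.mem_centralizer_iff.2 fun a ha => ?_
      exact (Subgroup.mem_centralizer_iff.1 (h1 ha) x hx).symm
    exact fun a ha b hb => Subgroup.mem_centralizer_iff.1 (h2 hb) a ha
  have hgen : ∀ p', p' ∈ Qc Q g → p' * z = z * p' → p' ∈ Subgroup.closure S := by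
    intro p' hp' hpz'
    obtain ⟨w', hp'w⟩ := P.exists_w hp' hpz'
    obtain ⟨r', hr', hrS⟩ : ∃ r', InP P.code g r' w' ∧ r' ∈ Subgroup.closure S :=
      sp_induct (P := fun w' => ∃ r', InP P.code g r' w' ∧ r' ∈ Subgroup.closure S) ⟨1, P.inP_one, one_mem _⟩
        (fun b hb => ⟨r b, hr b hb, Subgroup.subset_closure (Or.inl ⟨b, hb, rfl⟩)⟩)
        (fun a b ⟨x, hx, hxS⟩ ⟨y, hy, hyS⟩ => ⟨x * y, P.inP_mul hx hy, mul_mem hxS hyS⟩) w' (hspan w' hp'w.2.2.1)
    obtain ⟨h1, h2⟩ := P.inP_div hr' hp'w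
    have := mul_mem hrS (Subgroup.closure_mono Set.subset_union_right (P.code.both_closure P.pd_ok P.hg P.hne h1 h2))
    rwa [mul_inv_cancel_left] at this
  obtain ⟨y₁, y₂, ⟨a1, a2, -, -⟩, ⟨b1, b2, -, -⟩, hnc⟩ := P.code.noncomm_pair P.big P.pd_ok P.hg P.hne
  exact hnc (hcl _ (hgen _ a1 a2) _ (hgen _ b1 b2))

theorem exists_sing (P : Pr z Q cd g) : ∃ p, InP P.code g p 2 ∧ p * p = 1 := by
  obtain ⟨y, hy, hyz, hy2, hyQ⟩ := P.code.exists_outside P.big P.pd_ok P.hg P.hne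
  obtain ⟨w, hw⟩ := P.exists_w hy hyz
  have hw0 : w ≠ 0 := fun e => hyQ ((P.code.mem_iff hyz).2 fun a ha => by
    rw [hw.2.2.2.2 a ha, e, tE_zero])
  have hq : K8.q w = false := by
    by_contra hc
    rw [Bool.not_eq_false] at hc
    rw [P.nonsing_sq hw hc] at hy2
    exact P.code.conj_ne_one g hy2
  exact P.propagate (fun p => p * p = 1) (fun p c _ _ e => sq_conj e) hw hw0 hy2 (by decide) (by norm_num)
    ((show K8.q 2 = false by decide +kernel).trans hq.symm)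

theorem exists_inP (P : Pr z Q cd g) {w : ℕ} (hw : w ∈ rs) : ∃ p, InP P.code g p w := by
  obtain ⟨p2, hp2, -⟩ := P.exists_sing
  have hsing : ∀ a ∈ rs, a ≠ 0 → K8.q a = false → ∃ p, InP P.code g p a := fun a ha h0 hq => by
    obtain ⟨p, hp, -⟩ := P.propagate (fun _ => True) (fun _ _ _ _ _ => trivial) hp2 (by norm_num) trivial ha h0
      (hq.trans (show K8.q 2 = false by decide +kernel).symm)
    exact ⟨p, hp⟩
  have hsp := split_ok
  simp only [Bool.and_eq_true, List.all_eq_true, List.any_eq_true, Bool.not_eq_true', List.contains_iff_mem,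
    bne_iff_ne] at hsp
  obtain ⟨a, ha, ⟨⟨ha0, haq⟩, hwa⟩, hwq⟩ := (hsp.1.1 w hw).1
  obtain ⟨pa, hpa⟩ := hsing a ha ha0 haq
  by_cases h0 : w ^^^ a = 0
  · exact ⟨pa, by rwa [Nat.xor_eq_zero_iff.1 h0]⟩
  · obtain ⟨pb, hpb⟩ := hsing _ hwa h0 hwq
    refine ⟨pa * pb, ?_⟩
    have := P.inP_mul hpa hpb
    rwa [← Nat.xor_assoc, Nat.xor_comm a, Nat.xor_assoc, Nat.xor_self, Nat.xor_zero] at this

theorem sing_sq (P : Pr z Q cd g) {p : G} {w : ℕ} (hp : InP P.code g p w) (hq : K8.q w = false) : p * p = 1 := by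
  by_cases h0 : w = 0
  · subst h0
    rw [P.sq_eq P.inP_one hp, mul_one]
  obtain ⟨p2, hp2, h2⟩ := P.exists_sing
  obtain ⟨p', hp', h2'⟩ := P.propagate (fun p => p * p = 1) (fun p c _ _ e => sq_conj e) hp2 (by norm_num) h2
    hp.2.2.1 h0 (hq.trans (show K8.q 2 = false by decide +kernel).symm)
  rw [P.sq_eq hp' hp, h2']

/-- The commutator with a member of `Q` centralizing `t`. -/
def cm (p x : G) : G := x⁻¹ * (p * x * p⁻¹)

theorem cm_mem (P : Pr z Q cd g) {p x : G} (hp : p ∈ Qc Q g) (hpz : p * z = z * p) (hx : x ∈ Q)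
    (hb : bq K8 1 (cd x) = false) : cm p x ∈ Q ∧ cm p x ∈ Qc Q g := by
  refine ⟨mul_mem (inv_mem hx) (P.code.ext.norm p hpz x hx), ?_⟩
  have hxt : x⁻¹ * (g * z * g⁻¹) = g * z * g⁻¹ * x⁻¹ :=
    (Commute.inv_left (show Commute x _ from P.x_t hx hb)).eq
  rw [cm, show x⁻¹ * (p * x * p⁻¹) = (x⁻¹ * p * x⁻¹⁻¹) * p⁻¹ by group]
  exact mul_mem ((P.code.extc g).norm x⁻¹ hxt p hp) (inv_mem hp)

theorem cm_mul_left (P : Pr z Q cd g) {p p' x : G} (hp : p ∈ Qc Q g) (hpz : p * z = z * p) (hp' : p' ∈ Qc Q g)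
    (hpz' : p' * z = z * p') (hx : x ∈ Q) (hb : bq K8 1 (cd x) = false) : cm (p * p') x = cm p x * cm p' x := by
  obtain ⟨h1, h2⟩ := P.cm_mem hp' hpz' hx hb
  have hc := P.d_comm h1 h2 hpz (P.commute_t hp)
  rw [cm] at hc ⊢
  calc x⁻¹ * (p * p' * x * (p * p')⁻¹) = x⁻¹ * (p * x * (x⁻¹ * (p' * x * p'⁻¹)) * p⁻¹) := by group
    _ = x⁻¹ * (p * x * ((x⁻¹ * (p' * x * p'⁻¹)) * p * p⁻¹) * p⁻¹) := by rw [mul_inv_cancel_right]
    _ = x⁻¹ * (p * x * (p⁻¹ * (p * (x⁻¹ * (p' * x * p'⁻¹)))) * p⁻¹) := by rw [inv_mul_cancel_left, mul_inv_cancel_right]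
    _ = x⁻¹ * (p * x * (p⁻¹ * ((x⁻¹ * (p' * x * p'⁻¹)) * p)) * p⁻¹) := by rw [hc]
    _ = _ := by rw [cm, cm]; group

theorem cm_mul_right (P : Pr z Q cd g) {p x y : G} (hp : p ∈ Qc Q g) (hpz : p * z = z * p) (hx : x ∈ Q)
    (hbx : bq K8 1 (cd x) = false) (hy : y ∈ Q) (hby : bq K8 1 (cd y) = false) :
    cm p (x * y) = cm p x * cm p y := by
  obtain ⟨h1, h2⟩ := P.cm_mem hp hpz hx hbx
  have hc := P.d_comm h1 h2 (P.code.ext.central y hy) (P.x_t hy hby)
  rw [cm] at hc ⊢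
  calc (x * y)⁻¹ * (p * (x * y) * p⁻¹) = y⁻¹ * ((x⁻¹ * (p * x * p⁻¹)) * y) * (y⁻¹ * (p * y * p⁻¹)) := by group
    _ = y⁻¹ * (y * (x⁻¹ * (p * x * p⁻¹))) * (y⁻¹ * (p * y * p⁻¹)) := by rw [hc]
    _ = _ := by rw [cm, cm]; group

theorem cm_d (P : Pr z Q cd g) {d x : G} (hd : d ∈ Q) (hd' : d ∈ Qc Q g) (hx : x ∈ Q)
    (hb : bq K8 1 (cd x) = false) : cm d x = 1 := by
  have hc := P.d_comm hd hd' (P.code.ext.central x hx) (P.x_t hx hb)
  rw [cm, ← hc, mul_inv_cancel_right, inv_mul_cancel]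

/-- The first translation centralizes its fixed vectors. -/
theorem fix_two (P : Pr z Q cd g) {p x : G} (hp : InP P.code g p 2) (hx : x ∈ Q)
    (hb : bq K8 1 (cd x) = false) (hb2 : bq K8 2 (cd x) = false) : cm p x = 1 := by
  have h := P.code
  have hfx := fix2_ok
  have hga := gam_ok
  have hgs := gsp_ok
  simp only [Bool.and_eq_true, List.all_eq_true, List.any_eq_true, beq_iff_eq, List.mem_range,
    List.contains_iff_mem] at hfx hga hgs
  have hmem : ∀ {u : ℕ}, u ∈ fixL K8 (tE 2) → u < 256 ∧ bq K8 1 u = false ∧ bq K8 2 u = false := by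
    intro u hu
    have hlt : u < 256 := (mem_fixL.1 hu).1
    have e := hfx u hlt
    rw [List.contains_iff_mem.2 hu] at e
    have e' := e.symm
    simp only [Bool.and_eq_true, Bool.not_eq_true'] at e'
    exact ⟨hlt, e'⟩
  have hA := hp.2.2.2
  have hinv : ∀ k ∈ gam, ∀ u ∈ fixL K8 (tE 2), P.code.afun p (wd K8 k u) = P.code.afun p u := by
    intro k hk u hu
    obtain ⟨hu256, hu1, hu2⟩ := hmem hu
    obtain ⟨⟨hkw, hk1⟩, hk2⟩ := hga.1 k hk
    obtain ⟨c, hc, hct⟩ := P.stab hkw hk1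
    have hc2 : P.code.act c 2 = 2 := by rw [hc.2 2 (by rw [K8_n]; norm_num), hk2]
    have hp' := P.inP_conj hp hc.1 hct (by rw [hc2]; exact hp.2.2.1)
    rw [hc2] at hp'
    obtain ⟨h1, h2⟩ := P.inP_div hp hp'
    set d := p⁻¹ * (c * p * c⁻¹) with hd
    set y := c * P.code.rep u * c⁻¹
    have hyQ : y ∈ Q := h.ext.norm c hc.1 _ (P.code.rep_mem u)
    have hcy : cd y = wd K8 k u := by
      rw [← hc.2 u hu256, Code.act]
    have hb1 : bq K8 1 (cd y) = false := by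
      rw [hcy, ← hk1, ← hc.2 u hu256, ← hc.2 1 (by rw [K8_n]; norm_num),
        h.bq_act hc.1 (by rw [K8_n]; norm_num) hu256]
      exact hu1
    have hfy : P.code.act p (cd y) = cd y := by
      rw [hA.2 _ (h.lt y hyQ), hcy]
      have hkt := wd_tE h hkw hk1 (w := 2) (by norm_num) hu256
      rw [hk2, (mem_fixL.1 hu).2] at hkt
      exact hkt.symm
    have e1 := P.code.afun_spec hp.2.1 (P.code.rep_mem u)
      (by rw [h.cd_rep (show u < 2 ^ K8.n from hu256), hA.2 u hu256, (mem_fixL.1 hu).2])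
    rw [h.cd_rep (show u < 2 ^ K8.n from hu256)] at e1
    have e2 := P.code.afun_spec hp.2.1 hyQ hfy
    rw [hcy] at e2
    have hdy := P.cm_d h1 h2 hyQ hb1
    rw [cm, inv_mul_eq_one] at hdy
    have e3 : p * y * p⁻¹ = y * z ^ P.code.afun p u := by
      calc p * y * p⁻¹ = p * (d * y * d⁻¹) * p⁻¹ := by rw [← hdy]
        _ = c * (p * P.code.rep u * p⁻¹) * c⁻¹ := by simp only [hd, y]; group
        _ = c * (P.code.rep u * z ^ P.code.afun p u) * c⁻¹ := by rw [e1]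
        _ = y * (c * z ^ P.code.afun p u * c⁻¹) := by simp only [y]; group
        _ = _ := by rw [conj_zpow' hc.1]
    exact h.pow_inj (h.afun_le _ _) (h.afun_le _ _) (mul_left_cancel (e2.symm.trans e3))
  have hzero : ∀ v ∈ sp gsp, v ∈ fixL K8 (tE 2) ∧ P.code.afun p v = 0 := by
    refine sp_induct (h.afun_zero hA) ?_ fun a b ⟨ha, ha'⟩ ⟨hb', hb''⟩ => ?_
    · intro v hv
      obtain ⟨k, hk, u, hu, e⟩ := hgs v hv
      have hku : wd K8 k u ∈ fixL K8 (tE 2) := by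
        obtain ⟨⟨hkw, hk1⟩, hk2⟩ := hga.1 k hk
        refine mem_fixL.2 ⟨wok_lt hkw (mem_fixL.1 hu).1, ?_⟩
        have := wd_tE h hkw hk1 (w := 2) (by norm_num) (show u < 256 from (mem_fixL.1 hu).1)
        rw [hk2, (mem_fixL.1 hu).2] at this
        exact this.symm
      obtain ⟨h1, h2⟩ := h.afun_add hA hku hu
      rw [e] at h1 h2
      exact ⟨h1, by rw [h2, hinv k hk u hu, Nat.xor_self]⟩
    · obtain ⟨h1, h2⟩ := h.afun_add hA ha hb'
      exact ⟨h1, by rw [h2, ha', hb'', Nat.xor_self]⟩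
  have hu : cd x ∈ fixL K8 (tE 2) := List.contains_iff_mem.1 (by
    rw [hfx _ (h.lt x hx), hb, hb2]; rfl)
  have e := P.code.afun_spec hp.2.1 hx (by rw [hA.2 _ (h.lt x hx), (mem_fixL.1 hu).2])
  rw [(hzero _ (hga.2 _ hu)).2, pow_zero, mul_one] at e
  rw [cm, e, inv_mul_cancel]

theorem fix_sing (P : Pr z Q cd g) {p x : G} {w : ℕ} (hp : InP P.code g p w) (hq : K8.q w = false) (hx : x ∈ Q)
    (hb : bq K8 1 (cd x) = false) (hbw : bq K8 w (cd x) = false) : cm p x = 1 := by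
  by_cases h0 : w = 0
  · obtain ⟨h1, h2⟩ := P.inP_div P.inP_one (h0 ▸ hp)
    rw [inv_one, one_mul] at h1 h2
    exact P.cm_d h1 h2 hx hb
  have htw := tw_ok
  simp only [Bool.and_eq_true, List.all_eq_true, Bool.or_eq_true, beq_iff_eq, List.contains_iff_mem,
    List.mem_map] at htw
  obtain ⟨⟨v, k⟩, hk, rfl⟩ := (htw.1 w hp.2.2.1).resolve_left h0
  obtain ⟨⟨⟨hkw, hk1⟩, hv⟩, hkv⟩ := htw.2 _ hk
  dsimp only at hq hbw hp hkv
  rw [hq] at hkv
  obtain ⟨c, hc, hct⟩ := P.stab hkw hk1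
  have hcv : P.code.act c v = 2 := by rw [hc.2 v (rs_lt hv), hkv]; rfl
  have hp' := P.inP_conj hp hc.1 hct (by rw [hcv]; decide)
  rw [hcv] at hp'
  have hu := P.code.lt x hx
  have hb' : bq K8 1 (cd (c * x * c⁻¹)) = false := by
    rw [← P.code.act_cd hc.1 hx, ← hk1, ← hc.2 1 (by rw [K8_n]; norm_num),
      P.code.bq_act hc.1 (by rw [K8_n]; norm_num) hu, hb]
  have hb2 : bq K8 2 (cd (c * x * c⁻¹)) = false := by
    rw [← P.code.act_cd hc.1 hx, ← hcv, P.code.bq_act hc.1 (rs_lt hv) hu, hbw]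
  have := P.fix_two hp' (P.code.ext.norm c hc.1 x hx) hb' hb2
  rw [cm] at this ⊢
  calc x⁻¹ * (p * x * p⁻¹) = c⁻¹ * ((c * x * c⁻¹)⁻¹ * (c * p * c⁻¹ * (c * x * c⁻¹) * (c * p * c⁻¹)⁻¹)) * c := by
        group
    _ = 1 := by rw [this]; group

/-- A member of `Q` centralizing `t` that moves no code of `Qc Q g` is a common element. -/
theorem hyper (P : Pr z Q cd g) {x : G} (hx : x ∈ Q) (hb : bq K8 1 (cd x) = false)
    (hall : ∀ p, p ∈ Qc Q g → p * z = z * p → cm p x = 1 ∨ cm p x = g * z * g⁻¹) : x ∈ Qc Q g := by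
  have h := P.code
  set x' := g⁻¹ * x * g with hx'
  have hx'z : x' * z = z * x' := by
    calc x' * z = g⁻¹ * (x * (g * z * g⁻¹)) * g := by simp only [hx']; group
      _ = g⁻¹ * ((g * z * g⁻¹) * x) * g := by rw [P.x_t hx hb]
      _ = _ := by simp only [hx']; group
  set t' := g⁻¹ * z * g⁻¹⁻¹ with ht'
  have ht'Q : t' ∈ Q := by rw [ht', inv_inv]; exact mem_Qc.1 (h.symm P.big P.hg)
  have hne' : t' ≠ z := fun e => P.hne (by
    rw [show g * z * g⁻¹ = g * t' * g⁻¹ by rw [e], ht']; group)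
  obtain ⟨c, hc, hcv⟩ := h.to_v0 P.pd_ok (h.nonCentral_conj ht'Q hne')
  have hcv : cd (c * t' * c⁻¹) = 1 := hcv
  set x'' := c * x' * c⁻¹
  have hx''z : x'' * z = z * x'' := comm_mul (comm_mul hc hx'z) (comm_inv hc)
  have hfix : ∀ u < 256, bq K8 1 u = false → P.code.act x'' u = u := by
    intro u hu hbu
    set r := c⁻¹ * P.code.rep u * c
    have hr : r ∈ Q := by simpa using h.ext.norm c⁻¹ (comm_inv hc) _ (P.code.rep_mem u)
    have hrt : r * t' = t' * r := by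
      have e := ((h.commute_iff (h.ext.norm c hc t' ht'Q) (P.code.rep_mem u)).2
        (by rw [hcv, h.cd_rep (show u < 2 ^ K8.n from hu), hbu])).symm
      calc r * t' = c⁻¹ * (P.code.rep u * (c * t' * c⁻¹)) * c := by simp only [r]; group
        _ = c⁻¹ * ((c * t' * c⁻¹) * P.code.rep u) * c := by rw [e]
        _ = _ := by simp only [r]; group
    have hp : g * r * g⁻¹ ∈ Qc Q g := mem_Qc.2 (by simpa [mul_assoc] using hr)
    have hpz : g * r * g⁻¹ * z = z * (g * r * g⁻¹) := by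
      calc g * r * g⁻¹ * z = g * (r * t') * g⁻¹ := by simp only [ht']; group
        _ = g * (t' * r) * g⁻¹ := by rw [hrt]
        _ = _ := by simp only [ht']; group
    have he : x'' * P.code.rep u * x''⁻¹ = c * (x' * r * x'⁻¹) * c⁻¹ := by simp only [x'', r]; group
    rw [Code.act, he]
    have hxr : x' * r * x'⁻¹ = r ∨ x' * r * x'⁻¹ = z * r := by
      have hxp : x * (g * r * g⁻¹) * x⁻¹ = x * (cm (g * r * g⁻¹) x)⁻¹ * x⁻¹ * (g * r * g⁻¹) := by
        rw [cm]; group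
      have hxg : x' * r * x'⁻¹ = g⁻¹ * (x * (g * r * g⁻¹) * x⁻¹) * g := by simp only [hx']; group
      rcases hall _ hp hpz with e | e
      · left; rw [hxg, hxp, e]; group
      · right
        rw [hxg, hxp, e, inv_eq_of_mul_eq_one_right P.t_sq, P.x_t hx hb]
        group
    rcases hxr with e | e <;> rw [e]
    · rw [show c * r * c⁻¹ = P.code.rep u by simp only [r]; group, h.cd_rep (show u < 2 ^ K8.n from hu)]
    · rw [show c * (z * r) * c⁻¹ = c * z * c⁻¹ * P.code.rep u by simp only [r]; group, hc, mul_inv_cancel_right,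
        h.mul _ h.ext.mem _ (P.code.rep_mem u), h.cd_z, Nat.zero_xor, h.cd_rep (show u < 2 ^ K8.n from hu)]
  have hrb := rb_ok
  simp only [Bool.and_eq_true, List.all_eq_true, Bool.not_eq_true', decide_eq_true_eq] at hrb
  obtain ⟨w, -, hA, hw⟩ := act_tE P.code hx''z (hfix 1 (by norm_num) (by decide +kernel))
    fun u hu => Or.inl (hfix u (hrb.1 u hu).1.1.1.1 (hrb.1 u hu).1.1.1.2)
  have hw0 := hw fun u hu => hfix u (hrb.1 u hu).1.1.1.1 (hrb.1 u hu).1.1.1.2
  have hx''Q : x'' ∈ Q := (h.mem_iff hx''z).2 fun a ha => by rw [hA.2 a ha, hw0, tE_zero]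
  refine mem_Qc.2 ?_
  have := h.ext.norm c⁻¹ (comm_inv hc) _ hx''Q
  rwa [inv_inv, show c⁻¹ * x'' * c = g⁻¹ * x * g by simp only [x'', hx']; group] at this

/-- The commutators between the two extraspecial groups. -/
theorem cm_eq (P : Pr z Q cd g) {p x : G} {w : ℕ} (hp : InP P.code g p w) (hx : x ∈ Q)
    (hb : bq K8 1 (cd x) = false) : cm p x = if bq K8 w (cd x) then g * z * g⁻¹ * z else 1 := by
  have h := P.code
  have hrb := rb_ok
  simp only [Bool.and_eq_true, List.all_eq_true, Bool.not_eq_true', decide_eq_true_eq, List.contains_iff_mem] at hrb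
  set t := g * z * g⁻¹ with htdef
  have ht2 : t * t = 1 := P.t_sq
  have htz : (t * z) * (t * z) = 1 := by
    rw [mul_assoc, ← mul_assoc z, ← P.t_z, mul_assoc t z z, h.ext.zz, mul_one, ht2]
  have h32 : (32 : ℕ) < 2 ^ K8.n := by rw [K8_n]; norm_num
  set x0 := P.code.rep 32
  have hx0 : x0 ∈ Q := P.code.rep_mem 32
  have hcx0 : cd x0 = 32 := h.cd_rep h32
  have hb0 : bq K8 1 (cd x0) = false := by rw [hcx0]; decide +kernel
  obtain ⟨p2, hp2, -⟩ := P.exists_sing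
  have hd0 : cm p2 x0 = t * z := by
    obtain ⟨h1, h2⟩ := P.cm_mem hp2.1 hp2.2.1 hx0 hb0
    have hcd : cd (cm p2 x0) = 1 := by
      rw [cm, h.mul _ (inv_mem hx0) _ (h.ext.norm p2 hp2.2.1 x0 hx0), h.cd_inv hx0, ← h.act_cd hp2.2.1 hx0,
        hp2.2.2.2.2 _ (h.lt x0 hx0), hcx0]
      decide +kernel
    rcases P.dmem h1 h2 with (e | e) | e | e
    · rw [e, h.cd_one] at hcd; exact absurd hcd (by norm_num)
    · rw [e, h.cd_z] at hcd; exact absurd hcd (by norm_num)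
    · exfalso
      have hx0' : x0 ∈ Qc Q g := P.hyper hx0 hb0 fun p hp hpz => by
        obtain ⟨w, hw⟩ := P.exists_w hp hpz
        obtain ⟨r, hr, hrc⟩ : ∃ r, InP P.code g r w ∧ (cm r x0 = 1 ∨ cm r x0 = t) := by
          refine sp_induct (P := fun w => ∃ r, InP P.code g r w ∧ (cm r x0 = 1 ∨ cm r x0 = t))
            ⟨1, P.inP_one, Or.inl (P.cm_d (one_mem _) (one_mem _) hx0 hb0)⟩ ?_ ?_ w (hrb.2 w hw.2.2.1).2
          · intro b hbm
            obtain ⟨⟨⟨⟨-, -⟩, -⟩, hqb⟩, hbr⟩ := hrb.1 b hbm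
            by_cases hb2 : b = 2
            · exact ⟨p2, hb2 ▸ hp2, Or.inr e⟩
            · obtain ⟨r, hr⟩ := P.exists_inP hbr
              refine ⟨r, hr, Or.inl (P.fix_sing hr hqb hx0 hb0 ?_)⟩
              rw [hcx0]
              exact (show ∀ b ∈ rb, b ≠ 2 → bq K8 b 32 = false by decide +kernel) b hbm hb2
          · rintro a b ⟨u, hu, hu'⟩ ⟨v, hv, hv'⟩
            refine ⟨u * v, P.inP_mul hu hv, ?_⟩
            rw [P.cm_mul_left hu.1 hu.2.1 hv.1 hv.2.1 hx0 hb0]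
            rcases hu' with e1 | e1 <;> rcases hv' with e2 | e2 <;> simp [e1, e2, ht2]
        obtain ⟨h1, h2⟩ := P.inP_div hr hw
        have := P.cm_mul_left hr.1 hr.2.1 h2 (h.ext.central _ h1) hx0 hb0
        rw [mul_inv_cancel_left, P.cm_d h1 h2 hx0 hb0, mul_one] at this
        rwa [this]
      rcases P.code.dcases P.pd_ok P.hg P.hne hx0 hx0' with e' | e' <;> rw [hcx0] at e'
      · exact absurd e' (by norm_num)
      · rw [P.hv] at e'; exact absurd e' (by norm_num)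
    · exact e
  have hu2 : ∀ {p x : G}, InP P.code g p 2 → x ∈ Q → bq K8 1 (cd x) = false →
      cm p x = if bq K8 2 (cd x) then t * z else 1 := by
    intro p x hp hx hb
    cases hbb : bq K8 2 (cd x)
    · simpa using P.fix_two hp hx hb hbb
    · rw [if_pos rfl]
      have hy : x0⁻¹ * x ∈ Q := mul_mem (inv_mem hx0) hx
      have hcy : cd (x0⁻¹ * x) = 32 ^^^ cd x := by rw [h.mul _ (inv_mem hx0) _ hx, h.cd_inv hx0, hcx0]
      have hby : bq K8 1 (cd (x0⁻¹ * x)) = false := by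
        rw [hcy, bq_addr h (by norm_num) (h.lt x hx) (by norm_num), hb]; decide +kernel
      have hby2 : bq K8 2 (cd (x0⁻¹ * x)) = false := by
        rw [hcy, bq_addr h (by norm_num) (h.lt x hx) (by norm_num), hbb]; decide +kernel
      obtain ⟨h1, h2⟩ := P.inP_div hp2 hp
      have e1 := P.cm_mul_right hp.1 hp.2.1 hx0 hb0 hy hby
      rw [mul_inv_cancel_left, P.fix_two hp hy hby hby2, mul_one] at e1
      have e2 := P.cm_mul_left hp2.1 hp2.2.1 h2 (h.ext.central _ h1) hx0 hb0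
      rw [mul_inv_cancel_left, P.cm_d h1 h2 hx0 hb0, mul_one] at e2
      rw [e1, e2, hd0]
  have hsing : ∀ {p x : G} {w : ℕ}, InP P.code g p w → K8.q w = false → x ∈ Q → bq K8 1 (cd x) = false →
      cm p x = if bq K8 w (cd x) then t * z else 1 := by
    intro p x w hp hq hx hb
    by_cases h0 : w = 0
    · obtain ⟨h1, h2⟩ := P.inP_div P.inP_one (h0 ▸ hp)
      rw [inv_one, one_mul] at h1 h2
      rw [P.cm_d h1 h2 hx hb, if_neg]
      rw [h0]
      simp [bq, show K8.q 0 = false by decide +kernel]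
    have htw := tw_ok
    simp only [Bool.and_eq_true, List.all_eq_true, Bool.or_eq_true, beq_iff_eq, List.contains_iff_mem,
      List.mem_map] at htw
    obtain ⟨⟨v, k⟩, hk, rfl⟩ := (htw.1 w hp.2.2.1).resolve_left h0
    obtain ⟨⟨⟨hkw, hk1⟩, hv⟩, hkv⟩ := htw.2 _ hk
    dsimp only at hq hp hkv ⊢
    rw [hq] at hkv
    obtain ⟨c, hc, hct⟩ := P.stab hkw hk1
    have hcv : P.code.act c v = 2 := by rw [hc.2 v (rs_lt hv), hkv]; rfl
    have hp' := P.inP_conj hp hc.1 hct (by rw [hcv]; decide)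
    rw [hcv] at hp'
    have hu := P.code.lt x hx
    have hb' : bq K8 1 (cd (c * x * c⁻¹)) = false := by
      rw [← P.code.act_cd hc.1 hx, ← hk1, ← hc.2 1 (by rw [K8_n]; norm_num),
        P.code.bq_act hc.1 (by rw [K8_n]; norm_num) hu, hb]
    have e := hu2 hp' (P.code.ext.norm c hc.1 x hx) hb'
    rw [← P.code.act_cd hc.1 hx, ← hcv, P.code.bq_act hc.1 (rs_lt hv) hu] at e
    rw [cm] at e ⊢
    calc x⁻¹ * (p * x * p⁻¹) = c⁻¹ * ((c * x * c⁻¹)⁻¹ * (c * p * c⁻¹ * (c * x * c⁻¹) * (c * p * c⁻¹)⁻¹)) * c := by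
          group
      _ = _ := by
        rw [e]
        split_ifs
        · rw [show c⁻¹ * (t * z) * c = c⁻¹ * (t * (z * c)) by group, ← hc.1, show c⁻¹ * (t * (c * z)) = c⁻¹ * (t * c) * z by group]
          rw [show t * c = c * t from (mul_inv_eq_iff_eq_mul.1 hct).symm, inv_mul_cancel_left]
        · group
  have hsp := split_ok
  simp only [Bool.and_eq_true, List.all_eq_true, List.any_eq_true, Bool.not_eq_true', List.contains_iff_mem,
    bne_iff_ne] at hsp
  obtain ⟨a, ha, ⟨⟨-, haq⟩, hwa⟩, hwq⟩ := (hsp.1.1 w hp.2.2.1).1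
  obtain ⟨pa, hpa⟩ := P.exists_inP ha
  obtain ⟨pb, hpb⟩ := P.exists_inP hwa
  have hab := P.inP_mul hpa hpb
  have hw : a ^^^ (w ^^^ a) = w := by
    rw [Nat.xor_comm w, ← Nat.xor_assoc, Nat.xor_self, Nat.zero_xor]
  rw [hw] at hab
  obtain ⟨h1, h2⟩ := P.inP_div hab hp
  have e1 := P.cm_mul_left hab.1 hab.2.1 h2 (h.ext.central _ h1) hx hb
  rw [mul_inv_cancel_left, P.cm_d h1 h2 hx hb, mul_one] at e1
  rw [e1, P.cm_mul_left hpa.1 hpa.2.1 hpb.1 hpb.2.1 hx hb, hsing hpa haq hx hb, hsing hpb hwq hx hb]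
  have hbx : bq K8 w (cd x) = xor (bq K8 a (cd x)) (bq K8 (w ^^^ a) (cd x)) := by
    conv_lhs => rw [← hw]
    exact bq_add h (rs_lt ha) (rs_lt hwa) (h.lt x hx)
  rw [hbx]
  cases bq K8 a (cd x) <;> cases bq K8 (w ^^^ a) (cd x) <;> simp [htz]

end Pr

end Cfsg.Agent.Invol.Co1
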