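import Cfsg.Agent.Lib.Invol.Co1.NotZ

/-!
# The two representatives outside the class of the centre are not conjugate
-/

set_option autoImplicit false
set_option linter.unusedSectionVars false

namespace Cfsg.Agent.Invol.Co1

open Cfsg.Agent.Classical.BinCoc Cfsg.Agent.Invol.Big Cfsg.Agent.Invol.Big.Code

variable {G : Type*} [Group G] [Finite G] {z : G} {Q : Subgroup G} {cd : G → ℕ}

/-- A two-group in the centralizer is conjugate into the full subgroup. -/
theorem conj_le {H T : Subgroup G} (hH : IsTwoFull z Q H) (hT : IsPGroup 2 T)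
    (hTC : T ≤ Subgroup.centralizer ({z} : Set G)) : ∃ c, c * z = z * c ∧ ∀ x ∈ T, c * x * c⁻¹ ∈ H := by
  classical
  haveI : Fact (Nat.Prime 2) := ⟨Nat.prime_two⟩
  set C := Subgroup.centralizer ({z} : Set G)
  obtain ⟨l, hl⟩ := IsPGroup.iff_card.1 hH.two
  have hHC : Nat.card (H.subgroupOf C) = 2 ^ l := by
    rw [Nat.card_congr (Subgroup.subgroupOfEquivOfLe hH.le).toEquiv, hl]
  obtain ⟨P, hP⟩ := (IsPGroup.of_card hHC).exists_le_sylow
  have hPe : (P : Subgroup C) = H.subgroupOf C := by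
    refine (Subgroup.eq_of_le_of_card_ge hP ?_).symm
    obtain ⟨n, hn⟩ := IsPGroup.iff_card.1 P.isPGroup'
    rw [hn, hHC]
    refine Nat.pow_le_pow_right (by norm_num) ?_
    by_contra hlt
    exact hH.full l hl ((pow_dvd_pow 2 (by omega : l + 1 ≤ n)).trans (hn ▸ Subgroup.card_subgroup_dvd_card _))
  obtain ⟨R, hR⟩ := (hT.comap_of_injective C.subtype C.subtype_injective).exists_le_sylow
  obtain ⟨c, hc⟩ := MulAction.exists_smul_eq C R P
  refine ⟨c, Subgroup.mem_centralizer_singleton_iff.1 c.2, fun x hx => ?_⟩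
  have : MulAut.conj c (⟨x, hTC hx⟩ : C) ∈ (P : Subgroup C) := by
    rw [← hc, Sylow.coe_subgroup_smul]
    exact Subgroup.smul_mem_pointwise_smul _ (MulAut.conj c) _ (hR hx)
  rw [hPe, Subgroup.mem_subgroupOf] at this
  exact this

theorem card_full {H : Subgroup G} (hH : IsTwoFull z Q H) (hQ : Nat.card Q = 512)
    (hcard : Nat.card (Subgroup.centralizer ({z} : Set G)) = 42525 * (2 ^ 12 * Nat.card Q)) :
    Nat.card H = 2 ^ 21 := by
  obtain ⟨m, hm⟩ := IsPGroup.iff_card.1 hH.two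
  have hd := Subgroup.card_dvd_of_le hH.le
  rw [hm, hcard, hQ, show 42525 * (2 ^ 12 * 512) = 42525 * 2 ^ 21 by norm_num] at hd
  have hle : m ≤ 21 := (Nat.pow_dvd_pow_iff_le_right (by norm_num : 1 < 2)).1
    (((Nat.Coprime.pow_left m (by norm_num : Nat.Coprime 2 42525))).dvd_of_dvd_mul_left hd)
  have hge : 21 ≤ m := by
    by_contra hlt
    refine hH.full m hm ?_
    rw [hcard, hQ, show 42525 * (2 ^ 12 * 512) = 2 ^ 21 * 42525 by norm_num]
    exact dvd_mul_of_dvd_left (pow_dvd_pow 2 (by omega)) _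
  rw [hm, le_antisymm hle hge]

/-- Every pair occurs as the action of a member of the full subgroup. -/
theorem full_surj (h : Code K8 z Q cd) {H : Subgroup G} (hH : IsTwoFull z Q H)
    (hact : ∀ x ∈ H, ∃ w ∈ rs, ∃ l ∈ el, h.Acts x (fun a => tE w (wd K8 (lw l) a)))
    (hQ : Nat.card Q = 512) (hHc : Nat.card H = 2 ^ 21) {w : ℕ} {l : List ℕ} (hw : w ∈ rs) (hl : l ∈ el) :
    ∃ x ∈ H, h.Acts x (fun a => tE w (wd K8 (lw l) a)) := by
  classical
  choose! fw hfw fl hfl hA using hact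
  set K := Q.subgroupOf H
  have hK : Nat.card K = 512 := by rw [Nat.card_congr (Subgroup.subgroupOfEquivOfLe hH.Q_le).toEquiv, hQ]
  have hidx : K.index = 4096 := by
    have := K.card_mul_index
    rw [hK, hHc] at this
    omega
  let f : H ⧸ K → {p // p ∈ (rs.product el).toFinset} := fun q =>
    ⟨(fw q.out.1, fl q.out.1), List.mem_toFinset.2 (List.mem_product.2 ⟨hfw _ q.out.2, hfl _ q.out.2⟩)⟩
  have hf : Function.Injective f := fun q q' e => by
    have e' := congrArg Subtype.val e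
    simp only [f, Prod.mk.injEq] at e'
    rw [← q.out_eq', ← q'.out_eq']
    refine QuotientGroup.eq.2 (Subgroup.mem_subgroupOf.2 ?_)
    have h1 := Subgroup.mem_centralizer_singleton_iff.1 (hH.le q.out.2)
    have h2 := Subgroup.mem_centralizer_singleton_iff.1 (hH.le q'.out.2)
    show (q.out.1)⁻¹ * q'.out.1 ∈ Q
    refine (h.mem_iff (comm_mul (comm_inv h1) h2)).2 fun a ha => ?_
    rw [h.act_mul (comm_inv h1) h2 ha, (hA _ q'.out.2).2 a ha]
    beta_reduce
    rw [← e'.1, ← e'.2]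
    have := (hA _ q.out.2).2 a ha
    beta_reduce at this
    rw [← this, h.act_inv_left h1 ha]
  have hcard : Nat.card {p // p ∈ (rs.product el).toFinset} = 4096 := by
    obtain ⟨-, hrn, hen, -, -, -, -, -, hrl, hell⟩ := inj_ok
    rw [Nat.card_eq_fintype_card, Fintype.card_coe, List.toFinset_card_of_nodup (l := rs.product el) (hrn.product hen),
      show (rs.product el).length = rs.length * el.length from List.length_product .., hrl, hell]
  have hbij : Function.Bijective f := hf.bijective_of_nat_card_le (by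
    rw [hcard, ← Subgroup.index_eq_card, hidx])
  obtain ⟨q, hq⟩ := hbij.2 ⟨(w, l), List.mem_toFinset.2 (List.mem_product.2 ⟨hw, hl⟩)⟩
  have e' := congrArg Subtype.val hq
  simp only [f, Prod.mk.injEq] at e'
  refine ⟨_, q.out.2, ?_⟩
  have := hA _ q.out.2
  rwa [e'.1, e'.2] at this

namespace Pr

variable {g : G}

/-- The codes of elements of `Q` centralizing the first representative. -/
theorem centQ_P (P : Pr z Q cd g) {r d : G} (hr : IsP P r) (hd : d ∈ Q) (hdr : d * r = r * d) :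
    cd d ∈ (fixL K8 (tE 136)).filter fun a => !bq K8 42 a := by
  obtain ⟨p, hp, rfl⟩ := hr
  have h := P.code
  set y := p * P.code.rep 42
  have hyA : P.code.Acts y (tE 136) := hp.2.2.2.mul_Q (P.code.rep_mem 42)
  have hlt := h.lt d hd
  have hfix : tE 136 (cd d) = cd d := by
    rw [← hyA.2 _ hlt, h.act_cd hyA.1 hd, ← hdr, mul_inv_cancel_right]
  have hfa := fixany_ok
  simp only [List.all_eq_true, Bool.or_eq_true, beq_iff_eq, Bool.not_eq_true', beq_eq_false_iff_ne,
    List.mem_range, Bool.and_eq_true] at hfa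
  obtain ⟨k1, k2⟩ := ((hfa 136 hp.2.2.1).resolve_left (by norm_num) (cd d) hlt).resolve_left fun e => e hfix
  have hpd : Commute p d := P.comm_x hp hd k1 k2
  have hyd : Commute y d := hdr.symm
  have hxd : Commute (P.code.rep 42) d := by
    have := (hpd.inv_left).mul_left hyd
    rwa [show p⁻¹ * y = P.code.rep 42 from inv_mul_cancel_left _ _] at this
  have := (h.commute_iff (P.code.rep_mem 42) hd).1 hxd
  rw [h.cd_rep (show 42 < 2 ^ K8.n by rw [K8_n]; norm_num)] at this
  exact List.mem_filter.2 ⟨mem_fixL.2 ⟨hlt, hfix⟩, by simp [this]⟩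

/-- An element of the centralizer of the second representative moving `t`. -/
theorem exists_swap (P : Pr z Q cd g) {r : G} (hr : IsP P r) :
    ∃ k, k * z = z * k ∧ k * r = r * k ∧ IsPGroup 2 (Subgroup.zpowers k) ∧
      k * (g * z * g⁻¹) * k⁻¹ = g * z * g⁻¹ * z := by
  obtain ⟨p, hp, rfl⟩ := hr
  have h := P.code
  obtain ⟨hkw, hk1, hk136, hk42, h16, hkc, hb16⟩ := flip_ok
  set t := g * z * g⁻¹ with htdef
  set y := p * P.code.rep 42 with hy
  have h42lt : (42 : ℕ) < 2 ^ K8.n := by rw [K8_n]; norm_num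
  have h16lt : (16 : ℕ) < 2 ^ K8.n := by rw [K8_n]; norm_num
  have h42 := h.cd_rep h42lt
  have hyA : P.code.Acts y (tE 136) := hp.2.2.2.mul_Q (P.code.rep_mem 42)
  have hy2 : y * y = 1 := (P.isP_spec ⟨p, hp, rfl⟩).1
  -- a flip fixing `t`
  obtain ⟨c, hc, hct⟩ := P.stab hkw hk1
  have hkc' : ∀ a < 256, wd K8 kap (tE 136 a) = tE 136 (wd K8 kap a) := fun a ha =>
    lin_ext (Lin.comp (lin_wd h hkw) (lin_tE h (by norm_num)) fun b hb => tE_lt (by norm_num) hb)
      (Lin.comp (lin_tE h (by norm_num)) (lin_wd h hkw) fun b hb => wok_lt hkw hb) hkc ha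
  have hp' : InP P.code g (c * p * c⁻¹) 136 :=
    ⟨(h.extc g).norm c (mul_inv_eq_iff_eq_mul.1 hct) p hp.1, comm_mul (comm_mul hc.1 hp.2.1) (comm_inv hc.1),
      hp.2.2.1, Acts.conj hp.2.2.2 hc fun a ha _ => hkc' a ha⟩
  obtain ⟨d1, d2⟩ := P.inP_div hp hp'
  have hxc : c * P.code.rep 42 * c⁻¹ ∈ Q := h.ext.norm c hc.1 _ (P.code.rep_mem 42)
  set x1 := p⁻¹ * (c * p * c⁻¹) * (c * P.code.rep 42 * c⁻¹)
  have hx1 : x1 ∈ Q := mul_mem d1 hxc
  have hcy : c * y * c⁻¹ = p * x1 := by simp only [hy, x1]; group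
  have hcd1 : cd x1 ∈ [42 ^^^ 136, 42 ^^^ 137] := by
    have hk := List.contains_iff_mem.1 hk42
    rw [h.mul _ d1 _ hxc, ← h.act_cd hc.1 (P.code.rep_mem 42), h42, hc.2 42 h42lt]
    rcases h.dcases P.pd_ok P.hg P.hne d1 d2 with e | e <;> rw [e]
    · rwa [Nat.zero_xor]
    · rw [P.hv]
      exact (show ∀ v ∈ [42 ^^^ 136, 42 ^^^ 137], 1 ^^^ v ∈ [42 ^^^ 136, 42 ^^^ 137] by decide) _ hk
  -- an element of `Q` moving `t`
  obtain ⟨x', hx'Q, hx'c, hx'e⟩ := shift h hyA hy2 (b := 16) (by norm_num)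
  rw [h16] at hx'c
  set x2 := P.code.rep 42 * x'
  have hx2 : x2 ∈ Q := mul_mem (P.code.rep_mem 42) hx'Q
  have hcd2 : cd x2 = 42 ^^^ 137 := by rw [h.mul _ (P.code.rep_mem 42) _ hx'Q, h42, hx'c]
  have hry : P.code.rep 16 * y * (P.code.rep 16)⁻¹ = p * x2 := by rw [hx'e, hy, mul_assoc]
  have hrt : (P.code.rep 16)⁻¹ * t * P.code.rep 16 = t * z := by
    have e := h.conj_bq (P.code.rep_mem 16) P.hg
    rw [P.hv, h.cd_rep h16lt, bn, bq_comm, if_pos hb16, pow_one] at e
    have hz16 : (P.code.rep 16)⁻¹ * z * P.code.rep 16 = z := by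
      rw [comm_inv (h.ext.central _ (P.code.rep_mem 16)), inv_mul_cancel_right]
    calc (P.code.rep 16)⁻¹ * t * P.code.rep 16
        = (P.code.rep 16)⁻¹ * (t * z * z) * P.code.rep 16 := by rw [mul_assoc t, h.ext.zz, mul_one]
      _ = (P.code.rep 16)⁻¹ * ((P.code.rep 16 * t * (P.code.rep 16)⁻¹) * z) * P.code.rep 16 := by rw [e]
      _ = t * ((P.code.rep 16)⁻¹ * z * P.code.rep 16) := by group
      _ = _ := by rw [hz16]
  -- the four candidates
  obtain ⟨e, he, het, hee⟩ : ∃ e ∈ Q, e * t = t * e ∧ e * (p * x1) * e⁻¹ = p * x2 := by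
    have hb : ∀ v ∈ [42 ^^^ 136, 42 ^^^ 137], bq K8 1 v = false ∧ bq K8 136 v = true ∧ bq K8 42 v = true := by
      decide +kernel
    obtain ⟨hv1, hv136, hv42⟩ := hb _ hcd1
    have h136lt : (136 : ℕ) < 2 ^ K8.n := by rw [K8_n]; norm_num
    have h136 := h.cd_rep h136lt
    have hb1 : bq K8 1 (cd (P.code.rep 136)) = false := by rw [h136]; decide +kernel
    have hb2 : bq K8 1 (cd (P.code.rep 42)) = false := by rw [h42]; decide +kernel
    have htx1 : x1 * t = t * x1 := P.x_t hx1 hv1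
    have ht2 : t * t = 1 := P.t_sq
    have hz2 := h.ext.zz
    have hA : P.code.rep 136 * (p * x1) * (P.code.rep 136)⁻¹ = p * x1 * z := by
      have e1 := P.conj_x hp (P.code.rep_mem 136) hb1
      rw [h136, if_neg (by simp [show bq K8 136 136 = false by decide +kernel]), one_mul] at e1
      have e2 := h.conj_bq (P.code.rep_mem 136) hx1
      rw [h136, bn, if_pos hv136, pow_one] at e2
      rw [← conj_mul, e1, e2]
      exact (mul_assoc _ _ _).symm
    have hB : P.code.rep 42 * (p * x1) * (P.code.rep 42)⁻¹ = p * x1 * t := by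
      have e1 := P.conj_x hp (P.code.rep_mem 42) hb2
      rw [h42, if_pos (by decide +kernel : bq K8 136 42 = true), ← htdef] at e1
      have e2 := h.conj_bq (P.code.rep_mem 42) hx1
      rw [h42, bn, if_pos hv42, pow_one] at e2
      have hc1 : t * z * p = p * (t * z) :=
        ((show Commute p t from P.commute_t hp.1).mul_right (show Commute p z from hp.2.1)).eq.symm
      have hc2 : z * x1 = x1 * z := (h.ext.central x1 hx1).symm
      rw [← conj_mul, e1, e2, hc1]
      calc p * (t * z) * (x1 * z) = p * (t * (z * x1)) * z := by group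
        _ = p * (t * x1) * (z * z) := by rw [hc2]; group
        _ = p * x1 * t := by rw [hz2, mul_one, ← htx1]; group
    have hDQ : x1⁻¹ * x2 ∈ Q := mul_mem (inv_mem hx1) hx2
    have hd01 : cd (x1⁻¹ * x2) = 0 ∨ cd (x1⁻¹ * x2) = cd t := by
      rw [h.mul _ (inv_mem hx1) _ hx2, h.cd_inv hx1, hcd2, P.hv]
      exact (show ∀ v ∈ [42 ^^^ 136, 42 ^^^ 137], v ^^^ (42 ^^^ 137) = 0 ∨ v ^^^ (42 ^^^ 137) = 1 by decide) _ hcd1
    have hgoal : ∀ d, x1⁻¹ * x2 = d → p * x2 = p * x1 * d := fun d e => by rw [← e]; group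
    have het : ∀ v, bq K8 1 (cd (P.code.rep v)) = false → P.code.rep v * t = t * P.code.rep v :=
      fun v hv => P.x_t (P.code.rep_mem v) hv
    rcases hd01 with e0 | e0
    · rcases (h.ker _ hDQ).1 e0 with e0 | e0
      · exact ⟨1, one_mem _, by simp, by rw [hgoal _ e0]; simp⟩
      · exact ⟨_, P.code.rep_mem 136, het _ hb1, by rw [hgoal _ e0]; exact hA⟩
    · rcases (h.cd_eq_iff P.hg hDQ).1 e0.symm with e0 | e0
      · exact ⟨_, P.code.rep_mem 42, het _ hb2, by rw [hgoal _ e0]; exact hB⟩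
      · refine ⟨P.code.rep 136 * P.code.rep 42, mul_mem (P.code.rep_mem _) (P.code.rep_mem _),
          ((show Commute _ t from het _ hb1).mul_left (show Commute _ t from het _ hb2)).eq, ?_⟩
        rw [hgoal _ e0]
        calc P.code.rep 136 * P.code.rep 42 * (p * x1) * (P.code.rep 136 * P.code.rep 42)⁻¹
            = P.code.rep 136 * (P.code.rep 42 * (p * x1) * (P.code.rep 42)⁻¹) * (P.code.rep 136)⁻¹ := by group
          _ = (P.code.rep 136 * (p * x1) * (P.code.rep 136)⁻¹) * (P.code.rep 136 * t * (P.code.rep 136)⁻¹) := by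
              rw [hB]; group
          _ = p * x1 * (z * t) := by rw [hA, het _ hb1, mul_inv_cancel_right]; group
          _ = _ := by rw [← P.t_z]
  set k0 := (P.code.rep 16)⁻¹ * e * c with hk0
  have hk0z : k0 * z = z * k0 :=
    comm_mul (comm_mul (comm_inv (h.ext.central _ (P.code.rep_mem 16))) (h.ext.central e he)) hc.1
  have hk0y : k0 * y = y * k0 := by
    refine mul_inv_eq_iff_eq_mul.1 ?_
    calc k0 * y * k0⁻¹ = (P.code.rep 16)⁻¹ * (e * (c * y * c⁻¹) * e⁻¹) * P.code.rep 16 := by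
          simp only [hk0]; group
      _ = (P.code.rep 16)⁻¹ * (P.code.rep 16 * y * (P.code.rep 16)⁻¹) * P.code.rep 16 := by rw [hcy, hee, hry]
      _ = y := by group
  have hk0t : k0 * t * k0⁻¹ = t * z := by
    calc k0 * t * k0⁻¹ = (P.code.rep 16)⁻¹ * (e * (c * t * c⁻¹) * e⁻¹) * P.code.rep 16 := by
          simp only [hk0]; group
      _ = _ := by rw [hct, comm_left_conj het, hrt]
  -- the two-part
  obtain ⟨i, m, hm, hmo⟩ := Nat.exists_eq_two_pow_mul_odd (orderOf_pos k0).ne'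
  have hkz : k0 ^ m * z = z * k0 ^ m := ((show Commute k0 z from hk0z).pow_left m).eq
  have hky : k0 ^ m * y = y * k0 ^ m := ((show Commute k0 y from hk0y).pow_left m).eq
  refine ⟨k0 ^ m, hkz, hky, IsPGroup.of_card (n := i) ?_, ?_⟩
  · rw [Nat.card_zpowers, orderOf_pow, hmo, Nat.gcd_eq_right (dvd_mul_left _ _),
      Nat.mul_div_cancel _ hm.pos]
  · have hk2 : k0 * (t * z) * k0⁻¹ = t := by
      calc k0 * (t * z) * k0⁻¹ = (k0 * t * k0⁻¹) * (k0 * z * k0⁻¹) := by group
        _ = t * (z * z) := by rw [hk0t, comm_left_conj hk0z, mul_assoc]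
        _ = t := by rw [h.ext.zz, mul_one]
    obtain ⟨j, rfl⟩ := hm
    clear hmo hkz hky
    clear_value k0
    induction j with
    | zero => simpa using hk0t
    | succ j ih =>
      rw [show k0 ^ (2 * (j + 1) + 1) = k0 * k0 * k0 ^ (2 * j + 1) by
        rw [show 2 * (j + 1) + 1 = 1 + (1 + (2 * j + 1)) by omega, pow_add, pow_add, pow_one, mul_assoc]]
      calc k0 * k0 * k0 ^ (2 * j + 1) * t * (k0 * k0 * k0 ^ (2 * j + 1))⁻¹
          = k0 * (k0 * (k0 ^ (2 * j + 1) * t * (k0 ^ (2 * j + 1))⁻¹) * k0⁻¹) * k0⁻¹ := by group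
        _ = _ := by rw [ih, hk2, hk0t]

/-- The first representative has a large two-group in its centralizer. -/
theorem big_two_R (P : Pr z Q cd g) (hQ : Nat.card Q = 512)
    (hcard : Nat.card (Subgroup.centralizer ({z} : Set G)) = 42525 * (2 ^ 12 * Nat.card Q))
    {r : G} (hr : IsR P r) :
    ∃ S : Subgroup G, IsPGroup 2 S ∧ S ≤ Subgroup.centralizer ({r} : Set G) ∧ 2 ^ 18 ≤ Nat.card S := by
  classical
  obtain ⟨p, hp, rfl⟩ := hr
  have h := P.code
  obtain ⟨H, hH, hact⟩ := exists_full h hcard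
  have hHc := card_full hH hQ hcard
  set y := p * P.code.rep 4
  refine ⟨H ⊓ Subgroup.centralizer ({y} : Set G), hH.two.to_le inf_le_left, inf_le_right, ?_⟩
  set S1 := (Subgroup.centralizer ({y} : Set G)).subgroupOf H with hS1
  have hor := orbit_ok
  simp only [Bool.and_eq_true, List.all_eq_true, beq_iff_eq, List.contains_iff_mem] at hor
  have hpe := perp_ok
  simp only [List.all_eq_true, List.mem_range, Bool.or_eq_true, Bool.not_eq_true', decide_eq_true_eq] at hpe
  have hp2 : p * p = 1 := P.sing_sq hp (by decide +kernel)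
  have h4lt : (4 : ℕ) < 2 ^ K8.n := by rw [K8_n]; norm_num
  have h2lt : (2 : ℕ) < 2 ^ K8.n := by rw [K8_n]; norm_num
  have h1lt : (1 : ℕ) < 2 ^ K8.n := by rw [K8_n]; norm_num
  let E : Finset G := ([4, 5, 6, 7].flatMap fun u => [p * P.code.rep u, p * P.code.rep u * z]).toFinset
  have hE : E.card ≤ 8 := (List.toFinset_card_le _).trans (by simp)
  have horb : ∀ x ∈ H, x * y * x⁻¹ ∈ E := by
    intro x hx
    obtain ⟨w, hw, l, hl, hxA⟩ := hact x hx
    obtain ⟨hl2, hl4⟩ := hor
    obtain ⟨hu4, hw2⟩ := hl4 w hw l hl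
    have hx1 : h.act x 1 = 1 := by
      have hel := el_ok
      simp only [Bool.and_eq_true, List.all_eq_true, beq_iff_eq] at hel
      rw [hxA.2 1 h1lt]
      beta_reduce
      rw [(hel l hl).1.1]
      exact (show ∀ w ∈ rs, tE w 1 = 1 by decide +kernel) w hw
    have hx2 : h.act x 2 = 2 ∨ h.act x 2 = 2 ^^^ 1 := by
      rw [hxA.2 2 h2lt]
      beta_reduce
      rw [hl2 l hl]
      simpa using hw2
    set p' := x * p * x⁻¹
    have hxz := hxA.1
    have hp'A : h.Acts p' (tE 2) := by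
      refine Acts.conj hp.2.2.2 hxA fun a ha _ => ?_
      have ha2 : tE 2 a < 256 := tE_lt (by norm_num) ha
      have e1 := conj_tE h hxz hx1 (w := 2) (a := a) (by norm_num) ha
      rw [hxA.2 _ ha2, hxA.2 a ha] at e1
      beta_reduce at e1 ⊢
      rw [e1]
      rcases hx2 with e | e <;> rw [e]
      exact lin_ext (lin_tE h (by norm_num)) (lin_tE h (by norm_num)) (by decide +kernel)
        (tE_lt (rs_lt hw) ((lin_lw h hl).2 a ha))
    have hd : p⁻¹ * p' ∈ Q := (h.mem_iff (comm_mul (comm_inv hp.2.1) hp'A.1)).2 fun a ha => by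
      rw [h.act_mul (comm_inv hp.2.1) hp'A.1 ha, hp'A.2 a ha, ← hp.2.2.2.2 a ha, h.act_inv_left hp.2.1 ha]
    have hperp : ∀ u ∈ fixL K8 (tE 2), bq K8 (cd (p⁻¹ * p')) u = false := by
      intro u hu
      obtain ⟨hult, hufix⟩ := mem_fixL.1 hu
      have hfa := fixany_ok
      simp only [List.all_eq_true, Bool.or_eq_true, beq_iff_eq, Bool.not_eq_true', beq_eq_false_iff_ne,
        List.mem_range, Bool.and_eq_true] at hfa
      obtain ⟨k1, k2⟩ := ((hfa 2 hp.2.2.1).resolve_left (by norm_num) u hult).resolve_left fun e => e hufix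
      have hcu := h.cd_rep hult
      set x' := x⁻¹ * P.code.rep u * x
      have hx'Q : x' ∈ Q := by simpa using h.ext.norm x⁻¹ (comm_inv hxz) _ (P.code.rep_mem u)
      have hcx' : h.act x (cd x') = u := by
        rw [h.act_cd hxz hx'Q, show x * (x⁻¹ * P.code.rep u * x) * x⁻¹ = P.code.rep u by group, hcu]
      have hb1 : bq K8 1 (cd x') = false := by
        rw [← h.bq_act hxz h1lt (h.lt x' hx'Q), hx1, hcx', k1]
      have hb2 : bq K8 2 (cd x') = false := by
        rw [← h.bq_act hxz h2lt (h.lt x' hx'Q), hcx']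
        rcases hx2 with e | e <;> rw [e]
        · exact k2
        · rw [bq_add h (by norm_num) (by norm_num) hult, k2, k1]; rfl
      have e1 : Commute p (P.code.rep u) := P.comm_x hp (P.code.rep_mem u) (by rw [hcu]; exact k1) (by rw [hcu]; exact k2)
      have e2 : Commute p' (P.code.rep u) := by
        have := P.comm_x hp hx'Q hb1 hb2
        show x * p * x⁻¹ * P.code.rep u = P.code.rep u * (x * p * x⁻¹)
        calc x * p * x⁻¹ * P.code.rep u = x * (p * x') * x⁻¹ := by simp only [x']; group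
          _ = x * (x' * p) * x⁻¹ := by rw [this]
          _ = _ := by simp only [x']; group
      have := (h.commute_iff hd (P.code.rep_mem u)).1 ((e1.inv_left).mul_left e2).eq
      rwa [hcu] at this
    have hd4 : cd (p⁻¹ * p') < 4 := (hpe _ (h.lt _ hd)).resolve_left fun e => by
      rw [List.all_eq_false] at e
      obtain ⟨u, hu, e⟩ := e
      exact e (by rw [hperp u hu]; rfl)
    have hxr : x * P.code.rep 4 * x⁻¹ ∈ Q := h.ext.norm x hxz _ (P.code.rep_mem 4)
    set m := p⁻¹ * p' * (x * P.code.rep 4 * x⁻¹)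
    have hm : m ∈ Q := mul_mem hd hxr
    have hcm : cd m ∈ [4, 5, 6, 7] := by
      rw [h.mul _ hd _ hxr, ← h.act_cd hxz (P.code.rep_mem 4), h.cd_rep h4lt, hxA.2 4 h4lt]
      beta_reduce
      exact (show ∀ v < 4, ∀ u ∈ [4, 5, 6, 7], v ^^^ u ∈ [4, 5, 6, 7] by decide) _ hd4 _ hu4
    have hxy : x * y * x⁻¹ = p * m := by simp only [y, m, p']; group
    rw [hxy, List.mem_toFinset, List.mem_flatMap]
    refine ⟨cd m, hcm, ?_⟩
    rcases (h.cd_eq_iff (P.code.rep_mem (cd m)) hm).1 (h.cd_rep (h.lt m hm)) with e | e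
    · exact List.mem_cons.2 (Or.inl (congrArg (p * ·) e))
    · exact List.mem_cons_of_mem _ (List.mem_singleton.2 ((congrArg (p * ·) e).trans (mul_assoc _ _ _).symm))
  let ψ : H ⧸ S1 → {m // m ∈ E} := fun q => ⟨q.out.1 * y * q.out.1⁻¹, horb _ q.out.2⟩
  have hψ : Function.Injective ψ := fun q q' e => by
    have e' := congrArg Subtype.val e
    simp only [ψ] at e'
    rw [← q.out_eq', ← q'.out_eq']
    refine QuotientGroup.eq.2 (Subgroup.mem_subgroupOf.2 (Subgroup.mem_centralizer_singleton_iff.2 ?_))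
    show (q.out.1)⁻¹ * q'.out.1 * y = y * ((q.out.1)⁻¹ * q'.out.1)
    calc (q.out.1)⁻¹ * q'.out.1 * y = (q.out.1)⁻¹ * (q'.out.1 * y * q'.out.1⁻¹) * q'.out.1 := by group
      _ = (q.out.1)⁻¹ * (q.out.1 * y * q.out.1⁻¹) * q'.out.1 := by rw [e']
      _ = _ := by group
  have hidx : S1.index ≤ 8 := by
    rw [Subgroup.index_eq_card]
    refine (Nat.card_le_card_of_injective ψ hψ).trans ?_
    rw [Nat.card_eq_fintype_card, Fintype.card_coe]
    exact hE
  have hmul := S1.card_mul_index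
  rw [hHc] at hmul
  have hS : Nat.card S1 ≤ Nat.card (H ⊓ Subgroup.centralizer ({y} : Set G) : Subgroup G) :=
    Nat.card_le_card_of_injective (fun v => ⟨v.1.1, v.1.2, Subgroup.mem_subgroupOf.1 v.2⟩) fun a b e =>
      Subtype.ext (Subtype.ext (congrArg Subtype.val e :))
  nlinarith [Nat.mul_le_mul_left (Nat.card S1) hidx]

/-- Two-groups centralizing `z` and the second representative are small. -/
theorem small_two_P (P : Pr z Q cd g) (hQ : Nat.card Q = 512)
    (hcard : Nat.card (Subgroup.centralizer ({z} : Set G)) = 42525 * (2 ^ 12 * Nat.card Q))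
    {r : G} (hr : IsP P r) {T : Subgroup G} (hT : IsPGroup 2 T) (hTz : T ≤ Subgroup.centralizer ({z} : Set G))
    (hTr : T ≤ Subgroup.centralizer ({r} : Set G)) (hrT : r ∈ T) : Nat.card T < 2 ^ 18 := by
  classical
  by_contra hbig
  rw [not_lt] at hbig
  have h := P.code
  obtain ⟨hr2, hrz, hrA⟩ := P.isP_spec hr
  obtain ⟨H, hH, hact⟩ := exists_full h hcard
  have hHc := card_full hH hQ hcard
  obtain ⟨c, hc, hcH⟩ := conj_le hH hT hTz
  set T' := T.map (MulAut.conj c).toMonoidHom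
  have hT'H : T' ≤ H := by rintro _ ⟨x, hx, rfl⟩; exact hcH x hx
  have hT'c : Nat.card T' = Nat.card T :=
    (Nat.card_congr (T.equivMapOfInjective _ (MulAut.conj c).injective).toEquiv).symm
  haveI : (Q.subgroupOf H).Normal := ⟨fun n hn x => by
    rw [Subgroup.mem_subgroupOf] at hn ⊢
    exact h.ext.norm x.1 (Subgroup.mem_centralizer_singleton_iff.1 (hH.le x.2)) _ hn⟩
  set K := Q.subgroupOf H
  let φ : T' →* H ⧸ K := (QuotientGroup.mk' K).comp (Subgroup.inclusion hT'H)
  have hker : Nat.card φ.ker ≤ 64 := by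
    have hcl := cent_ok
    set L := (fixL K8 (tE 136)).filter fun a => !bq K8 42 a
    have hkQ : ∀ x : φ.ker, x.1.1 ∈ Q := fun x =>
      Subgroup.mem_subgroupOf.1 ((QuotientGroup.eq_one_iff (Subgroup.inclusion hT'H x.1)).1 x.2)
    let f : φ.ker → {v // v ∈ L.toFinset} × Bool := fun x =>
      (⟨cd (c⁻¹ * x.1.1 * c), List.mem_toFinset.2 (by
        have hxQ : x.1.1 ∈ Q := hkQ x
        obtain ⟨v, hv, hve⟩ := x.1.2
        have hve' : c⁻¹ * x.1.1 * c = v := by
          rw [← hve]; show c⁻¹ * (c * v * c⁻¹) * c = v; group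
        have hvQ : c⁻¹ * x.1.1 * c ∈ Q := by simpa using h.ext.norm c⁻¹ (comm_inv hc) _ hxQ
        exact P.centQ_P hr hvQ (by rw [hve']; exact Subgroup.mem_centralizer_singleton_iff.1 (hTr hv)))⟩,
        decide (c⁻¹ * x.1.1 * c = P.code.rep (cd (c⁻¹ * x.1.1 * c))))
    have hf : Function.Injective f := fun x x' e => by
      simp only [f, Prod.mk.injEq, Subtype.mk.injEq, decide_eq_decide] at e
      obtain ⟨e1, e2⟩ := e
      have hxQ : ∀ x : φ.ker, c⁻¹ * x.1.1 * c ∈ Q := fun x => by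
        simpa using h.ext.norm c⁻¹ (comm_inv hc) _ (hkQ x)
      have heq : c⁻¹ * x.1.1 * c = c⁻¹ * x'.1.1 * c := by
        have hrep := h.cd_rep (h.lt _ (hxQ x))
        rcases (h.cd_eq_iff (P.code.rep_mem _) (hxQ x)).1 hrep with k | k
        · rw [k]; rw [e2.1 k |> fun k' => k', e1]
        · rcases (h.cd_eq_iff (P.code.rep_mem _) (hxQ x')).1 (h.cd_rep (h.lt _ (hxQ x'))) with k' | k'
          · exact absurd (k.symm.trans (e2.2 k')) fun e' => h.ne (mul_eq_left.1 e')
          · rw [k, k', e1]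
      exact Subtype.ext (Subtype.ext (mul_left_cancel (mul_right_cancel heq)))
    refine (Nat.card_le_card_of_injective f hf).trans ?_
    rw [Nat.card_prod, Nat.card_eq_fintype_card, Fintype.card_coe, Nat.card_eq_fintype_card, Fintype.card_bool,
      List.toFinset_card_of_nodup (l := L) ((List.nodup_range.filter _).filter _), hcl]
  have hK : K.index = 4096 := by
    have e := K.card_mul_index
    rw [Nat.card_congr (Subgroup.subgroupOfEquivOfLe hH.Q_le).toEquiv, hQ, hHc] at e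
    omega
  have htop : φ.range = ⊤ := by
    have h1 := φ.ker.card_mul_index
    rw [Subgroup.index_ker, hT'c] at h1
    refine Subgroup.eq_top_of_le_card _ ?_
    rw [← Subgroup.index_eq_card, hK]
    by_contra hlt
    have := Nat.mul_le_mul hker (le_of_lt (not_le.1 hlt))
    nlinarith [Nat.card_pos (α := φ.ker)]
  set y := c * r * c⁻¹ with hy
  have hyT : y ∈ T' := ⟨r, hrT, rfl⟩
  have hyz : y * z = z * y := comm_mul (comm_mul hc hrz) (comm_inv hc)
  have hyT' : ∀ v ∈ T', v * y = y * v := by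
    rintro _ ⟨v, hv, rfl⟩
    show c * v * c⁻¹ * (c * r * c⁻¹) = c * r * c⁻¹ * (c * v * c⁻¹)
    rw [conj_mul, conj_mul, Subgroup.mem_centralizer_singleton_iff.1 (hTr hv)]
  have hyall : ∀ x ∈ H, ∀ a < 256, h.act y (h.act x a) = h.act x (h.act y a) := by
    intro x hx a ha
    obtain ⟨v, hv⟩ : (QuotientGroup.mk' K ⟨x, hx⟩) ∈ φ.range := by rw [htop]; exact Subgroup.mem_top _
    have hxv : v.1⁻¹ * x ∈ Q := Subgroup.mem_subgroupOf.1 (QuotientGroup.eq.1 hv)
    have hvz : v.1 * z = z * v.1 := Subgroup.mem_centralizer_singleton_iff.1 (hH.le (hT'H v.2))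
    have hsame : ∀ a < 256, h.act x a = h.act v.1 a := fun a ha => by
      conv_lhs => rw [show x = v.1 * (v.1⁻¹ * x) by group]
      rw [h.act_mul hvz (h.ext.central _ hxv) ha, (h.mem_iff (h.ext.central _ hxv)).1 hxv a ha]
    rw [hsame a ha, hsame _ (h.act_lt hyz a), ← h.act_mul hyz hvz ha, ← h.act_mul hvz hyz ha, hyT' _ v.2]
  obtain ⟨w, hw, l, hl, hyA⟩ := hact y (hT'H hyT)
  obtain ⟨hti, -, -, h0, h016, -, hnil, -, -, -⟩ := inj_ok
  have hel := el_ok
  have hce := centre_ok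
  simp only [Bool.and_eq_true, List.all_eq_true, beq_iff_eq, List.contains_iff_mem, Bool.or_eq_true,
    Bool.not_eq_true', List.any_eq_true, bne_iff_ne] at hel hce
  have hLT := fun {b : ℕ} (hb : b ∈ rs) => (full_surj h hH hact hQ hHc (w := b) (l := []) hb hnil)
  set L := wd K8 (lw l)
  obtain ⟨hll, hlb⟩ := lin_lw h hl
  have hl16 : L 16 = 16 := (hel l hl).1.2
  have hlrs : ∀ b ∈ rs, L b ∈ rs := (hel l hl).2
  have hLlin : ∀ {b a : ℕ}, b < 256 → a < 256 → L (tE b a) = tE (L b) (L a) := by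
    intro b a hb ha
    obtain ⟨x, hx, hxA⟩ := full_surj h hH hact hQ hHc (w := 0) (l := l) h0 hl
    have e := conj_tE h hxA.1 (by rw [hxA.2 1 (by rw [K8_n]; norm_num)]; simpa [tE_zero] using (hel l hl).1.1) hb ha
    rw [hxA.2 _ (tE_lt hb ha), hxA.2 b hb, hxA.2 a ha] at e
    simpa [tE_zero] using e
  have hrb : ∀ b ∈ rb, L b = b := by
    intro b hb
    have hbrs : b ∈ rs := (show ∀ b ∈ rb, b ∈ rs by decide +kernel) b hb
    obtain ⟨x, hx, hxA⟩ := hLT hbrs
    have e := hyall x hx 16 (by norm_num)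
    have hx16 : h.act x 16 = tE b 16 := hxA.2 16 (by rw [K8_n]; norm_num)
    have hy16 : h.act y 16 = tE w 16 := by
      rw [hyA.2 16 (by rw [K8_n]; norm_num)]
      show tE w (L 16) = _
      rw [hl16]
    rw [hx16, hyA.2 _ (tE_lt (rs_lt hbrs) (by norm_num)), hy16, hxA.2 _ (tE_lt (rs_lt hw) (by norm_num))] at e
    change tE w (L (tE b 16)) = tE b (tE w 16) at e
    rw [hLlin (rs_lt hbrs) (by norm_num), hl16, (add_eq h hw (hlrs b hbrs) (by norm_num)).2,
      (add_eq h hbrs hw (by norm_num)).2, Nat.xor_comm b w] at e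
    have := List.inj_on_of_nodup_map hti (add_eq h hw (hlrs b hbrs) (a := 0) (by norm_num)).1
      (add_eq h hw hbrs (a := 0) (by norm_num)).1 e
    have h2 := congrArg (w ^^^ ·) this
    simpa [← Nat.xor_assoc] using h2
  have hL : bt L = bt id := (hce.1 l hl).resolve_left fun e => by
    rw [List.all_eq_false] at e
    obtain ⟨b, hb, e⟩ := e
    exact e (beq_iff_eq.2 (hrb b hb))
  have hLid : ∀ a < 256, L a = a := fun a ha => lin_ext hll lin_id hL ha
  have hw2 : w = 0 ∨ w = 2 := by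
    rcases hce.2 w hw with (e | e) | ⟨l', hl', hne⟩
    · exact Or.inl e
    · exact Or.inr e
    · exfalso
      apply hne
      obtain ⟨x, hx, hxA⟩ := full_surj h hH hact hQ hHc (w := 0) (l := l') h0 hl'
      have h16lt : (16 : ℕ) < 2 ^ K8.n := by rw [K8_n]; norm_num
      have hx16 : h.act x 16 = 16 := by
        rw [hxA.2 16 h16lt]; show tE 0 (wd K8 (lw l') 16) = 16; rw [tE_zero, (hel l' hl').1.2]
      have hyA' : ∀ a < 256, h.act y a = tE w a := fun a ha => by
        rw [hyA.2 a ha]; show tE w (L a) = _; rw [hLid a ha]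
      have e := hyall x hx 16 (by norm_num)
      rw [hx16, hyA' 16 (by norm_num)] at e
      have e' := conj_tE h hxA.1 (by rw [hxA.2 1 (by rw [K8_n]; norm_num)]; simpa [tE_zero] using (hel l' hl').1.1)
        (rs_lt hw) (show (16 : ℕ) < 256 by norm_num)
      rw [hx16, ← e, hxA.2 w (rs_lt hw)] at e'
      change tE w 16 = tE (tE 0 (wd K8 (lw l') w)) 16 at e'
      rw [tE_zero] at e'
      exact (List.inj_on_of_nodup_map hti hw ((hel l' hl').2 w hw) e').symm
  -- compare with the action of `r`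
  have hci := comm_inv hc
  have hts := c2ts_ok
  simp only [List.any_eq_true, List.mem_range] at hts
  obtain ⟨a, ha, hq⟩ := hts
  have hca := h.act_lt hc a
  have e1 : h.act y (h.act c a) = h.act c (tE 136 a) := by
    rw [hy, h.act_mul (comm_mul hc hrz) hci hca, h.act_inv_left hc ha, h.act_mul hc hrz ha, hrA.2 a ha]
  have e2 : K8.q (h.act y (h.act c a) ^^^ h.act c a) = true := by
    rw [e1, ← h.act_xor hc (tE_lt (by norm_num) ha) ha, h.act_q hc (xor_lt (tE_lt (by norm_num) ha) ha), hq]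
  rw [hyA.2 _ hca] at e2
  change K8.q (tE w (L (h.act c a)) ^^^ h.act c a) = true at e2
  rw [hLid _ hca] at e2
  rcases hw2 with rfl | rfl
  · rw [tE_zero, Nat.xor_self] at e2; exact absurd e2 (by decide +kernel)
  · have := a2ts_ok
    simp only [List.all_eq_true, List.mem_range, Bool.not_eq_true'] at this
    rw [this _ hca] at e2; exact absurd e2 (by simp)

/-- The representatives are not conjugate. -/
theorem not_conj_RP (P : Pr z Q cd g) (hQ : Nat.card Q = 512)
    (hcard : Nat.card (Subgroup.centralizer ({z} : Set G)) = 42525 * (2 ^ 12 * Nat.card Q))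
    {r r' : G} (hr : IsR P r) (hr' : IsP P r') : ¬ IsConj r r' := by
  classical
  intro hconj
  haveI : Fact (Nat.Prime 2) := ⟨Nat.prime_two⟩
  have h := P.code
  obtain ⟨hr2, hrz, hrA⟩ := P.isP_spec hr'
  obtain ⟨k, hkz, hkr, hk2, hkt⟩ := P.exists_swap hr'
  obtain ⟨S, hS, hSC, hS18⟩ := P.big_two_R hQ hcard hr
  obtain ⟨b, hb⟩ := isConj_iff.1 hconj
  set D := Subgroup.centralizer ({z} : Set G) ⊓ Subgroup.centralizer ({r'} : Set G) with hD
  set CR := Subgroup.centralizer ({r'} : Set G)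
  have hkD : Subgroup.zpowers k ≤ D := Subgroup.zpowers_le.2
    ⟨Subgroup.mem_centralizer_singleton_iff.2 hkz, Subgroup.mem_centralizer_singleton_iff.2 hkr⟩
  obtain ⟨T, hT⟩ := (hk2.comap_of_injective D.subtype D.subtype_injective).exists_le_sylow
  set T0 := (T : Subgroup D).map D.subtype with hT0
  have hT0D : T0 ≤ D := Subgroup.map_subtype_le _
  have hT0p : IsPGroup 2 T0 := T.isPGroup'.map _
  have hmax : ∀ U : Subgroup G, IsPGroup 2 U → U ≤ D → T0 ≤ U → U = T0 := by
    intro U hU hUD hle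
    have hle' : (T : Subgroup D) ≤ U.subgroupOf D := fun x hx => Subgroup.mem_subgroupOf.2 (hle ⟨x, hx, rfl⟩)
    have e := T.is_maximal' (hU.comap_of_injective D.subtype D.subtype_injective) hle'
    rw [hT0, ← e]
    exact (Subgroup.map_subgroupOf_eq_of_le hUD).symm
  have hkT : k ∈ T0 := ⟨⟨k, hkD (Subgroup.mem_zpowers k)⟩, hT (Subgroup.mem_zpowers k), rfl⟩
  -- central involutions of `D` belong to it
  have hcen : ∀ v ∈ D, v * v = 1 → (∀ d ∈ D, d * v = v * d) → v ∈ T0 := by
    intro v hvD hv2 hvc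
    have hp : IsPGroup 2 (Subgroup.zpowers v) := by
      intro ⟨w, hw⟩
      obtain ⟨i, rfl⟩ := Subgroup.mem_zpowers_iff.1 hw
      refine ⟨1, Subtype.ext ?_⟩
      show (v ^ i) ^ (2 ^ 1) = 1
      rw [pow_one, pow_two, ← (Commute.refl v).mul_zpow, hv2, one_zpow]
    have hn : T0 ≤ Subgroup.normalizer (Subgroup.zpowers v : Set G) := by
      intro d hd
      refine Subgroup.mem_normalizer_iff.2 fun w => ?_
      have hcomm : ∀ j : ℤ, d * v ^ j * d⁻¹ = v ^ j := fun j => by
        rw [((show Commute d v from hvc d (hT0D hd)).zpow_right j).eq, mul_inv_cancel_right]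
      constructor
      · intro hw; obtain ⟨j, rfl⟩ := Subgroup.mem_zpowers_iff.1 hw; rw [hcomm]; exact hw
      · intro hw
        obtain ⟨j, hj⟩ := Subgroup.mem_zpowers_iff.1 hw
        have : w = v ^ j := by
          rw [← hcomm j] at hj
          exact (mul_left_cancel (mul_right_cancel hj)).symm
        rw [this]; exact Subgroup.zpow_mem_zpowers v j
    have := hmax _ (hT0p.to_sup_of_normal_right' hp hn) (sup_le hT0D (Subgroup.zpowers_le.2 hvD)) le_sup_left
    rw [← this]; exact Subgroup.mem_sup_right (Subgroup.mem_zpowers v)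
  have hzT : z ∈ T0 := hcen z ⟨Subgroup.mem_centralizer_singleton_iff.2 rfl,
    Subgroup.mem_centralizer_singleton_iff.2 hrz.symm⟩ h.ext.zz fun d hd => Subgroup.mem_centralizer_singleton_iff.1 hd.1
  have hrT : r' ∈ T0 := hcen r' ⟨Subgroup.mem_centralizer_singleton_iff.2 hrz,
    Subgroup.mem_centralizer_singleton_iff.2 rfl⟩ hr2 fun d hd => Subgroup.mem_centralizer_singleton_iff.1 hd.2
  -- the part in `Q` belongs to it
  have hQT : Q ⊓ CR ≤ T0 := by
    have hp : IsPGroup 2 (Q ⊓ CR : Subgroup G) := h.two.to_le inf_le_left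
    have hsub : ∀ d, d * z = z * d → d * r' = r' * d → ∀ w ∈ (Q ⊓ CR : Subgroup G), d * w * d⁻¹ ∈ (Q ⊓ CR : Subgroup G) := by
      intro d hdz hdr w hw
      refine ⟨h.ext.norm d hdz w hw.1, ?_⟩
      show d * w * d⁻¹ ∈ CR
      exact mul_mem (mul_mem (Subgroup.mem_centralizer_singleton_iff.2 hdr) hw.2)
        (inv_mem (Subgroup.mem_centralizer_singleton_iff.2 hdr))
    have hn : T0 ≤ Subgroup.normalizer ((Q ⊓ CR : Subgroup G) : Set G) := by
      intro d hd
      have hdz := Subgroup.mem_centralizer_singleton_iff.1 (hT0D hd).1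
      have hdr := Subgroup.mem_centralizer_singleton_iff.1 (hT0D hd).2
      refine Subgroup.mem_normalizer_iff.2 fun w => ⟨hsub d hdz hdr w, fun hw => ?_⟩
      have := hsub d⁻¹ (comm_inv hdz) (comm_inv hdr) _ hw
      simpa [mul_assoc] using this
    have hle : T0 ⊔ (Q ⊓ CR) ≤ D := sup_le hT0D fun w hw =>
      ⟨Subgroup.mem_centralizer_singleton_iff.2 (h.ext.central w hw.1), hw.2⟩
    rw [← hmax _ (hT0p.to_sup_of_normal_right' hp hn) hle le_sup_left]
    exact le_sup_right
  have hT0CR : T0 ≤ CR := fun x hx => (hT0D hx).2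
  have hT0C : T0 ≤ Subgroup.centralizer ({z} : Set G) := fun x hx => (hT0D hx).1
  have hlt := P.small_two_P hQ hcard hr' hT0p hT0C hT0CR hrT
  -- it is properly contained in a Sylow subgroup of the whole centralizer
  obtain ⟨P1, hP1⟩ := (hT0p.comap_of_injective CR.subtype CR.subtype_injective).exists_le_sylow
  set W := (P1 : Subgroup CR).map CR.subtype
  have hW : IsPGroup 2 W := P1.isPGroup'.map _
  have hT0W : T0 ≤ W := fun x hx => ⟨⟨x, hT0CR hx⟩, hP1 hx, rfl⟩
  have hW18 : 2 ^ 18 ≤ Nat.card W := by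
    set S' := S.map (MulAut.conj b).toMonoidHom
    have hS'c : S' ≤ CR := by
      rintro _ ⟨x, hx, rfl⟩
      refine Subgroup.mem_centralizer_singleton_iff.2 ?_
      show b * x * b⁻¹ * r' = r' * (b * x * b⁻¹)
      rw [← hb, conj_mul, conj_mul, Subgroup.mem_centralizer_singleton_iff.1 (hSC hx)]
    obtain ⟨P2, hP2⟩ := ((hS.map (MulAut.conj b).toMonoidHom).comap_of_injective CR.subtype CR.subtype_injective).exists_le_sylow
    have h1 : Nat.card S = Nat.card (S'.subgroupOf CR) := by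
      rw [Nat.card_congr (Subgroup.subgroupOfEquivOfLe hS'c).toEquiv]
      exact Nat.card_congr (S.equivMapOfInjective _ (MulAut.conj b).injective).toEquiv
    have h2 : Nat.card (S'.subgroupOf CR) ≤ Nat.card (P2 : Subgroup CR) :=
      Nat.card_le_card_of_injective (Subgroup.inclusion hP2) (Subgroup.inclusion_injective _)
    have h3 : Nat.card (P1 : Subgroup CR) = Nat.card (P2 : Subgroup CR) := by
      rw [P1.card_eq_multiplicity, P2.card_eq_multiplicity]
    have h4 : Nat.card (P1 : Subgroup CR) = Nat.card W :=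
      Nat.card_congr ((P1 : Subgroup CR).equivMapOfInjective _ CR.subtype_injective).toEquiv
    omega
  haveI : Group.IsNilpotent W := hW.isNilpotent
  have hlt' : T0.subgroupOf W < ⊤ := lt_top_iff_ne_top.2 fun e => by
    have := le_antisymm (Subgroup.subgroupOf_eq_top.1 e) hT0W
    rw [this] at hW18
    omega
  obtain ⟨⟨m, hm⟩, hmn, hmT⟩ := SetLike.exists_of_lt (Group.normalizerCondition_of_isNilpotent _ hlt')
  rw [Subgroup.mem_subgroupOf] at hmT
  have hconj' : ∀ x ∈ T0, m⁻¹ * x * m ∈ T0 := fun x hx => by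
    have := (Subgroup.mem_normalizer_iff''.1 hmn ⟨x, hT0W hx⟩).1 (by rwa [Subgroup.mem_subgroupOf])
    rw [Subgroup.mem_subgroupOf] at this
    exact this
  set z' := m * z * m⁻¹ with hz'
  have hcomT : ∀ x ∈ T0, x * z' = z' * x := fun x hx => by
    have h2 := Subgroup.mem_centralizer_singleton_iff.1 (hT0C (hconj' x hx))
    calc x * z' = m * ((m⁻¹ * x * m) * z) * m⁻¹ := by simp only [hz']; group
      _ = m * (z * (m⁻¹ * x * m)) * m⁻¹ := by rw [h2]
      _ = _ := by simp only [hz']; group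
  have hmr : m * r' = r' * m := by
    obtain ⟨x, -, rfl⟩ := hm
    exact Subgroup.mem_centralizer_singleton_iff.1 x.2
  have hz'ne : z' ≠ z := fun e => by
    have hmz : m * z = z * m := mul_inv_eq_iff_eq_mul.1 e
    have hmD : m ∈ D := ⟨Subgroup.mem_centralizer_singleton_iff.2 hmz, Subgroup.mem_centralizer_singleton_iff.2 hmr⟩
    have e' := hmax (W ⊓ D) (hW.to_le inf_le_left) inf_le_right (le_inf hT0W hT0D)
    exact hmT (e' ▸ (⟨hm, hmD⟩ : m ∈ W ⊓ D))
  have hz'z : z' * z = z * z' := (hcomT z hzT).symm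
  have hz'r : z' * r' = r' * z' := (hcomT r' hrT).symm
  have hz'2 : z' * z' = 1 := by rw [hz', conj_mul, h.ext.zz, mul_one, mul_inv_cancel]
  have hz'1 : z' ≠ 1 := fun e => h.ne (conj_eq_one_iff.1 e)
  obtain ⟨p, hp, hpe⟩ := id hr'
  have hchk := chkX_C
  simp only [chkX, Bool.and_eq_true, List.all_eq_true, decide_eq_true_eq, beq_iff_eq, Bool.not_eq_true'] at hchk
  obtain ⟨⟨⟨⟨⟨⟨⟨⟨⟨⟨hcov, hglt⟩, huX⟩, -⟩, hu0⟩, -⟩, -⟩, -⟩, -⟩, -⟩, -⟩ := hchk
  have huT : ∀ u ∈ uC, Commute z' (P.code.rep u) := fun u hu => by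
    obtain ⟨⟨⟨⟨hult, -⟩, k1⟩, k2⟩, k3⟩ := huX u hu
    have e := P.comm_uX hp hu0 hult k1 k2 k3
    rw [← hpe] at e
    exact (hcomT _ (hQT ⟨P.code.rep_mem u, Subgroup.mem_centralizer_singleton_iff.2 e.symm.eq⟩)).symm
  have hrA' := hrA
  by_cases hz'Q : z' ∈ Q
  · -- inside `Q`
    have hlt := h.lt z' hz'Q
    have hfix : tE 136 (cd z') = cd z' := by
      rw [← hrA.2 _ hlt, h.act_cd hrz hz'Q, ← hz'r, mul_inv_cancel_right]
    have hq : K8.q (cd z') = false := (h.sq_iff hz'Q).1 hz'2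
    have hperp : (uC.all fun u => !bq K8 u (cd z')) = true := List.all_eq_true.2 fun u hu => by
      obtain ⟨⟨⟨⟨hult, -⟩, -⟩, -⟩, -⟩ := huX u hu
      have := (h.commute_iff (P.code.rep_mem u) hz'Q).1 (huT u hu).symm.eq
      rw [h.cd_rep (show u < 2 ^ K8.n from hult)] at this
      rw [this]; rfl
    have he := ext_ok
    simp only [List.all_eq_true, List.mem_range, Bool.or_eq_true, Bool.not_eq_true', beq_eq_false_iff_ne,
      beq_iff_eq] at he
    rcases he _ hlt with (((e | e) | e) | e) | e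
    · exact e hfix
    · rw [hq] at e; exact absurd e (by simp)
    · rw [hperp] at e; exact absurd e (by simp)
    · exact ((h.ker _ hz'Q).1 e).elim hz'1 hz'ne
    · have hk' := hcomT k hkT
      have hkz' : k * z' * k⁻¹ = z' := comm_left_conj hk'
      rcases (h.cd_eq_iff P.hg hz'Q).1 (P.hv.trans e.symm) with e' | e' <;> rw [e'] at hkz'
      · rw [hkt] at hkz'
        exact h.ne (mul_eq_left.1 hkz')
      · rw [show k * (g * z * g⁻¹ * z) * k⁻¹ = (k * (g * z * g⁻¹) * k⁻¹) * (k * z * k⁻¹) by group, hkt,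
          comm_left_conj hkz] at hkz'
        exact h.ne (mul_eq_left.1 hkz')
  -- outside `Q`
  have hfixU : ∀ u ∈ uC, P.code.act z' u = u := fun u hu => by
    obtain ⟨⟨⟨⟨hult, -⟩, -⟩, -⟩, -⟩ := huX u hu
    show cd (z' * P.code.rep u * z'⁻¹) = u
    rw [(huT u hu).eq, mul_inv_cancel_right, h.cd_rep (show u < 2 ^ K8.n from hult)]
  have hmem := P.mem_cands hrA hz'z hz'r (by norm_num) hcov hglt hfixU
  have hcan := candC_ok
  simp only [List.all_eq_true, Bool.or_eq_true, Bool.not_eq_true', Bool.and_eq_true, decide_eq_true_eq,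
    List.any_eq_true, beq_iff_eq, pts, List.mem_range, List.all_eq_false] at hcan
  rcases hcan _ hmem with (⟨a, ha, hne⟩ | hid) | ⟨h64, a, ha, hq⟩
  · refine hne ?_
    rw [tab_getD K8 ha, tab_getD K8 (h.act_lt hz'z a), ← h.act_mul hz'z hz'z ha, hz'2, h.act_one ha]
  · exact hz'Q ((h.mem_iff hz'z).2 fun a ha => by rw [← tab_getD K8 (f := h.act z') ha]; exact hid a ha)
  obtain ⟨d, hd, σ, hσ, hσA⟩ := classify h hcard hz'z hz'2 hz'Q
  set w := d * z' * d⁻¹ with hwdef
  have hw2 : w * w = 1 := sq_conj hz'2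
  have hwd : ∀ a < 256, h.act w (h.act d a) = h.act d (h.act z' a) := fun a ha => by
    rw [hwdef, h.act_mul (comm_mul hd hz'z) (comm_inv hd) (h.act_lt hd a), h.act_inv_left hd ha,
      h.act_mul hd hz'z ha]
  have hcnt : 64 ≤ (fixL K8 (wd K8 σ)).length := by
    refine (of_decide_eq_true h64).trans ?_
    have hnd : (((List.range (2 ^ K8.n)).filter fun a => (tab K8 (h.act z')).getD a 0 == a).map (h.act d)).Nodup :=
      (List.nodup_range.filter _).map_on fun x hx y hy e => by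
        rw [← h.act_inv_left hd (List.mem_range.1 (List.mem_of_mem_filter hx)), e,
          h.act_inv_left hd (List.mem_range.1 (List.mem_of_mem_filter hy))]
    have := hnd.length_le_of_subset (l₂ := fixL K8 (wd K8 σ)) fun x hx => by
      obtain ⟨a, ha, rfl⟩ := List.mem_map.1 hx
      obtain ⟨ha1, ha2⟩ := List.mem_filter.1 ha
      rw [List.mem_range] at ha1
      rw [beq_iff_eq, tab_getD K8 ha1] at ha2
      refine mem_fixL.2 ⟨h.act_lt hd a, ?_⟩
      rw [← hσA.2 _ (h.act_lt hd a), hwd a ha1, ha2]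
    rwa [List.length_map] at this
  rw [tab_getD K8 ha] at hq
  have hq' : K8.q (wd K8 σ (h.act d a) ^^^ h.act d a) = true := by
    rw [← hσA.2 _ (h.act_lt hd a), hwd a ha, ← h.act_xor hd (h.act_lt hz'z a) ha,
      h.act_q hd (xor_lt (h.act_lt hz'z a) ha), hq]
  have hz'conj : IsConj z w := (isConj_iff.2 ⟨m, rfl⟩).trans (isConj_iff.2 ⟨d, rfl⟩)
  obtain ⟨j, hj, hjσ⟩ := List.getElem_of_mem hσ
  rw [sigs_ok.1] at hj
  rw [← hjσ, ← List.getD_eq_getElem _ []] at hcnt hσA hq'
  have hrw := rep_ok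
  simp only [Bool.and_eq_true, List.all_eq_true] at hrw
  have hwj : Wok K8 (sigs.getD j []) = true := by
    rw [List.getD_eq_getElem _ _ (by rw [sigs_ok.1]; exact hj)]; exact hrw.2 _ (List.getElem_mem _)
  have hfo := four_ok
  simp only [List.all_eq_true, Bool.and_eq_true, beq_iff_eq, decide_eq_true_eq] at hfo
  interval_cases j
  · rw [lin_ext (lin_wd h hwj) (lin_tE h (by norm_num)) sigs_ok.2.1 (h.act_lt hd a)] at hq'
    have := a2ts_ok
    simp only [List.all_eq_true, List.mem_range, Bool.not_eq_true'] at this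
    rw [this _ (h.act_lt hd a)] at hq'; exact absurd hq' (by simp)
  · obtain ⟨r1, hr1, hr1c⟩ := P.c2_classP (y := w) ⟨hσA.1, fun a ha => (hσA.2 a ha).trans
      (lin_ext (lin_wd h hwj) (lin_tE h (by norm_num)) sigs_ok.2.2.1 ha)⟩ hw2
    exact P.not_conj_z_P hcard hr1 (hz'conj.trans hr1c.symm)
  all_goals
    first
      | (have := (hfo (8, 2) (by simp)).1.2; dsimp only at this; omega)
      | (have := (hfo (128, 3) (by simp)).1.2; dsimp only at this; omega)
      | (have := (hfo (136, 4) (by simp)).1.2; dsimp only at this; omega)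

theorem same_of (P : Pr z Q cd g) {p p' : G} {w u b : ℕ} (hp : InP P.code g p w) (hp' : InP P.code g p' w)
    (hu : u < 256) (h2 : p' * P.code.rep u * (p' * P.code.rep u) = 1) (hb : b < 256) (hb1 : bq K8 1 b = false)
    (hwb : bq K8 w b = false) (hbu : bq K8 b u = true) (hm0 : (moved (tE w)).contains 0 = true)
    (hm1 : (moved (tE w)).contains 1 = true) : IsConj (p' * P.code.rep u) (p * P.code.rep u) := by
  have h := P.code
  obtain ⟨d1, d2⟩ := P.inP_div hp hp'
  have hcu := h.cd_rep (show u < 2 ^ K8.n from hu)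
  set x := p⁻¹ * p' * P.code.rep u
  have hx : x ∈ Q := mul_mem d1 (P.code.rep_mem u)
  have he : p' * P.code.rep u = p * x := by simp only [x]; group
  have hA : P.code.Acts (p * x) (tE w) := hp.2.2.2.mul_Q hx
  have hm : (moved (tE w)).contains (cd x ^^^ u) = true := by
    rw [h.mul _ d1 _ (P.code.rep_mem u), hcu, Nat.xor_assoc, Nat.xor_self, Nat.xor_zero]
    rcases h.dcases P.pd_ok P.hg P.hne d1 d2 with e | e <;> rw [e]
    · exact hm0
    · rw [P.hv]; exact hm1
  rw [he] at h2 ⊢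
  rcases shift_to h hA h2 hx hu hm with e | e
  · exact e
  · exact e.trans (P.conj_z hp hu hb hb1 hwb hbu).symm

theorem same_R (P : Pr z Q cd g) {r r0 : G} (hr : IsR P r) (hr0 : IsR P r0) : IsConj r r0 := by
  have h2 := (P.isR_spec hr).1
  obtain ⟨p', hp', rfl⟩ := hr
  obtain ⟨p, hp, rfl⟩ := hr0
  exact P.same_of hp hp' (by norm_num) h2 (b := 64) (by norm_num) (by decide +kernel) (by decide +kernel)
    (by decide +kernel) (by decide +kernel) (by decide +kernel)

theorem same_P (P : Pr z Q cd g) {r r0 : G} (hr : IsP P r) (hr0 : IsP P r0) : IsConj r r0 := by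
  have h2 := (P.isP_spec hr).1
  obtain ⟨p', hp', rfl⟩ := hr
  obtain ⟨p, hp, rfl⟩ := hr0
  exact P.same_of hp hp' (by norm_num) h2 (b := 136) (by norm_num) (by decide +kernel) (by decide +kernel)
    (by decide +kernel) (by decide +kernel) (by decide +kernel)

/-- Exactly three classes. -/
theorem three (S : Std z Q cd) (hQ : Nat.card Q = 512)
    (hcard : Nat.card (Subgroup.centralizer ({z} : Set G)) = 42525 * (2 ^ 12 * Nat.card Q)) :
    ∃ a b c : G, orderOf a = 2 ∧ orderOf b = 2 ∧ orderOf c = 2 ∧ ¬ IsConj a b ∧ ¬ IsConj a c ∧ ¬ IsConj b c ∧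
      ∀ x : G, orderOf x = 2 → IsConj x a ∨ IsConj x b ∨ IsConj x c := by
  haveI : Fact (Nat.Prime 2) := ⟨Nat.prime_two⟩
  obtain ⟨g, P⟩ := exists_pr S
  obtain ⟨p, hp⟩ := P.exists_inP small_ok.1
  obtain ⟨p', hp'⟩ := P.exists_inP small_ok.2.2.2.2.1
  have hR : IsR P (p * P.code.rep 4) := ⟨p, hp, rfl⟩
  have hP : IsP P (p' * P.code.rep 42) := ⟨p', hp', rfl⟩
  have hord : ∀ {y : G} {w : ℕ}, P.code.Acts y (tE w) → tE w 16 ≠ 16 → y * y = 1 → orderOf y = 2 := by
    intro y w hA hne h2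
    rw [orderOf_eq_prime_iff, pow_two]
    exact ⟨h2, fun e => hne (by
      rw [← hA.2 16 (by rw [K8_n]; norm_num), e, P.code.act_one (by rw [K8_n]; norm_num)])⟩
  obtain ⟨hR2, -, hRA⟩ := P.isR_spec hR
  obtain ⟨hP2, -, hPA⟩ := P.isP_spec hP
  refine ⟨z, _, _, P.code.ord, hord hRA (by decide +kernel) hR2, hord hPA (by decide +kernel) hP2,
    P.not_conj_z_R hcard hR, P.not_conj_z_P hcard hP, P.not_conj_RP hQ hcard hR hP, fun x hx => ?_⟩
  have hx2 : x * x = 1 := by rw [← pow_two, ← hx, pow_orderOf_eq_one]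
  have hx1 : x ≠ 1 := fun e => by rw [e, orderOf_one] at hx; exact absurd hx (by norm_num)
  rcases P.all_good hcard hx2 hx1 with e | ⟨r, hr, e⟩ | ⟨r, hr, e⟩
  · exact Or.inl e.symm
  · exact Or.inr (Or.inl (e.symm.trans (P.same_R hr hR)))
  · exact Or.inr (Or.inr (e.symm.trans (P.same_P hr hP)))

end Pr

end Cfsg.Agent.Invol.Co1
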