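import Cfsg.Agent.Lib.Invol.Co1.Qt
import Cfsg.Agent.Lib.Invol.Big.Build
import Cfsg.Agent.Lib.Grp.Components

/-!
# A group of first Conway type, in coordinates
-/

set_option autoImplicit false
set_option linter.unusedSectionVars false

namespace Cfsg.Agent.Invol.Co1

open Cfsg Cfsg.Agent.Invol.Big Cfsg.Agent.Classical.BinCoc Cfsg.Agent.Classical Cfsg.Agent.Spor.ExtraOut
  Cfsg.Agent.Invol.Big.Code

variable {G : Type*} [Group G] [Finite G]

/-- Bit positions. -/
def pos8 : Fin 4 ⊕ Fin 4 → ℕ := Sum.elim (fun i => i.val) fun i => 4 + i.val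

theorem pd_ok : chkPair K8 pd = true := by
  simp only [chkPair, Bool.and_eq_true, wok_eq]
  repeat' refine And.intro ?_ ?_
  all_goals decide +kernel

theorem setting_of (z : G) (hz : orderOf z = 2) (Q : Subgroup (Subgroup.centralizer ({z} : Set G))) [Q.Normal]
    (hF : generalizedFittingSubgroup (Subgroup.centralizer ({z} : Set G)) = Q) (hQ : IsExtraspecial 2 Q)
    (hcard : Nat.card Q = 2 ^ 9)
    (e : (Subgroup.centralizer ({z} : Set G)) ⧸ Q ≃* Omega (ZMod 2) (quadFormPlus 4 (ZMod 2)))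
    (hnwc : ∃ g : G, (∃ hq : g * z * g⁻¹ ∈ Subgroup.centralizer ({z} : Set G),
      (⟨g * z * g⁻¹, hq⟩ : Subgroup.centralizer ({z} : Set G)) ∈ Q) ∧ g * z * g⁻¹ ≠ z) :
    ∃ cd : G → ℕ, Std z (Q.map (Subgroup.centralizer ({z} : Set G)).subtype) cd ∧
      Nat.card (Q.map (Subgroup.centralizer ({z} : Set G)).subtype) = 512 ∧
      Nat.card (Subgroup.centralizer ({z} : Set G)) =
        42525 * (2 ^ 12 * Nat.card (Q.map (Subgroup.centralizer ({z} : Set G)).subtype)) := by
  classical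
  have hcq : Subgroup.centralizer (Q : Set (Subgroup.centralizer ({z} : Set G))) ≤ Q := by
    have := Cfsg.Agent.Grp.centralizer_gfitting_le (G := (Subgroup.centralizer ({z} : Set G)))
    rwa [hF] at this
  have hι : Fintype.card ((Fin 3 ⊕ Fin 3) ⊕ Fin 2) = 2 * (3 + 1) := by simp
  have hι4 : Fintype.card (Fin 4 ⊕ Fin 4) = 2 * 4 := by simp
  have hG : OrthAut.GenQ (ZMod 2) (Fin 4 ⊕ Fin 4) := OrthAut.genQ_of_card (Or.inr (by rw [hι4]; norm_num))
  have hP : Nat.card (isometryGroup (ZMod 2) ⇑(qfPlus 4 (ZMod 2))) = 348364800 := by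
    rw [natCard_isometryGroup]
    have := order_qfPlus (F := ZMod 2) 3
    simp [Finset.prod_range_succ, ZMod.card] at this
    exact_mod_cast this
  have hΩ : Nat.card (Omega (ZMod 2) (quadFormPlus 4 (ZMod 2))) = 174182400 := by
    rw [← coe_qfPlus 4]
    have h1 := (Omega (ZMod 2) ⇑(qfPlus 4 (ZMod 2))).card_mul_index
    rw [OrthAut.index_omega_two (nondegenerate_qfPlus 4) hG (show (2 : ZMod 2) = 0 from rfl) (by simp), hP] at h1
    omega
  have hidx : Q.index = 174182400 := by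
    rw [Subgroup.index_eq_card, Nat.card_congr e.toEquiv, hΩ]
  obtain ⟨z0, π, q, d⟩ := exists_data (ι := (Fin 3 ⊕ Fin 3) ⊕ Fin 2) hQ (by rw [hι, hcard]; norm_num)
  have hab : OrthAut.Aniso (ZMod 2) (1 : ZMod 2) 1 := by unfold OrthAut.Aniso; decide
  by_cases hhalf : ∃ U, OrthAut.Half q U
  swap
  · exfalso
    obtain ⟨g, hg⟩ := OrthAut.iso_of_not_half (k := 3) hι (qfMinus 3 (ZMod 2) 1 1) q
      (nondegenerate_qfMinus _ hab) d.nd (OrthAut.not_half_qfMinus hab) hhalf
    have d' := d.transport (Matrix.GeneralLinearGroup.toLin g).toLinearEquiv hg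
    have h1 := Subgroup.card_subgroup_dvd_card (rho z Q d').range
    have hM : Nat.card (isometryGroup (ZMod 2) ⇑(qfMinus 3 (ZMod 2) 1 1)) = 394813440 := by
      rw [natCard_isometryGroup]
      have := order_qfMinus (F := ZMod 2) 3 hab
      simp [Finset.prod_range_succ, ZMod.card] at this
      exact_mod_cast this
    rw [card_range z Q hcq d', hidx, hM] at h1
    norm_num at h1
  obtain ⟨U, hU⟩ := hhalf
  obtain ⟨f, hf⟩ := OrthAut.plus_of_half (k := 4) (by norm_num) (by rw [hι]) d.nd hU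
  have d' := d.transport f hf
  have hle := omega_le_range z Q d' (by rw [card_range z Q hcq d', hidx, hP])
  obtain ⟨cd, hcd⟩ := code_of z hz Q hcq d' hle hG 8 qb pos8 (by rw [coe_qfPlus]; decide +kernel)
    (by decide +kernel) (by decide +kernel)
  have hQ512 : Nat.card (Q.map (Subgroup.centralizer ({z} : Set G)).subtype) = 512 := by
    rw [← Nat.card_congr (Q.equivMapOfInjective _ Subtype.coe_injective).toEquiv, hcard]; norm_num
  refine ⟨cd, ⟨hcd, by rw [hQ512]; norm_num, pd_ok, ?_⟩, hQ512, ?_⟩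
  · obtain ⟨a, ⟨hq, hQ'⟩, hne⟩ := hnwc
    exact ⟨a, ⟨_, hQ', rfl⟩, hne⟩
  · rw [hQ512, card_centralizer z Q hcq d', card_range z Q hcq d', hidx, hcard]; norm_num

end Cfsg.Agent.Invol.Co1
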