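import Cfsg.Agent.Lib.Invol.Co1.Lin

/-!
# A full subgroup of two-power order in the image, and its involutive elements
-/

set_option autoImplicit false
set_option linter.unusedSectionVars false

namespace Cfsg.Agent.Invol.Co1

open Cfsg.Agent.Classical.BinCoc Cfsg.Agent.Invol.Big Cfsg.Agent.Invol.Big.Code

/-- A basis of the complement. -/
def rb : List ℕ := [2, 4, 8, 32, 64, 128]

/-- The word of the translation by `w`. -/
def eT (w : ℕ) : List ℕ := tW.getD (rs.idxOf w) []

/-- The indices of a translation. -/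
def ixT (w : ℕ) : List ℕ := (List.range 6).filter fun i => w &&& rb.getD i 0 != 0

/-- The data. -/
def sd : SylData where
  gens := rb.map eT ++ lg
  elems := (rs.product el).map fun p => ixT p.1 ++ p.2.map (· + 6)
  conj := []
  lev := 12

/-- The word of an element of the complement. -/
def lw (l : List ℕ) : List ℕ := l.flatMap fun i => lg.getD i []

theorem gens_ok : sd.gens.all (Wok K8) = true := by
  simp only [wok_eq]
  decide +kernel

theorem idx_ok : ((rs.all fun w => (ixT w).all fun i => decide (i < 6)) &&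
    el.all fun l => l.all fun i => decide (i < 6)) = true := by decide +kernel

theorem gens_len : sd.gens.length = 12 := by decide +kernel

theorem ewd_ok : (rs.all fun w => el.all fun l =>
    ewd sd (ixT w ++ l.map (· + 6)) == ewd sd (ixT w) ++ lw l) = true := by decide +kernel

theorem tT_ok : (rs.all fun w => bt (wd K8 (ewd sd (ixT w))) == bt (tE w)) = true := by decide +kernel

theorem add_ok : (rs.all fun w => decide (w < 256) && rb.all fun b => rs.contains (b ^^^ w) &&
    bt (fun a => tE b (tE w a)) == bt (tE (b ^^^ w))) = true := by decide +kernel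

theorem sum_ok : (rs.all fun w => rs.all fun v => rs.contains (w ^^^ v) &&
    bt (fun a => tE w (tE v a)) == bt (tE (w ^^^ v))) = true := by decide +kernel

theorem inj_ok : ((rs.map fun w => tE w 16).Nodup ∧ rs.Nodup ∧ el.Nodup ∧ 0 ∈ rs ∧ tE 0 16 = 16 ∧
    (el.map fun l => bt (wd K8 (lw l))).Nodup ∧ [] ∈ el ∧ ixT 0 = [] ∧ rs.length = 64 ∧ el.length = 64) := by
  decide +kernel

theorem lg_ok : (lg.all fun g => wd K8 g 1 == 1 && wd K8 g 16 == 16 && rs.all fun w => rs.contains (wd K8 g w)) = true := by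
  decide +kernel

theorem lclose_ok : (lg.all fun g => el.all fun l =>
    (el.map fun l' => bt (wd K8 (lw l'))).contains (bt fun a => wd K8 g (wd K8 (lw l) a))) = true := by
  decide +kernel

theorem el_ok : (el.all fun l => wd K8 (lw l) 1 == 1 && wd K8 (lw l) 16 == 16 &&
    rs.all fun w => rs.contains (wd K8 (lw l) w)) = true := by decide +kernel

theorem lk_ok : ((List.range 64).all fun j =>
    if (lk.getD j ([], 9)).2 < 3 then
      let k := (lk.getD j ([], 9)).1
      let r := lrep.getD (lk.getD j ([], 9)).2 []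
      Wok K8 k && wd K8 k 1 == 1 && wd K8 k 16 == 16 && (rs.all fun w => rs.contains (wd K8 k w)) &&
        bt (fun a => wd K8 k (wd K8 (lw (el.getD j [])) a)) == bt (fun a => wd K8 r (wd K8 k a))
    else bt (fun a => wd K8 (lw (el.getD j [])) (wd K8 (lw (el.getD j [])) a)) != bt id) = true := by
  simp only [wok_eq]
  decide +kernel

theorem rep_ok : (lrep.all (Wok K8) && sigs.all (Wok K8)) = true := by
  simp only [wok_eq]
  decide +kernel

/-- The action of one entry. -/
def ckF (t j a : ℕ) : ℕ := tE (rs.getD j 0) (wd K8 (lrep.getD t []) a)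

/-- The check of one entry. -/
def ckE (t j : ℕ) : Bool :=
  if ((ck.getD t []).getD j ([], 9)).2 < 5 then
    Wok K8 ((ck.getD t []).getD j ([], 9)).1 &&
      bt (fun a => wd K8 ((ck.getD t []).getD j ([], 9)).1 (ckF t j a)) ==
        bt (fun a => wd K8 (sigs.getD ((ck.getD t []).getD j ([], 9)).2 []) (wd K8 ((ck.getD t []).getD j ([], 9)).1 a))
  else bt (ckF t j) == bt id || bt (fun a => ckF t j (ckF t j a)) != bt id

theorem ck_ok : ((List.range 3).all fun t => (List.range 64).all fun j => ckE t j) = true := by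
  unfold ckE
  simp only [wok_eq]
  decide +kernel

theorem tE_zero (a : ℕ) : tE 0 a = a := by
  have hq : K8.q 0 = false := by decide +kernel
  simp [tE, bq, hq]

variable {G : Type*} [Group G] {z : G} {Q : Subgroup G} {cd : G → ℕ}

theorem lin_flat (h : Code K8 z Q cd) : ∀ (L : List (List ℕ)), (∀ g ∈ L, Wok K8 g = true) →
    Lin (wd K8 L.flatten) ∧ ∀ a < 256, wd K8 L.flatten a < 256
  | [], _ => ⟨fun _ _ _ _ => rfl, fun _ ha => ha⟩
  | g :: L, hL => by
    obtain ⟨h1, h2⟩ := lin_flat h L fun g' hg' => hL g' (List.mem_cons_of_mem _ hg')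
    have hg := hL g (List.mem_cons_self ..)
    refine ⟨fun a ha b hb => ?_, fun a ha => ?_⟩
    · rw [List.flatten_cons, wd_append, wd_append, wd_append]
      exact Lin.comp (lin_wd h hg) h1 h2 a ha b hb
    · rw [List.flatten_cons, wd_append]
      exact wok_lt hg (h2 a ha)

theorem lin_getD (h : Code K8 z Q cd) (gs : List (List ℕ)) (hgs : ∀ g ∈ gs, Wok K8 g = true) (l : List ℕ)
    (hl : ∀ i ∈ l, i < gs.length) :
    Lin (wd K8 (l.flatMap fun i => gs.getD i [])) ∧ ∀ a < 256, wd K8 (l.flatMap fun i => gs.getD i []) a < 256 := by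
  rw [List.flatMap_def]
  refine lin_flat h _ fun g hg => ?_
  obtain ⟨i, hi, rfl⟩ := List.mem_map.1 hg
  rw [List.getD_eq_getElem _ _ (hl i hi)]
  exact hgs _ (List.getElem_mem _)

theorem wok_lg : ∀ g ∈ lg, Wok K8 g = true := fun g hg =>
  (List.all_eq_true.1 gens_ok) g (List.mem_append_right _ hg)

theorem lin_lw (h : Code K8 z Q cd) {l : List ℕ} (hl : l ∈ el) :
    Lin (wd K8 (lw l)) ∧ ∀ a < 256, wd K8 (lw l) a < 256 := by
  have := idx_ok
  simp only [Bool.and_eq_true, List.all_eq_true, decide_eq_true_eq] at this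
  exact lin_getD h lg wok_lg l fun i hi => lt_of_lt_of_eq (this.2 l hl i hi) (by decide +kernel)

theorem rs_lt {w : ℕ} (hw : w ∈ rs) : w < 256 := by
  have := add_ok
  simp only [Bool.and_eq_true, List.all_eq_true, decide_eq_true_eq] at this
  exact (this w hw).1

theorem tT_eq (h : Code K8 z Q cd) {w : ℕ} (hw : w ∈ rs) {a : ℕ} (ha : a < 256) :
    wd K8 (ewd sd (ixT w)) a = tE w a := by
  have hI := idx_ok
  simp only [Bool.and_eq_true, List.all_eq_true, decide_eq_true_eq] at hI
  have hlin := lin_getD h sd.gens (List.all_eq_true.1 gens_ok) (ixT w) fun i hi => by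
    rw [gens_len]; exact lt_trans (hI.1 w hw i hi) (by norm_num)
  have ht := tT_ok
  simp only [List.all_eq_true, beq_iff_eq] at ht
  exact lin_ext hlin.1 (lin_tE h (rs_lt hw)) (ht w hw) ha

theorem add_eq (h : Code K8 z Q cd) {w v : ℕ} (hw : w ∈ rs) (hv : v ∈ rs) {a : ℕ} (ha : a < 256) :
    w ^^^ v ∈ rs ∧ tE w (tE v a) = tE (w ^^^ v) a := by
  have ht := sum_ok
  simp only [List.all_eq_true, beq_iff_eq, Bool.and_eq_true, List.contains_iff_mem] at ht
  exact ⟨(ht w hw v hv).1, lin_ext (Lin.comp (lin_tE h (rs_lt hw)) (lin_tE h (rs_lt hv))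
    fun b hb => tE_lt (rs_lt hv) hb) (lin_tE h (xor_lt (rs_lt hw) (rs_lt hv))) (ht w hw v hv).2 ha⟩

theorem wd_tE (h : Code K8 z Q cd) {g : List ℕ} (hg : Wok K8 g = true) (h1 : wd K8 g 1 = 1) {w a : ℕ}
    (hw : w < 256) (ha : a < 256) : wd K8 g (tE w a) = tE (wd K8 g w) (wd K8 g a) := by
  obtain ⟨c, hc, hca⟩ := h.exists_lift hg
  rw [← hca w hw, ← hca a ha, ← hca _ (tE_lt hw ha)]
  exact conj_tE h hc (by rw [hca 1 (by rw [K8_n]; norm_num), h1]) hw ha

theorem elems_eq (h : Code K8 z Q cd) {w : ℕ} {l : List ℕ} (hw : w ∈ rs) (hl : l ∈ el) {a : ℕ} (ha : a < 256) :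
    wd K8 (ewd sd (ixT w ++ l.map (· + 6))) a = tE w (wd K8 (lw l) a) := by
  have he := ewd_ok
  simp only [List.all_eq_true, beq_iff_eq] at he
  rw [he w hw l hl, wd_append, tT_eq h hw ((lin_lw h hl).2 a ha)]

theorem syl_ok (h : Code K8 z Q cd) : chkSyl K8 sd = true := by
  obtain ⟨hti, hrn, hen, h0, h016, hln, hnil, hix0, hrl, hell⟩ := inj_ok
  have hI := idx_ok
  have hadd := add_ok
  have hlg := lg_ok
  have hlc := lclose_ok
  have hel := el_ok
  simp only [Bool.and_eq_true, List.all_eq_true, decide_eq_true_eq, beq_iff_eq, List.contains_iff_mem,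
    List.mem_map] at hI hadd hlg hlc hel
  have hmem : ∀ {ix : List ℕ}, ix ∈ sd.elems → ∃ w ∈ rs, ∃ l ∈ el, ixT w ++ l.map (· + 6) = ix := by
    intro ix hix
    obtain ⟨⟨w, l⟩, hp, rfl⟩ := List.mem_map.1 hix
    obtain ⟨h1, h2⟩ := List.mem_product.1 hp
    exact ⟨w, h1, l, h2, rfl⟩
  simp only [chkSyl, Bool.and_eq_true, List.all_eq_true, decide_eq_true_eq, List.contains_iff_mem,
    List.mem_range]
  refine ⟨⟨⟨⟨⟨List.all_eq_true.1 gens_ok, ?_⟩, ?_⟩, ?_⟩, ?_⟩, ?_⟩
  · intro ix hix i hi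
    obtain ⟨w, hw, l, hl, rfl⟩ := hmem hix
    rw [gens_len]
    rcases List.mem_append.1 hi with hi | hi
    · exact lt_trans (hI.1 w hw i hi) (by norm_num)
    · obtain ⟨j, hj, rfl⟩ := List.mem_map.1 hi
      have := hI.2 l hl j hj
      omega
  · show (List.map _ _).length = 2 ^ 12
    rw [List.length_map, show (rs.product el).length = rs.length * el.length from List.length_product .., hrl, hell]
    norm_num
  · show (List.map _ (List.map _ _)).Nodup
    rw [List.map_map]
    refine List.Nodup.map_on ?_ (hrn.product hen)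
    rintro ⟨w, l⟩ hp ⟨w', l'⟩ hp' e
    obtain ⟨hw, hl⟩ := List.mem_product.1 hp
    obtain ⟨hw', hl'⟩ := List.mem_product.1 hp'
    simp only [Function.comp_apply, etab, tab_eq_iff, K8_n] at e
    have key : ∀ a < 256, tE w (wd K8 (lw l) a) = tE w' (wd K8 (lw l') a) := fun a ha => by
      rw [← elems_eq h hw hl ha, ← elems_eq h hw' hl' ha, e a ha]
    have e16 := key 16 (by norm_num)
    rw [(hel l hl).1.2, (hel l' hl').1.2] at e16
    obtain rfl : w = w' := List.inj_on_of_nodup_map hti hw hw' e16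
    refine Prod.ext rfl (List.inj_on_of_nodup_map hln hl hl' ?_)
    refine List.map_congr_left fun i hi => ?_
    have hb : (2 : ℕ) ^ i < 256 :=
      lt_of_lt_of_eq (Nat.pow_lt_pow_right (by norm_num) (List.mem_range.1 hi)) (by norm_num)
    have k := congrArg (tE w) (key _ hb)
    rw [(add_eq h hw hw ((lin_lw h hl).2 _ hb)).2, (add_eq h hw hw ((lin_lw h hl').2 _ hb)).2, Nat.xor_self] at k
    rwa [tE_zero, tE_zero] at k
  · refine List.mem_map.2 ⟨_, List.mem_map.2 ⟨(0, []), List.mem_product.2 ⟨h0, hnil⟩, rfl⟩, ?_⟩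
    rw [etab, hix0]
    rfl
  · intro i hi ix hix
    obtain ⟨w, hw, l, hl, rfl⟩ := hmem hix
    rw [gens_len] at hi
    have hrb : rb.length = 6 := rfl
    suffices ∃ w' ∈ rs, ∃ l' ∈ el, ∀ a < 256,
        tE w' (wd K8 (lw l') a) = wd K8 (sd.gens.getD i []) (tE w (wd K8 (lw l) a)) by
      obtain ⟨w', hw', l', hl', e⟩ := this
      refine List.mem_map.2 ⟨_, List.mem_map.2 ⟨(w', l'), List.mem_product.2 ⟨hw', hl'⟩, rfl⟩, ?_⟩
      rw [etab, etab, tab, tab, List.map_map]
      refine List.map_inj_left.2 fun a ha => ?_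
      have ha' : a < 256 := List.mem_range.1 ha
      rw [Function.comp_apply, elems_eq h hw hl ha', elems_eq h hw' hl' ha', e a ha']
    by_cases h6 : i < 6
    · have hb : rb.getD i 0 ∈ rs := by interval_cases i <;> decide +kernel
      refine ⟨rb.getD i 0 ^^^ w, (add_eq h hb hw (a := 0) (by norm_num)).1, l, hl, fun a ha => ?_⟩
      have hx := tE_lt (rs_lt hw) ((lin_lw h hl).2 a ha)
      rw [← (add_eq h hb hw ((lin_lw h hl).2 a ha)).2, ← tT_eq h hb hx]
      interval_cases i <;> rfl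
    · have hg : sd.gens.getD i [] ∈ lg := by interval_cases i <;> decide +kernel
      set g := sd.gens.getD i []
      have hgw := wok_lg g hg
      obtain ⟨l', hl', e⟩ := hlc g hg l hl
      refine ⟨wd K8 g w, (hlg g hg).2 w hw, l', hl', fun a ha => ?_⟩
      rw [wd_tE h hgw (hlg g hg).1.1 (rs_lt hw) ((lin_lw h hl).2 a ha)]
      congr 1
      exact lin_ext (lin_lw h hl').1 (Lin.comp (lin_wd h hgw) (lin_lw h hl).1 (lin_lw h hl).2) e ha

/-- The full subgroup, with its actions in normal form. -/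
theorem exists_full [Finite G] (h : Code K8 z Q cd)
    (hcard : Nat.card (Subgroup.centralizer ({z} : Set G)) = 42525 * (2 ^ 12 * Nat.card Q)) :
    ∃ H : Subgroup G, IsTwoFull z Q H ∧
      ∀ x ∈ H, ∃ w ∈ rs, ∃ l ∈ el, h.Acts x (fun a => tE w (wd K8 (lw l) a)) := by
  obtain ⟨H, hH, hact⟩ := h.exists_syl (syl_ok h) (by decide : Odd 42525) hcard
  refine ⟨H, hH, fun x hx => ?_⟩
  obtain ⟨ix, hix, ha⟩ := hact x hx
  obtain ⟨⟨w, l⟩, hp, rfl⟩ := List.mem_map.1 hix
  obtain ⟨hw, hl⟩ := List.mem_product.1 hp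
  exact ⟨w, hw, l, hl, Subgroup.mem_centralizer_singleton_iff.1 (hH.le hx),
    fun a ha' => (ha a ha').trans (elems_eq h hw hl ha')⟩

/-- Involutions outside `Q` act in one of five ways. -/
theorem classify [Finite G] (h : Code K8 z Q cd)
    (hcard : Nat.card (Subgroup.centralizer ({z} : Set G)) = 42525 * (2 ^ 12 * Nat.card Q))
    {x : G} (hx : x * z = z * x) (hx2 : x * x = 1) (hxQ : x ∉ Q) :
    ∃ c, c * z = z * c ∧ ∃ σ ∈ sigs, h.Acts (c * x * c⁻¹) (wd K8 σ) := by
  obtain ⟨H, hH, hact⟩ := exists_full h hcard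
  obtain ⟨c, hc, hcH⟩ := hH.conj_mem hx hx2
  set y := c * x * c⁻¹ with hy
  have hy2 : y * y = 1 := by rw [hy, conj_mul, hx2, mul_one, mul_inv_cancel]
  have hyQ : y ∉ Q := fun e => hxQ (by
    have := h.ext.norm c⁻¹ (comm_inv hc) y e
    rwa [hy, inv_inv, show c⁻¹ * (c * x * c⁻¹) * c = x by group] at this)
  obtain ⟨w, hw, l, hl, hya⟩ := hact y hcH
  obtain ⟨hll, hlb⟩ := lin_lw h hl
  obtain ⟨hti, -, -, h0, h016, -⟩ := inj_ok
  have hel := el_ok
  simp only [Bool.and_eq_true, List.all_eq_true, beq_iff_eq, List.contains_iff_mem] at hel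
  obtain ⟨⟨hl1, hl16⟩, hlw⟩ := hel l hl
  -- the part in the complement is an involution
  set L := wd K8 (lw l)
  have hsq : ∀ a < 256, tE w (L (tE w (L a))) = a := fun a ha => by
    have := h.act_mul hya.1 hya.1 (a := a) ha
    rw [hy2, h.act_one (a := a) ha, hya.2 a ha, hya.2 _ (tE_lt (rs_lt hw) (hlb a ha))] at this
    exact this.symm
  have hLT : ∀ a < 256, L (tE w a) = tE (L w) (L a) := by
    obtain ⟨d, hd, hda⟩ : ∃ d, d * z = z * d ∧ ∀ a < 256, h.act d a = L a := by
      suffices ∀ L' : List (List ℕ), (∀ g ∈ L', Wok K8 g = true) →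
          ∃ d, d * z = z * d ∧ ∀ a < 256, h.act d a = wd K8 L'.flatten a by
        obtain ⟨d, hd, hda⟩ := this (l.map fun i => lg.getD i []) fun g hg => by
          obtain ⟨i, hi, rfl⟩ := List.mem_map.1 hg
          have hI := idx_ok
          simp only [Bool.and_eq_true, List.all_eq_true, decide_eq_true_eq] at hI
          rw [List.getD_eq_getElem _ _ (lt_of_lt_of_eq (hI.2 l hl i hi) (by decide +kernel))]
          exact wok_lg _ (List.getElem_mem _)
        exact ⟨d, hd, fun a ha => by rw [hda a ha]; simp [L, lw, List.flatMap_def]⟩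
      intro L'
      induction L' with
      | nil => exact fun _ => ⟨1, by simp, fun a ha => h.act_one ha⟩
      | cons g L' ih =>
        intro hL'
        obtain ⟨d, hd, hda⟩ := ih fun g' hg' => hL' g' (List.mem_cons_of_mem _ hg')
        obtain ⟨e, he, hea⟩ := h.exists_lift (hL' g (List.mem_cons_self ..))
        refine ⟨e * d, comm_mul he hd, fun a ha => ?_⟩
        rw [h.act_mul he hd ha, hea _ (h.act_lt hd a), hda a ha, List.flatten_cons, wd_append]
    intro a ha
    rw [← hda a ha, ← hda w (rs_lt hw), ← hda _ (tE_lt (rs_lt hw) ha)]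
    exact conj_tE h hd (by rw [hda 1 (by norm_num)]; exact hl1) (rs_lt hw) ha
  have hsum : ∀ a < 256, tE (w ^^^ L w) (L (L a)) = a := fun a ha => by
    rw [← (add_eq h hw (hlw w hw) (hlb _ (hlb a ha))).2, ← hLT _ (hlb a ha)]
    exact hsq a ha
  have hw' : w ^^^ L w = 0 := by
    have e := hsum 16 (by norm_num)
    rw [hl16, hl16] at e
    exact List.inj_on_of_nodup_map hti (add_eq h hw (hlw w hw) (a := 0) (by norm_num)).1 h0 (e.trans h016.symm)
  have hLL : bt (fun a => L (L a)) = bt id := List.map_congr_left fun i hi => by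
    have hb : (2 : ℕ) ^ i < 256 :=
      lt_of_lt_of_eq (Nat.pow_lt_pow_right (by norm_num) (List.mem_range.1 hi)) (by norm_num)
    have e := hsum _ hb
    rw [hw'] at e
    rwa [tE_zero] at e
  -- normalize the part in the complement
  obtain ⟨j, hj, hjl⟩ := List.getElem_of_mem hl
  obtain ⟨-, -, -, -, -, -, -, -, hrl, hell⟩ := inj_ok
  have hlk := lk_ok
  simp only [List.all_eq_true, List.mem_range] at hlk
  have hk := hlk j (hell ▸ hj)
  rw [List.getD_eq_getElem _ _ hj, hjl] at hk
  split_ifs at hk with ht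
  · simp only [Bool.and_eq_true, List.all_eq_true, beq_iff_eq, List.contains_iff_mem] at hk
    obtain ⟨⟨⟨⟨hkw, hk1⟩, -⟩, hkrs⟩, hkeq⟩ := hk
    set k := (lk.getD j ([], 9)).1
    set t := (lk.getD j ([], 9)).2
    obtain ⟨d, hd, hda⟩ := h.exists_lift hkw
    have hrw := rep_ok
    simp only [Bool.and_eq_true, List.all_eq_true] at hrw
    have hrt : Wok K8 (lrep.getD t []) = true := by
      rw [List.getD_eq_getElem _ _ (lt_of_lt_of_eq ht rfl)]
      exact hrw.1 _ (List.getElem_mem _)
    have hkl : ∀ a < 256, wd K8 k (L a) = wd K8 (lrep.getD t []) (wd K8 k a) := fun a ha =>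
      lin_ext (Lin.comp (lin_wd h hkw) hll hlb) (Lin.comp (lin_wd h hrt) (lin_wd h hkw) fun b hb => wok_lt hkw hb)
        hkeq ha
    obtain ⟨j', hj', hjw⟩ := List.getElem_of_mem (hkrs w hw)
    have hf : h.Acts (d * y * d⁻¹) (fun a => tE (rs.getD j' 0) (wd K8 (lrep.getD t []) a)) := by
      refine Acts.conj hya ⟨hd, hda⟩ fun a ha _ => ?_
      show wd K8 k (tE w (L a)) = tE (rs.getD j' 0) _
      rw [wd_tE h hkw hk1 (rs_lt hw) (hlb a ha), hkl a ha, List.getD_eq_getElem _ _ hj', hjw]
    have hf2 : d * y * d⁻¹ * (d * y * d⁻¹) = 1 := by rw [conj_mul, hy2, mul_one, mul_inv_cancel]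
    have hfQ : d * y * d⁻¹ ∉ Q := fun e => hyQ (by
      have := h.ext.norm d⁻¹ (comm_inv hd) _ e
      rwa [inv_inv, show d⁻¹ * (d * y * d⁻¹) * d = y by group] at this)
    set y' := d * y * d⁻¹ with hy'
    set f := fun a => tE (rs.getD j' 0) (wd K8 (lrep.getD t []) a) with hfdef
    have hwj : rs.getD j' 0 < 256 := by rw [List.getD_eq_getElem _ _ hj']; exact rs_lt (List.getElem_mem _)
    have hflin : Lin f := Lin.comp (lin_tE h hwj) (lin_wd h hrt) fun b hb => wok_lt hrt hb
    have hck := ck_ok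
    simp only [List.all_eq_true, List.mem_range] at hck
    have hd' := hck t ht j' (hrl ▸ hj')
    unfold ckE ckF at hd'
    split_ifs at hd' with hs
    · simp only [Bool.and_eq_true, beq_iff_eq] at hd'
      obtain ⟨hdk, hdeq⟩ := hd'
      obtain ⟨e, he, hea⟩ := h.exists_lift hdk
      set si := ((ck.getD t []).getD j' ([], 9)).2
      have hsm : sigs.getD si [] ∈ sigs := by
        rw [List.getD_eq_getElem _ _ (lt_of_lt_of_eq hs rfl)]; exact List.getElem_mem _
      refine ⟨e * d * c, comm_mul (comm_mul he hd) hc, _, hsm, ?_⟩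
      rw [show e * d * c * x * (e * d * c)⁻¹ = e * y' * e⁻¹ by rw [hy', hy]; group]
      refine Acts.conj hf ⟨he, hea⟩ fun a ha _ => ?_
      exact lin_ext (f := fun a => wd K8 _ (f a)) (g := fun a => wd K8 _ (wd K8 _ a))
        (Lin.comp (lin_wd h hdk) hflin fun b hb => tE_lt hwj (wok_lt hrt hb))
        (Lin.comp (lin_wd h (hrw.2 _ hsm)) (lin_wd h hdk) fun b hb => wok_lt hdk hb) hdeq ha
    · exfalso
      simp only [Bool.or_eq_true, beq_iff_eq, bne_iff_ne] at hd'
      rcases hd' with e | e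
      · exact hfQ ((h.mem_iff hf.1).2 fun a ha => (hf.2 a ha).trans (lin_ext hflin lin_id e ha))
      · refine e (List.map_congr_left fun i hi => ?_)
        have hb : (2 : ℕ) ^ i < 256 :=
          lt_of_lt_of_eq (Nat.pow_lt_pow_right (by norm_num) (List.mem_range.1 hi)) (by norm_num)
        show f (f (2 ^ i)) = 2 ^ i
        rw [← hf.2 _ hb, ← hf.2 _ (h.act_lt hf.1 _), ← h.act_mul hf.1 hf.1 hb, hf2, h.act_one hb]
  · rw [bne_iff_ne] at hk
    exact absurd hLL hk

end Cfsg.Agent.Invol.Co1
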